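import Cfsg.Agent.Lib.SolvableSignalizer.CoreSeparated
import Cfsg.Agent.Lib.Coprime.CommGen.Statement

/-!
# Generation of fixed points for four-groups, given the odd order theorem
-/

set_option autoImplicit false
set_option linter.style.haveILetI false

open Subgroup

namespace Cfsg.Agent.SolvableSignalizer.CoreSeparated

universe u

variable {G : Type u} [Group G] [Finite G]

/-- The fixed points of a four-group on an odd group `P = ⁅P, B⁆` are generated by the
commutators from the centralizers of its involutions. -/
theorem fixedGenerated (hFT : ∀ H : Subgroup G, Odd (Nat.card H) → Group.IsSolvable H) :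
    FixedGenerated G := by
  intro B P H hB hcard hodd hBP hPB hv
  have hc : IsMulCommutative ↥B := hB.1
  rw [Coprime.CommGen.generation B B P (IsPGroup.of_card (n := 2) hcard) hc le_rfl hodd (hFT P hodd)
    hBP hPB]
  refine iSup_le fun B₀ => ?_
  obtain ⟨B₀, hle, hcyc⟩ := B₀
  rcases B₀.bot_or_exists_ne_one with h | ⟨v, hv0, hv1⟩
  · exfalso
    subst h
    haveI : ((⊥ : Subgroup G).subgroupOf B).Normal := by rw [Subgroup.bot_subgroupOf]; infer_instance
    haveI := hcyc
    have e : ↥B ⧸ (⊥ : Subgroup G).subgroupOf B ≃* ↥B :=
      (QuotientGroup.quotientMulEquivOfEq (Subgroup.bot_subgroupOf B)).trans QuotientGroup.quotientBot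
    have hcycB : IsCyclic ↥B := e.isCyclic.mp inferInstance
    obtain ⟨g, hg⟩ := hcycB.exists_generator
    have h1 : Nat.card B = orderOf g := (orderOf_eq_card_of_forall_mem_zpowers hg).symm
    have h2 : orderOf g ∣ 2 := orderOf_dvd_of_pow_eq_one (Subtype.ext (hB.2 g.1 g.2))
    rw [← h1, hcard] at h2
    exact absurd h2 (by norm_num)
  · exact le_trans (inf_le_inf_left _ (commutator_mono
      (inf_le_inf_left _ (centralizer_le (Set.singleton_subset_iff.mpr hv0))) le_rfl))
      (hv v (hle hv0) hv1)

end Cfsg.Agent.SolvableSignalizer.CoreSeparated
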