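import Cfsg.Agent.Lib.SolvableSignalizer.Tools

/-!
A node whose Fitting subgroup involves every prime captures the normalisers of all its pieces.
-/

set_option autoImplicit false
set_option linter.style.haveILetI false
set_option linter.unusedSectionVars false

namespace Cfsg.Agent.SolvableSignalizer

open Subgroup
open Cfsg.Agent.Components
open scoped Pointwise

universe u

variable {G : Type u} [Group G] [Finite G] {r : ℕ} {A : Subgroup G} {θ : G → Subgroup G}

/-- A node with at least two primes in its Fitting subgroup, among them all those of every node. -/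
structure IsFull (r : ℕ) (A : Subgroup G) (θ : G → Subgroup G) (M : Subgroup G) : Prop where
  node : IsNode r A θ M
  big : ∀ N, IsNode r A θ N → ∀ s, InFit s N → InFit s M
  mixed : ∃ s t, InFit s M ∧ InFit t M ∧ s ≠ t

namespace IsFull

variable (h : Minimal r A θ) (hp : PureFacts r A θ) {M : Subgroup G} (F : IsFull r A θ M)
include h hp F

lemma exists_other (s : ℕ) : ∃ t, InFit t M ∧ t ≠ s := by
  obtain ⟨a, b, ha, hb, hab⟩ := F.mixed
  by_cases has : a = s
  · exact ⟨b, hb, fun e => hab (has.trans e.symm)⟩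
  · exact ⟨a, ha, has⟩

/-- A node containing a captured piece of each `O_s(M)` is `M`. -/
lemma eq_of_pieces {N : Subgroup G} (hN : IsNode r A θ N)
    (hpieces : ∀ s, InFit s M → ∃ U, IsXA r A θ U ∧ U ≠ ⊥ ∧ U ≤ Cfsg.pCoreOf s M ∧ U ≤ N ∧
      Captured r A θ U M) : N = M := by
  have hFN : fitOf N ≤ M := fitOf_le_of_forall fun s hs => by
    by_cases hsN : InFit s N
    · have hsM := F.big N hN s hsN
      obtain ⟨t, ht, hts⟩ := F.exists_other h hp s
      obtain ⟨U, hU, -, hUs, hUN, hUc⟩ := hpieces s hsM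
      obtain ⟨V, -, -, hVt, hVN, hVc⟩ := hpieces t ht
      exact h.pCore_le_of_pair hs ht.1 hts.symm hN hU hUs hUc hVt hVc hUN hVN
    · have : Cfsg.pCoreOf s N = ⊥ := by
        by_contra hne
        exact hsN ⟨hs, hne⟩
      exact this ▸ bot_le
  refine h.eq_of_fit_le hp hN F.node hFN (fitOf_le_of_forall fun s hs => ?_)
  by_cases hsM : InFit s M
  · refine h.pCore_le_of_fit_le hp hN F.node hFN (by_contra fun hnot => ?_)
    obtain ⟨U, -, hU1, hUs, hUN, -⟩ := hpieces s hsM
    exact hU1 (le_bot_iff.mp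
      ((le_inf hUs hUN).trans (Minimal.pCore_inf_eq_bot hN.mem.1 hFN hs hnot).le))
  · have : Cfsg.pCoreOf s M = ⊥ := by
      by_contra hne
      exact hsM ⟨hs, hne⟩
    exact this ▸ bot_le

lemma captured_of_le {s : ℕ} {U : Subgroup G} (hU : IsXA r A θ U) (hU1 : U ≠ ⊥)
    (hle : U ≤ Cfsg.pCoreOf s M) (hs : InFit s M) : Captured r A θ U M := by
  haveI := Fact.mk hs.1
  obtain ⟨N, hN, hNle⟩ := h.exists_node_normalizer hU hU1
  suffices hNM : N = M from fun V hV hn => hNM ▸ hNle V hV hn
  refine F.eq_of_pieces h hp hN fun t ht => ?_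
  have hPt := F.node.isXA.pCoreOf t
  by_cases hts : t = s
  · subst hts
    set P := Cfsg.pCoreOf t M
    set Z := P ⊓ centralizer (P : Set G)
    have hZ : IsXA r A θ Z := hPt.inf_centralizer hPt.norm
    have hZ1 : Z ≠ ⊥ := inf_centralizer_ne_bot (pCoreOf_isPGroup t M) (pCoreOf_isPGroup t M)
      le_normalizer hs.2
    refine ⟨Z, hZ, hZ1, inf_le_left, hNle Z hZ.mem ?_, fun V hV hn =>
      h.le_node_of_normalizes F.node (inf_le_left.trans (pCoreOf_le t M)) ?_
        (le_op_left.trans hZ.norm) hZ1 hV hn⟩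
    · exact (inf_le_right.trans (centralizer_le hle)).trans (centralizer_le_normalizer _)
    · exact le_normalizer_inf (le_normalizer_pCoreOf t M)
        ((le_normalizer_pCoreOf t M).trans (normalizer_le_centralizer_normalizer _))
  · refine ⟨Cfsg.pCoreOf t M, hPt, ht.2, le_rfl, hNle _ hPt.mem ?_, h.captured_pCore F.node ht⟩
    exact ((pCoreOf_le_centralizer ht.1 hs.1 hts M).trans (centralizer_le hle)).trans
      (centralizer_le_normalizer _)

lemma eq_of_meets {N : Subgroup G} (hN : IsNode r A θ N)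
    (hmeet : ∀ s, InFit s M → Cfsg.pCoreOf s M ⊓ N ≠ ⊥) : N = M :=
  F.eq_of_pieces h hp hN fun s hs =>
    ⟨_, (F.node.isXA.pCoreOf s).inf hN.isXA.norm, hmeet s hs, inf_le_left, inf_le_right,
      F.captured_of_le h hp ((F.node.isXA.pCoreOf s).inf hN.isXA.norm) (hmeet s hs) inf_le_left hs⟩

lemma captured_of_centralizes {x : ℕ} [Fact x.Prime] {Y : Subgroup G} (hY : IsXA r A θ Y)
    (hY1 : Y ≠ ⊥) (hYx : IsPGroup x Y) (hYM : Y ≤ M)
    (hc : ∀ t : ℕ, InFit t M → t ≠ x →
      Y ≤ centralizer ((Cfsg.pCoreOf t M : Subgroup G) : Set G)) : Captured r A θ Y M := by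
  obtain ⟨N, hN, hNle⟩ := h.exists_node_normalizer hY hY1
  suffices hNM : N = M from fun V hV hn => hNM ▸ hNle V hV hn
  refine F.eq_of_meets h hp hN fun t ht => ?_
  have hPt := F.node.isXA.pCoreOf t
  by_cases htx : t = x
  · subst htx
    intro hbot
    refine inf_centralizer_ne_bot (pCoreOf_isPGroup t M) hYx
      (hYM.trans (le_normalizer_pCoreOf t M)) ht.2 (le_bot_iff.mp (le_trans (le_inf inf_le_left ?_)
        hbot.le))
    exact hNle _ (hPt.inf_centralizer hY.norm).mem (inf_le_right.trans (centralizer_le_normalizer _))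
  · rw [inf_eq_left.mpr (hNle _ hPt.mem
      ((le_centralizer_iff.mp (hc t ht htx)).trans (centralizer_le_normalizer _)))]
    exact ht.2

end IsFull

end Cfsg.Agent.SolvableSignalizer
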