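import Cfsg.Agent.Lib.SolvableSignalizer.Hub
import Cfsg.Agent.Lib.SolvableSignalizer.Full

/-!
The Fitting subgroups of the nodes involve at least three primes.
-/

set_option autoImplicit false
set_option linter.style.haveILetI false
set_option linter.unusedSectionVars false

namespace Cfsg.Agent.SolvableSignalizer

open Subgroup
open Cfsg.Agent.Components
open scoped Pointwise

universe u

variable {G : Type u} [Group G] [Finite G] {r : ℕ} {A : Subgroup G} {θ : G → Subgroup G}

/-- Only the primes `p` and `q` occur. -/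
def OnlyTwo (r : ℕ) (A : Subgroup G) (θ : G → Subgroup G) (p q : ℕ) : Prop :=
  ∀ N, IsNode r A θ N → ∀ s, InFit s N → s = p ∨ s = q

/-- What the failure of `W_p ≤ M` gives. -/
structure Side (r : ℕ) (A : Subgroup G) (θ : G → Subgroup G) (p q : ℕ) (M E H : Subgroup G)
    (a : G) : Prop where
  plane : IsPlane r A E
  mem : H ∈ Cfsg.signalizerFamily r A θ
  le_theta : H ≤ Cfsg.signalizerInf E θ
  normalizes : H ≤ normalizer ((wCore r p A θ ⊓ M : Subgroup G) : Set G)
  not_le : ¬ H ≤ M
  line : a ∈ E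
  line_ne : a ≠ 1
  centralizes : Cfsg.pCoreOf p M ≤ centralizer {a}
  fpf : Cfsg.pCoreOf q M ⊓ centralizer {a} = ⊥
  others : ∀ e ∈ E, e ∉ zpowers a → Cfsg.pCoreOf p M ⊓ centralizer {e} = ⊥

namespace Minimal

variable (h : Minimal r A θ) (hp : PureFacts r A θ) {p q : ℕ} (hpq : p ≠ q)
  (h2 : OnlyTwo r A θ p q)
include h hp hpq h2

lemma isFull_of_two {N : Subgroup G} (hN : IsNode r A θ N) (h1 : InFit p N) (h1' : InFit q N) :
    IsFull r A θ N :=
  ⟨hN, fun K hK s hs => (h2 K hK s hs).elim (· ▸ h1) (· ▸ h1'), p, q, h1, h1', hpq⟩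

lemma node_cases {N : Subgroup G} (hN : IsNode r A θ N) :
    Pure p N ∨ Pure q N ∨ IsFull r A θ N := by
  by_cases h1 : InFit p N
  · by_cases h1' : InFit q N
    · exact Or.inr (Or.inr (h.isFull_of_two hp hpq h2 hN h1 h1'))
    · exact Or.inl ⟨h1, fun s hs => (h2 N hN s hs).resolve_right fun e => h1' (e ▸ hs)⟩
  · obtain ⟨s, hs⟩ := h.node_exists_inFit hN
    have hsq : s = q := (h2 N hN s hs).resolve_left fun e => h1 (e ▸ hs)
    subst hsq
    exact Or.inr (Or.inl ⟨hs, fun t ht => (h2 N hN t ht).resolve_left fun e => h1 (e ▸ ht)⟩)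

omit hpq in
lemma not_pure {N : Subgroup G} (F : IsFull r A θ N) {s : ℕ} (hpure : Pure s N) : False := by
  obtain ⟨t, ht, hts⟩ := F.exists_other h hp s
  exact hts (hpure.2 t ht)

/-- A node meeting `O_p(M)` and `O_q(M)` is `M`. -/
lemma eq_of_two_meets {M N : Subgroup G} (F : IsFull r A θ M) (hN : IsNode r A θ N)
    (h1 : Cfsg.pCoreOf p M ⊓ N ≠ ⊥) (h1' : Cfsg.pCoreOf q M ⊓ N ≠ ⊥) : N = M :=
  F.eq_of_meets h hp hN fun s hs => (h2 M F.node s hs).elim (fun e => e ▸ h1) (fun e => e ▸ h1')

lemma inFit_both {M : Subgroup G} (F : IsFull r A θ M) : InFit p M ∧ InFit q M := by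
  obtain ⟨s, t, hs, ht, hst⟩ := F.mixed
  rcases h2 M F.node s hs with rfl | rfl <;> rcases h2 M F.node t ht with rfl | rfl
  · exact absurd rfl hst
  · exact ⟨hs, ht⟩
  · exact ⟨ht, hs⟩
  · exact absurd rfl hst

lemma exists_side {M : Subgroup G} (F : IsFull r A θ M) (hW : ¬ wCore r p A θ ≤ M) :
    ∃ E H a, Side r A θ p q M E H a := by
  obtain ⟨hpM, hqM⟩ := h.inFit_both hp hpq h2 F
  haveI := Fact.mk hpM.1
  haveI := Fact.mk hqM.1
  haveI := h.fact
  set W := wCore r p A θ
  set S := W ⊓ M
  set P := Cfsg.pCoreOf p M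
  set Q := Cfsg.pCoreOf q M
  have hWX := h.wCore_isXA p
  have hS : IsXA r A θ S := hWX.inf F.node.isXA.norm
  have hN' : IsXA r A θ (W ⊓ normalizer (S : Set G)) :=
    hWX.inf (hS.norm.trans (normalizer_le_normalizer_normalizer S))
  obtain ⟨E, hE, hnot⟩ : ∃ E, IsPlane r A E ∧
      ¬ (W ⊓ normalizer (S : Set G)) ⊓ centralizer (E : Set G) ≤ M := by
    by_contra hc
    push Not at hc
    refine Signalizer.normalizer_inf_not_le (h.wCore_isPGroup p) (inf_le_left : S ≤ W)
      (fun e => hW (inf_eq_left.mp e)) ?_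
    rw [inf_comm]
    exact le_inf inf_le_left (h.le_of_planes hN'.mem hc)
  set H := (W ⊓ normalizer (S : Set G)) ⊓ centralizer (E : Set G)
  have hHm : H ∈ Cfsg.signalizerFamily r A θ :=
    Signalizer.member_of_le hN'.mem inf_le_left (le_normalizer_inf (le_op_left.trans hN'.norm)
      (le_trans (fun b hb => mem_centralizer_iff.mpr fun c hc =>
        Hyperplane.mem_comm h.elem (hE.le hc) hb)
        ((centralizer_le_normalizer _).trans (normalizer_le_centralizer_normalizer _))))
  have hHθ : H ≤ Cfsg.signalizerInf E θ :=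
    (inf_le_inf_right _ le_rfl).trans (Signalizer.member_inf_centralizer_le hN'.mem hE.le)
  have hbad : ¬ Cfsg.signalizerInf E θ ≤ M := fun hle => hnot (hHθ.trans hle)
  have htype : ∀ e ∈ E, e ≠ 1 → P ⊓ centralizer {e} ≠ ⊥ → Q ⊓ centralizer {e} = ⊥ := by
    intro e he he1 hP
    by_contra hQ
    obtain ⟨K, hK, hKθ⟩ := h.exists_colour (hE.le he) he1
    refine h.bad_line hbad he he1 ((h.eq_of_two_meets hp hpq h2 F hK ?_ ?_) ▸ hKθ)
    · exact fun e' => hP (le_bot_iff.mp (le_trans (le_inf inf_le_left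
        (((F.node.isXA.pCoreOf p).mem.2.2.2 e (hE.le he) he1).trans hKθ)) e'.le))
    · exact fun e' => hQ (le_bot_iff.mp (le_trans (le_inf inf_le_left
        (((F.node.isXA.pCoreOf q).mem.2.2.2 e (hE.le he) he1).trans hKθ)) e'.le))
  set Z := S ⊓ centralizer (S : Set G)
  haveI : IsMulCommutative Z := ⟨⟨fun a b => Subtype.ext (mem_centralizer_iff.mp b.2.2 a a.2.1)⟩⟩
  have hZ : IsXA r A θ Z := hS.inf_centralizer hS.norm
  have hZM : Z ≤ M := inf_le_left.trans inf_le_right
  have hZp : IsPGroup p Z := (h.wCore_isPGroup p).to_le (inf_le_left.trans inf_le_left)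
  have hZcent : ∀ e ∈ E, e ≠ 1 → P ⊓ centralizer {e} ≠ ⊥ → Z ≤ centralizer ({e} : Set G) := by
    intro e he he1 hP
    have hen : zpowers e ≤ normalizer (Z : Set G) :=
      (zpowers_le.mpr (hE.le he)).trans (le_op_left.trans hZ.norm)
    have hle : ⁅Z, zpowers e⁆ ≤ Z := Coprime.commutator_le_of_le_normalizer hen
    have hY : IsXA r A θ ⁅Z, zpowers e⁆ :=
      hZ.sub hle (le_normalizer_commutator hZ.norm (h.op_le_normalizer_zpowers (hE.le he)))
    refine (le_centralizer_iff.mp (Coprime.commutator_eq_bot_iff_le_centralizer'.mp ?_)).trans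
      (centralizer_le (Set.singleton_subset_iff.mpr (mem_zpowers e)))
    by_contra hY1
    refine hnot ((F.captured_of_centralizes h hp hY hY1 (hZp.to_le hle) (hle.trans hZM)
      fun t ht htp => ?_) H hHm (le_normalizer_commutator ?_
        ((inf_le_right.trans (centralizer_le (zpowers_le.mpr he))).trans (centralizer_le_normalizer _))))
    · obtain rfl := (h2 M F.node t ht).resolve_left htp
      refine commutator_le_centralizer_of_fixed_abelian (r := r) (h.inFit_ne F.node.mem hpM)
        (h.inFit_ne F.node.mem ht) hpq (h.elem.2 e (hE.le he)) hZp (pCoreOf_isPGroup t M)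
        (hen (mem_zpowers e)) (le_op_left.trans (F.node.isXA.pCoreOf t).norm (hE.le he))
        (hZM.trans (le_normalizer_pCoreOf t M)) ?_
      rw [htype e he he1 hP]
      exact bot_le
    · have hHS : H ≤ normalizer (S : Set G) := inf_le_left.trans inf_le_right
      exact le_normalizer_inf hHS (hHS.trans (normalizer_le_centralizer_normalizer _))
  have hPS : P ≤ S := le_inf (h.pCoreOf_le_wCore F.node.isXA) (pCoreOf_le p M)
  have hPZ : P ⊓ Z ≠ ⊥ := by
    intro hbot
    refine inf_centralizer_ne_bot (pCoreOf_isPGroup p M) ((h.wCore_isPGroup p).to_le inf_le_left)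
      (inf_le_right.trans (le_normalizer_pCoreOf p M)) hpM.2 (le_bot_iff.mp
        (le_trans (le_inf inf_le_left (le_inf (inf_le_left.trans hPS) inf_le_right)) hbot.le))
  obtain ⟨a, ha, ha1, haP⟩ := h.exists_fixed_of_plane hE (F.node.isXA.pCoreOf p).mem hpM.2
  have hothers : ∀ e ∈ E, e ∉ zpowers a → P ⊓ centralizer {e} = ⊥ := by
    intro e he hea
    by_contra hP
    have he1 : e ≠ 1 := fun h1 => hea (h1 ▸ one_mem _)
    have hZE := h.plane_centralizes hE ha ha1 he hea (hZcent a ha ha1 haP) (hZcent e he he1 hP)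
    refine hqM.2 (le_bot_iff.mp (h.le_of_plane hE (F.node.isXA.pCoreOf q).mem fun d hd hd1 =>
      (htype d hd hd1 fun hbot => hPZ (le_bot_iff.mp (le_trans (le_inf inf_le_left
        (inf_le_right.trans (hZE.trans (centralizer_le (Set.singleton_subset_iff.mpr hd)))))
        hbot.le))).le))
  refine ⟨E, H, a, hE, hHm, hHθ, inf_le_left.trans inf_le_right, hnot, ha, ha1, ?_,
    htype a ha ha1 haP, hothers⟩
  refine h.le_of_plane hE (F.node.isXA.pCoreOf p).mem fun d hd hd1 => ?_
  by_cases hda : d ∈ zpowers a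
  · refine inf_le_right.trans (le_of_eq ?_)
    rw [← centralizer_closure {d}, ← zpowers_eq_closure, h.zpowers_eq hE.le hd hd1 hda ha ha1,
      zpowers_eq_closure, centralizer_closure]
  · exact (hothers d hd hda).le.trans bot_le

omit hpq in
lemma colour_ne {M E H : Subgroup G} {a : G} (D : Side r A θ p q M E H a) {e : G} (he : e ∈ E)
    (he1 : e ≠ 1) {K : Subgroup G} (hK : θ e ≤ K) : K ≠ M :=
  fun hKM => h.bad_line (fun hle => D.not_le (D.le_theta.trans hle)) he he1 (hKM ▸ hK)

/-- No full node contains `W_q` but not `W_p`. -/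
lemma no_full_with_core {M : Subgroup G} (F : IsFull r A θ M) (hWq : wCore r q A θ ≤ M)
    (hWp : ¬ wCore r p A θ ≤ M) : False := by
  obtain ⟨hpM, hqM⟩ := h.inFit_both hp hpq h2 F
  haveI := Fact.mk hpM.1
  haveI := Fact.mk hqM.1
  haveI := h.fact
  obtain ⟨E, H, a, D⟩ := h.exists_side hp hpq h2 F hWp
  set P := Cfsg.pCoreOf p M
  set Q := Cfsg.pCoreOf q M
  obtain ⟨K, hK, hKθ⟩ := h.exists_colour (D.plane.le D.line) D.line_ne
  have hPK : P ≤ K := ((le_inf le_rfl D.centralizes).trans
    ((F.node.isXA.pCoreOf p).mem.2.2.2 a (D.plane.le D.line) D.line_ne)).trans hKθ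
  have hKM : K ≠ M := h.colour_ne hp h2 D D.line D.line_ne hKθ
  have hKp : Pure p K := by
    rcases h.node_cases hp hpq h2 hK with hk | hk | hk
    · exact hk
    · refine absurd (h.eq_of_two_meets hp hpq h2 F hK ?_ ?_) hKM
      · rw [inf_eq_left.mpr hPK]; exact hpM.2
      · rw [inf_eq_left.mpr ((h.pCoreOf_le_wCore F.node.isXA).trans (hp.le q K hK hk))]
        exact hqM.2
    · refine absurd (h.eq_of_two_meets hp hpq h2 hk F.node ?_ ?_).symm hKM
      · intro hbot
        refine inf_centralizer_ne_bot (pCoreOf_isPGroup p K) (pCoreOf_isPGroup p M)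
          (hPK.trans (le_normalizer_pCoreOf p K)) (h.inFit_both hp hpq h2 hk).1.2
          (le_bot_iff.mp (le_trans (le_inf inf_le_left ?_) hbot.le))
        exact h.captured_pCore F.node hpM _
          ((hK.isXA.pCoreOf p).inf_centralizer (F.node.isXA.pCoreOf p).norm).mem
          (inf_le_right.trans (centralizer_le_normalizer _))
      · rw [inf_eq_left.mpr ((h.pCoreOf_le_wCore hK.isXA).trans hWq)]
        exact (h.inFit_both hp hpq h2 hk).2.2
  obtain ⟨e, he, he1, heQ⟩ := h.exists_fixed_of_plane D.plane (F.node.isXA.pCoreOf q).mem hqM.2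
  obtain ⟨L, hL, hLθ⟩ := h.exists_colour (D.plane.le he) he1
  have hLM : L ≠ M := h.colour_ne hp h2 D he he1 hLθ
  set R := Cfsg.pCoreOf q L
  have hRM : R ≤ M := (h.pCoreOf_le_wCore hL.isXA).trans hWq
  have hRa : R ≤ centralizer ({a} : Set G) := by
    have hn : zpowers a ≤ normalizer (R : Set G) :=
      (zpowers_le.mpr (D.plane.le D.line)).trans (le_op_left.trans (hL.isXA.pCoreOf q).norm)
    have hle : ⁅R, zpowers a⁆ ≤ R := Coprime.commutator_le_of_le_normalizer hn
    refine (le_centralizer_iff.mp (Coprime.commutator_eq_bot_iff_le_centralizer'.mp ?_)).trans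
      (centralizer_le (Set.singleton_subset_iff.mpr (mem_zpowers a)))
    by_contra hY1
    refine D.not_le ((F.captured_of_centralizes h hp ((hL.isXA.pCoreOf q).sub hle
      (le_normalizer_commutator (hL.isXA.pCoreOf q).norm
        (h.op_le_normalizer_zpowers (D.plane.le D.line)))) hY1 ((pCoreOf_isPGroup q L).to_le hle)
      (hle.trans hRM) fun t ht htq => ?_) H D.mem (le_normalizer_commutator ?_
        (D.le_theta.trans (h.plane_inf_le_normalizer_zpowers D.plane D.line))))
    · obtain rfl := (h2 M F.node t ht).resolve_right htq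
      exact commutator_le_centralizer_of_normalizes (hRM.trans (le_normalizer_pCoreOf t M))
        (zpowers_le.mpr (mem_centralizer_iff.mpr fun z hz =>
          mem_centralizer_singleton_iff.mp (D.centralizes hz)))
    · exact ((D.le_theta.trans (Signalizer.inf_le_theta E θ he he1)).trans hLθ).trans
        (le_normalizer_pCoreOf q L)
  rcases h.node_cases hp hpq h2 hL with hl | hl | hl
  · refine hLM (h.eq_of_two_meets hp hpq h2 F hL ?_ ?_)
    · rw [inf_eq_left.mpr ((h.pCoreOf_le_wCore F.node.isXA).trans (hp.le p L hL hl))]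
      exact hpM.2
    · exact fun e' => heQ (le_bot_iff.mp (le_trans (le_inf inf_le_left
        (((F.node.isXA.pCoreOf q).mem.2.2.2 e (D.plane.le he) he1).trans hLθ)) e'.le))
  · have hFL : fitOf L ≤ M := fitOf_le_of_forall fun s hs => by
      by_cases hsL : InFit s L
      · rw [hl.2 s hsL]; exact hRM
      · have : Cfsg.pCoreOf s L = ⊥ := by
          by_contra hne
          exact hsL ⟨hs, hne⟩
        exact this ▸ bot_le
    refine pCore_inf_pCore_ne_bot hqM hL.mem.1 hFL
      ((h.pCoreOf_le_wCore F.node.isXA).trans (hp.le q L hL hl)) (le_bot_iff.mp ?_)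
    exact (inf_le_inf_left _ hRa).trans D.fpf.le
  · obtain ⟨hpL, hqL⟩ := h.inFit_both hp hpq h2 hl
    refine h.not_pure hp h2 hl (s := p) (h.eq_of_two_meets hp hpq h2 hl hK ?_ ?_ ▸ hKp)
    · rw [inf_eq_left.mpr ((h.pCoreOf_le_wCore hL.isXA).trans (hp.le p K hK hKp))]
      exact hpL.2
    · rw [inf_eq_left.mpr (((le_inf le_rfl hRa).trans
        ((hL.isXA.pCoreOf q).mem.2.2.2 a (D.plane.le D.line) D.line_ne)).trans hKθ)]
      exact hqL.2

omit hpq in
lemma exists_core_not_le {M : Subgroup G} (hM : IsNode r A θ M) :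
    ¬ wCore r p A θ ≤ M ∨ ¬ wCore r q A θ ≤ M := by
  by_contra hc
  push Not at hc
  obtain ⟨K, hK, hnot⟩ := h.exists_fit_not_le hp hM
  refine hnot (fitOf_le_of_forall fun s hs => ?_)
  haveI := Fact.mk hs
  by_cases hsK : InFit s K
  · rcases h2 K hK s hsK with rfl | rfl
    · exact (h.pCoreOf_le_wCore hK.isXA).trans hc.1
    · exact (h.pCoreOf_le_wCore hK.isXA).trans hc.2
  · have : Cfsg.pCoreOf s K = ⊥ := by
      by_contra hne
      exact hsK ⟨hs, hne⟩
    exact this ▸ bot_le

end Minimal

lemma OnlyTwo.symm {p q : ℕ} (h2 : OnlyTwo r A θ p q) : OnlyTwo r A θ q p :=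
  fun N hN s hs => (h2 N hN s hs).symm

namespace Minimal

variable (h : Minimal r A θ) (hp : PureFacts r A θ) {p q : ℕ} (hpq : p ≠ q)
  (h2 : OnlyTwo r A θ p q)
include h hp hpq h2

lemma not_core_le {M : Subgroup G} (F : IsFull r A θ M) :
    ¬ wCore r p A θ ≤ M ∧ ¬ wCore r q A θ ≤ M := by
  rcases h.exists_core_not_le hp h2 F.node with hc | hc
  · exact ⟨hc, fun hq => h.no_full_with_core hp hpq h2 F hq hc⟩
  · exact ⟨fun hp' => h.no_full_with_core hp hpq.symm h2.symm F hp' hc, hc⟩

/-- The case in which no full node contains `W_p` or `W_q`, `q` odd. -/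
lemma no_full_of_odd (hq2 : q ≠ 2) {M : Subgroup G} (F : IsFull r A θ M) : False := by
  obtain ⟨hpM, hqM⟩ := h.inFit_both hp hpq h2 F
  haveI := Fact.mk hpM.1
  haveI := Fact.mk hqM.1
  haveI := h.fact
  obtain ⟨hWp, hWq⟩ := h.not_core_le hp hpq h2 F
  obtain ⟨E, H, a, D⟩ := h.exists_side hp hpq h2 F hWp
  obtain ⟨E', H', b, D'⟩ := h.exists_side hp hpq.symm h2.symm F hWq
  have hbA : b ∈ A := D'.plane.le D'.line
  have haA : a ∈ A := D.plane.le D.line
  set P := Cfsg.pCoreOf p M
  set Q := Cfsg.pCoreOf q M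
  set W := wCore r q A θ
  set S := W ⊓ M
  have hWX := h.wCore_isXA q
  have hS : IsXA r A θ S := hWX.inf F.node.isXA.norm
  have hSq : IsPGroup q S := (h.wCore_isPGroup q).to_le inf_le_left
  have hbP : P ⊓ centralizer {b} = ⊥ := D'.fpf
  have hQb : Q ≤ centralizer ({b} : Set G) := D'.centralizes
  have hQc : zpowers b ≤ centralizer (Q : Set G) := zpowers_le.mpr
    (mem_centralizer_iff.mpr fun z hz => mem_centralizer_singleton_iff.mp (hQb hz))
  -- `b` centralises `W_q`
  have hbS : zpowers b ≤ centralizer (S : Set G) := by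
    have hn : zpowers b ≤ normalizer (S : Set G) :=
      (zpowers_le.mpr hbA).trans (le_op_left.trans hS.norm)
    have hle : ⁅S, zpowers b⁆ ≤ S := Coprime.commutator_le_of_le_normalizer hn
    refine Coprime.commutator_eq_bot_iff_le_centralizer'.mp ?_
    by_contra hY1
    refine D'.not_le ((F.captured_of_centralizes h hp (hS.sub hle (le_normalizer_commutator hS.norm
      (h.op_le_normalizer_zpowers hbA))) hY1 (hSq.to_le hle) (hle.trans inf_le_right)
      fun t ht htq => ?_) H' D'.mem (le_normalizer_commutator D'.normalizes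
        (D'.le_theta.trans (h.plane_inf_le_normalizer_zpowers D'.plane D'.line))))
    obtain rfl := (h2 M F.node t ht).resolve_right htq
    refine commutator_le_centralizer_of_fixed (r := r) (h.inFit_ne F.node.mem hqM)
      (h.inFit_ne F.node.mem ht) hpq.symm hq2 (h.elem.2 b hbA) hSq (pCoreOf_isPGroup t M)
      (hn (mem_zpowers b)) (le_op_left.trans (F.node.isXA.pCoreOf t).norm hbA)
      (inf_le_right.trans (le_normalizer_pCoreOf t M)) ?_
    rw [hbP]
    exact bot_le
  have hbW : zpowers b ≤ centralizer (W : Set G) := by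
    refine Coprime.le_centralizer_of_pxq hSq ?_ (h.wCore_isPGroup q) (le_centralizer_iff.mp hbS)
      (inf_le_left.trans le_normalizer) ((zpowers_le.mpr hbA).trans (le_op_left.trans hWX.norm))
      (le_trans ?_ (le_centralizer_iff.mp hbS))
    · rw [Nat.card_zpowers, Hyperplane.orderOf_eq h.elem hbA D'.line_ne]
      exact (Nat.coprime_primes h.prime hqM.1).mpr (h.inFit_ne F.node.mem hqM)
    · refine le_inf inf_le_left (h.captured_pCore F.node hqM _ (hWX.inf_centralizer hS.norm).mem
        ((inf_le_right.trans (centralizer_le ?_)).trans (centralizer_le_normalizer _)))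
      exact le_inf (h.pCoreOf_le_wCore F.node.isXA) (pCoreOf_le q M)
  obtain ⟨Kb, hKb, hKbθ⟩ := h.exists_colour hbA D'.line_ne
  have hWKb : W ≤ Kb := ((le_inf le_rfl ((le_centralizer_iff.mp hbW).trans
    (centralizer_le (Set.singleton_subset_iff.mpr (mem_zpowers b))))).trans
      (hWX.mem.2.2.2 b hbA D'.line_ne)).trans hKbθ
  have hKbM : Kb ≠ M := h.colour_ne hp h2.symm D' D'.line D'.line_ne hKbθ
  have hKbq : Pure q Kb := by
    rcases h.node_cases hp hpq h2 hKb with hk | hk | hk
    · refine absurd (h.eq_of_two_meets hp hpq h2 F hKb ?_ ?_) hKbM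
      · rw [inf_eq_left.mpr ((h.pCoreOf_le_wCore F.node.isXA).trans (hp.le p Kb hKb hk))]
        exact hpM.2
      · rw [inf_eq_left.mpr ((h.pCoreOf_le_wCore F.node.isXA).trans hWKb)]
        exact hqM.2
    · exact hk
    · exact absurd hWKb (h.not_core_le hp hpq h2 hk).2
  have hbKb : zpowers b ≤ centralizer (Kb : Set G) := by
    have hbn : zpowers b ≤ normalizer (Kb : Set G) :=
      (zpowers_le.mpr hbA).trans (le_op_left.trans hKb.isXA.norm)
    have hbF : zpowers b ≤ centralizer ((fitOf Kb : Subgroup G) : Set G) := by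
      refine hbW.trans (centralizer_le (fitOf_le_of_forall fun s hs => ?_))
      haveI := Fact.mk hs
      by_cases hsK : InFit s Kb
      · rw [hKbq.2 s hsK]; exact h.pCoreOf_le_wCore hKb.isXA
      · have : Cfsg.pCoreOf s Kb = ⊥ := by
          by_contra hne
          exact hsK ⟨hs, hne⟩
        exact this ▸ bot_le
    refine Coprime.le_centralizer_of_series hbn ?_ (Or.inr hKb.mem.1) hbF
      (le_trans (le_inf (Coprime.commutator_le_of_le_normalizer hbn)
        (commutator_le_centralizer_of_normalizes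
          (le_normalizer.trans (normalizer_le_fitOf Kb)) hbF)) (inf_centralizer_fitOf_le hKb.mem.1))
    exact (Signalizer.coprime_member h.elem hKb.mem.2.1).coprime_dvd_left
      (card_dvd_of_le (zpowers_le.mpr hbA))
  -- the colour of `a` is pure
  obtain ⟨Ka, hKa, hKaθ⟩ := h.exists_colour haA D.line_ne
  have hKaM : Ka ≠ M := h.colour_ne hp h2 D D.line D.line_ne hKaθ
  have hPKa : P ≤ Ka := ((le_inf le_rfl D.centralizes).trans
    ((F.node.isXA.pCoreOf p).mem.2.2.2 a haA D.line_ne)).trans hKaθ
  have hKap : Pure p Ka := by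
    rcases h.node_cases hp hpq h2 hKa with hk | hk | hk
    · exact hk
    · refine absurd (h.eq_of_two_meets hp hpq h2 F hKa ?_ ?_) hKaM
      · rw [inf_eq_left.mpr hPKa]; exact hpM.2
      · rw [inf_eq_left.mpr ((h.pCoreOf_le_wCore F.node.isXA).trans (hp.le q Ka hKa hk))]
        exact hqM.2
    · exfalso
      obtain ⟨hpK, hqK⟩ := h.inFit_both hp hpq h2 hk
      set T := Cfsg.pCoreOf p Ka ⊓ M
      have hTX : IsXA r A θ T := (hKa.isXA.pCoreOf p).inf F.node.isXA.norm
      have hT1 : T ≠ ⊥ := fun hbot =>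
        inf_centralizer_ne_bot (pCoreOf_isPGroup p Ka) (pCoreOf_isPGroup p M)
          (hPKa.trans (le_normalizer_pCoreOf p Ka)) hpK.2
          (le_bot_iff.mp (le_trans (le_inf inf_le_left (h.captured_pCore F.node hpM _
            ((hKa.isXA.pCoreOf p).inf_centralizer (F.node.isXA.pCoreOf p).norm).mem
            (inf_le_right.trans (centralizer_le_normalizer _)))) hbot.le))
      have hbn : zpowers b ≤ normalizer (T : Set G) :=
        (zpowers_le.mpr hbA).trans (le_op_left.trans hTX.norm)
      have hTb : ⁅T, zpowers b⁆ = ⊥ := by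
        by_contra hY1
        have hle : ⁅T, zpowers b⁆ ≤ T := Coprime.commutator_le_of_le_normalizer hbn
        have hYX : IsXA r A θ ⁅T, zpowers b⁆ :=
          hTX.sub hle (le_normalizer_commutator hTX.norm (h.op_le_normalizer_zpowers hbA))
        have hcap : Captured r A θ ⁅T, zpowers b⁆ M :=
          F.captured_of_centralizes h hp hYX hY1
            ((pCoreOf_isPGroup p Ka).to_le (hle.trans inf_le_left)) (hle.trans inf_le_right)
            fun t ht htp => by
              obtain rfl := (h2 M F.node t ht).resolve_left htp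
              exact commutator_le_centralizer_of_normalizes
                (inf_le_right.trans (le_normalizer_pCoreOf t M)) hQc
        refine hKaM (h.eq_of_two_meets hp hpq h2 hk F.node hT1 ?_).symm
        rw [inf_eq_left.mpr (hcap _ (hKa.isXA.pCoreOf q).mem
          (((pCoreOf_le_centralizer hqK.1 hpK.1 hpq.symm Ka).trans
            (centralizer_le (hle.trans inf_le_left))).trans (centralizer_le_normalizer _)))]
        exact hqK.2
      have hTKb : T ≤ Kb := ((le_inf le_rfl
        ((le_centralizer_iff.mp (Coprime.commutator_eq_bot_iff_le_centralizer'.mp hTb)).trans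
          (centralizer_le (Set.singleton_subset_iff.mpr (mem_zpowers b))))).trans
            (hTX.mem.2.2.2 b hbA D'.line_ne)).trans hKbθ
      refine h.not_pure hp h2 hk (s := q) (h.eq_of_two_meets hp hpq h2 hk hKb ?_ ?_ ▸ hKbq)
      · exact fun hbot => hT1 (le_bot_iff.mp ((le_inf inf_le_left hTKb).trans hbot.le))
      · rw [inf_eq_left.mpr ((h.pCoreOf_le_wCore hKa.isXA).trans hWKb)]
        exact hqK.2
  -- a line of `E` has colour `Kb`
  obtain ⟨e, he, he1, heQ⟩ := h.exists_fixed_of_plane D.plane (F.node.isXA.pCoreOf q).mem hqM.2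
  obtain ⟨L, hL, hLθ⟩ := h.exists_colour (D.plane.le he) he1
  have hLM : L ≠ M := h.colour_ne hp h2 D he he1 hLθ
  have hU1 : Q ⊓ L ≠ ⊥ := fun e' => heQ (le_bot_iff.mp (le_trans (le_inf inf_le_left
    (((F.node.isXA.pCoreOf q).mem.2.2.2 e (D.plane.le he) he1).trans hLθ)) e'.le))
  have hLq : Pure q L := by
    rcases h.node_cases hp hpq h2 hL with hl | hl | hl
    · refine absurd (h.eq_of_two_meets hp hpq h2 F hL ?_ hU1) hLM
      rw [inf_eq_left.mpr ((h.pCoreOf_le_wCore F.node.isXA).trans (hp.le p L hL hl))]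
      exact hpM.2
    · exact hl
    · exfalso
      obtain ⟨hpL, hqL⟩ := h.inFit_both hp hpq h2 hl
      set U := Q ⊓ L
      have hUX : IsXA r A θ U := (F.node.isXA.pCoreOf q).inf hL.isXA.norm
      set R := Cfsg.pCoreOf q L ⊓ M
      have hRX : IsXA r A θ R := (hL.isXA.pCoreOf q).inf F.node.isXA.norm
      have hR1 : R ≠ ⊥ := fun hbot =>
        inf_centralizer_ne_bot (pCoreOf_isPGroup q L) ((pCoreOf_isPGroup q M).to_le inf_le_left)
          ((inf_le_right : U ≤ L).trans (le_normalizer_pCoreOf q L)) hqL.2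
          (le_bot_iff.mp (le_trans (le_inf inf_le_left
            (F.captured_of_le h hp hUX hU1 inf_le_left hqM _
              ((hL.isXA.pCoreOf q).inf_centralizer hUX.norm).mem
              (inf_le_right.trans (centralizer_le_normalizer _)))) hbot.le))
      have han : zpowers a ≤ normalizer (R : Set G) :=
        (zpowers_le.mpr haA).trans (le_op_left.trans hRX.norm)
      have hRa : ⁅R, zpowers a⁆ = ⊥ := by
        by_contra hY1
        have hle : ⁅R, zpowers a⁆ ≤ R := Coprime.commutator_le_of_le_normalizer han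
        have hYX : IsXA r A θ ⁅R, zpowers a⁆ :=
          hRX.sub hle (le_normalizer_commutator hRX.norm (h.op_le_normalizer_zpowers haA))
        have hcap : Captured r A θ ⁅R, zpowers a⁆ M :=
          F.captured_of_centralizes h hp hYX hY1
            ((pCoreOf_isPGroup q L).to_le (hle.trans inf_le_left)) (hle.trans inf_le_right)
            fun t ht htq => by
              obtain rfl := (h2 M F.node t ht).resolve_right htq
              exact commutator_le_centralizer_of_normalizes
                (inf_le_right.trans (le_normalizer_pCoreOf t M)) (zpowers_le.mpr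
                  (mem_centralizer_iff.mpr fun z hz =>
                    mem_centralizer_singleton_iff.mp (D.centralizes hz)))
        refine hLM (h.eq_of_two_meets hp hpq h2 hl F.node ?_ hR1).symm
        rw [inf_eq_left.mpr (hcap _ (hL.isXA.pCoreOf p).mem
          (((pCoreOf_le_centralizer hpL.1 hqL.1 hpq L).trans
            (centralizer_le (hle.trans inf_le_left))).trans (centralizer_le_normalizer _)))]
        exact hpL.2
      have hRKa : R ≤ Ka := ((le_inf le_rfl
        ((le_centralizer_iff.mp (Coprime.commutator_eq_bot_iff_le_centralizer'.mp hRa)).trans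
          (centralizer_le (Set.singleton_subset_iff.mpr (mem_zpowers a))))).trans
            (hRX.mem.2.2.2 a haA D.line_ne)).trans hKaθ
      refine h.not_pure hp h2 hl (s := p) (h.eq_of_two_meets hp hpq h2 hl hKa ?_ ?_ ▸ hKap)
      · rw [inf_eq_left.mpr ((h.pCoreOf_le_wCore hL.isXA).trans (hp.le p Ka hKa hKap))]
        exact hpL.2
      · exact fun hbot => hR1 (le_bot_iff.mp ((le_inf inf_le_left hRKa).trans hbot.le))
  have hLKb : L = Kb := hp.unique q L Kb hL hKb hLq hKbq
  have hHKb : H ≤ Kb := hLKb ▸ (D.le_theta.trans (Signalizer.inf_le_theta E θ he he1)).trans hLθ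
  -- the final commutator
  set Sp := wCore r p A θ ⊓ M
  set Z := Sp ⊓ centralizer (Sp : Set G)
  have hSp : IsXA r A θ Sp := (h.wCore_isXA p).inf F.node.isXA.norm
  have hZ : IsXA r A θ Z := hSp.inf_centralizer hSp.norm
  have hSpp : IsPGroup p Sp := (h.wCore_isPGroup p).to_le inf_le_left
  have hZn : zpowers b ≤ normalizer (Z : Set G) :=
    (zpowers_le.mpr hbA).trans (le_op_left.trans hZ.norm)
  have hle : ⁅Z, zpowers b⁆ ≤ Z := Coprime.commutator_le_of_le_normalizer hZn
  have hY1 : ⁅Z, zpowers b⁆ ≠ ⊥ := by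
    intro hbot
    have hPSp : P ≤ Sp := le_inf (h.pCoreOf_le_wCore F.node.isXA) (pCoreOf_le p M)
    refine inf_centralizer_ne_bot (pCoreOf_isPGroup p M) hSpp
      (inf_le_right.trans (le_normalizer_pCoreOf p M)) hpM.2 (le_bot_iff.mp ?_)
    refine le_trans (le_inf inf_le_left ?_) hbP.le
    exact (le_inf (inf_le_left.trans hPSp) inf_le_right).trans
      ((le_centralizer_iff.mp (Coprime.commutator_eq_bot_iff_le_centralizer'.mp hbot)).trans
        (centralizer_le (Set.singleton_subset_iff.mpr (mem_zpowers b))))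
  refine D.not_le ((F.captured_of_centralizes h hp (hZ.sub hle (le_normalizer_commutator hZ.norm
    (h.op_le_normalizer_zpowers hbA))) hY1 (hSpp.to_le (hle.trans inf_le_left))
    (hle.trans (inf_le_left.trans inf_le_right)) fun t ht htp => ?_) H D.mem
      (le_normalizer_commutator
        (le_normalizer_inf D.normalizes (D.normalizes.trans (normalizer_le_centralizer_normalizer _)))
        ((hHKb.trans (le_centralizer_iff.mp hbKb)).trans (centralizer_le_normalizer _))))
  obtain rfl := (h2 M F.node t ht).resolve_left htp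
  exact commutator_le_centralizer_of_normalizes
    ((inf_le_left.trans inf_le_right).trans (le_normalizer_pCoreOf t M)) hQc

/-- Two primes do not suffice. -/
theorem not_onlyTwo : False := by
  haveI := h.fact
  obtain ⟨a₀, ha₀, ha₀1⟩ := h.exists_ne_one
  obtain ⟨M, hM, -⟩ := h.exists_colour ha₀ ha₀1
  by_cases hfull : ∃ N, IsFull r A θ N
  · obtain ⟨N, F⟩ := hfull
    by_cases hq2 : q = 2
    · exact h.no_full_of_odd hp hpq.symm h2.symm (fun e => hpq (e.trans hq2.symm)) F
    · exact h.no_full_of_odd hp hpq h2 hq2 F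
  obtain ⟨E, hE, hbad⟩ := h.exists_bad_plane hM.mem
  have hpure : ∀ K, IsNode r A θ K → Pure p K ∨ Pure q K := fun K hK =>
    (h.node_cases hp hpq h2 hK).imp_right
      fun hk => hk.resolve_right fun hf => hfull ⟨K, hf⟩
  obtain ⟨e, he, he1⟩ := h.plane_ne_one hE
  obtain ⟨N, hN, hNθ⟩ := h.exists_colour (hE.le he) he1
  have hNM : N ≠ M := fun e' => h.bad_line hbad he he1 (e' ▸ hNθ)
  obtain ⟨d, hd, hd1, hnot⟩ := h.plane_not_all hE hN.mem
  obtain ⟨K, hK, hKθ⟩ := h.exists_colour (hE.le hd) hd1
  have hKM : K ≠ M := fun e' => h.bad_line hbad hd hd1 (e' ▸ hKθ)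
  have hKN : K ≠ N := fun e' => hnot (e' ▸ hKθ)
  rcases hpure M hM with h1 | h1 <;> rcases hpure N hN with h3 | h3 <;>
    rcases hpure K hK with h5 | h5
  all_goals first
    | exact hNM (hp.unique _ _ _ hN hM h3 h1)
    | exact hKM (hp.unique _ _ _ hK hM h5 h1)
    | exact hKN (hp.unique _ _ _ hK hN h5 h3)

end Minimal

end Cfsg.Agent.SolvableSignalizer
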