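import Cfsg.Agent.Lib.SolvableSignalizer.Pure.Facts
import Cfsg.Agent.Lib.SolvableSignalizer.TwoPrimes
import Cfsg.Agent.Lib.SolvableSignalizer.ThreePrimes.EdgeThree

/-!
The solvable signalizer functor theorem.
-/

set_option autoImplicit false
set_option linter.style.haveILetI false
set_option linter.unusedSectionVars false

namespace Cfsg.Agent.SolvableSignalizer

open Subgroup
open Cfsg.Agent.Components
open scoped Pointwise

universe u

variable {G : Type u} [Group G] {r : ℕ} {A : Subgroup G} {θ : G → Subgroup G}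

theorem Minimal.contradiction [Finite G] (h : Minimal r A θ) : False := by
  by_cases h3 : ∀ a b, ∃ c, InPi r A θ c ∧ c ≠ a ∧ c ≠ b
  · exact h.not_three h.pureFacts h3
  · push Not at h3
    obtain ⟨a, b, hab⟩ := h3
    have h2 : ∀ N, IsNode r A θ N → ∀ s, InFit s N → s = a ∨ s = b := fun N hN s hs =>
      (em (s = a)).imp_right fun hne => hab s ⟨N, hN, hs⟩ hne
    by_cases heq : a = b
    · refine h.not_onlyTwo h.pureFacts (p := a) (q := a + 1) (by omega) fun N hN s hs => Or.inl ?_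
      exact (h2 N hN s hs).elim id fun e => e.trans heq.symm
    · exact h.not_onlyTwo h.pureFacts (p := a) (q := b) heq h2

theorem complete_cube_aux (n : ℕ) : ∀ (G : Type u) [Group G] [Finite G] (r : ℕ) (A : Subgroup G),
    Nat.card G = n → r.Prime → Cfsg.IsElementaryAbelian r A → Nat.card A = r ^ 3 →
      ∀ θ : G → Subgroup G, Cfsg.IsSolvableSignalizerFunctor r A θ → Complete r A θ := by
  induction n using Nat.strong_induction_on with
  | _ n ih =>
  intro G _ _ r A hn hr hA hcard θ hθ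
  induction hk : size A θ using Nat.strong_induction_on generalizing θ with
  | _ k ihk =>
  by_contra hcon
  exact Minimal.contradiction (G := G) (r := r) (A := A) (θ := θ)
    { prime := hr
      elem := hA
      card := hcard
      func := hθ
      notComplete := hcon
      group_ind := fun H _ _ A' θ' hlt he hc hf => ih _ (hn ▸ hlt) H r A' rfl hr he hc θ' hf
      functor_ind := fun θ' hf hlt => ihk _ (hk ▸ hlt) θ' hf rfl }

/-- A solvable functor on a group of rank at least three has a member containing every `θ a`. -/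
theorem exists_closure [Finite G] (hr : r.Prime) (hA : Cfsg.IsElementaryAbelian r A)
    (hA3 : r ^ 3 ≤ Nat.card A) (hθ : Cfsg.IsSolvableSignalizerFunctor r A θ) :
    ∃ K ∈ Cfsg.signalizerFamily r A θ, ∀ a ∈ A, a ≠ 1 → θ a ≤ K := by
  haveI := Fact.mk hr
  haveI := hA.1
  obtain ⟨E, hEA, hE⟩ : ∃ E ≤ A, Nat.card E = r ^ 3 := by
    obtain ⟨m, hm⟩ := IsPGroup.iff_card.mp (Hyperplane.isPGroup hA)
    have h3 : r ^ 3 ∣ Nat.card A := hm ▸ pow_dvd_pow r
      ((Nat.pow_le_pow_iff_right hr.one_lt).mp (hm ▸ hA3))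
    obtain ⟨E', hE'⟩ := Sylow.exists_subgroup_card_pow_prime r h3
    exact ⟨E'.map A.subtype, map_subtype_le _, by rw [card_map_of_injective A.subtype_injective, hE']⟩
  have hEe := Hyperplane.isElementaryAbelian_of_le hA hEA
  have hθE : Cfsg.IsSolvableSignalizerFunctor r E θ :=
    ⟨⟨fun a ha => hθ.1.1 a (hEA ha), fun a ha => hθ.1.2.1 a (hEA ha),
      fun a ha ha1 b hb => hθ.1.2.2.1 a (hEA ha) ha1 b (hEA hb),
      fun a ha ha1 b hb => hθ.1.2.2.2 a (hEA ha) ha1 b (hEA hb)⟩, fun a ha => hθ.2 a (hEA ha)⟩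
  obtain ⟨K, hK, hKle⟩ := complete_cube_aux _ G r E rfl hr hEe hE θ hθE
  have hE2 : r ^ 2 ≤ Nat.card E := hE ▸ Nat.pow_le_pow_right hr.pos (by norm_num)
  set U := ⨆ a : {a : G // a ∈ A ∧ a ≠ 1}, θ (a : G)
  have hUK : U ≤ K := iSup_le fun a => theta_le_of_subgroup hr hA hθ hEA hE2 a.2.1 a.2.2 hKle
  have hle : ∀ a ∈ A, a ≠ 1 → θ a ≤ U := fun a ha ha1 =>
    le_iSup (fun a : {a : G // a ∈ A ∧ a ≠ 1} => θ (a : G)) ⟨a, ha, ha1⟩
  have hAU : A ≤ normalizer (U : Set G) := by
    intro b hb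
    refine Amalgam.mem_normalizer_of_iSup fun a => ⟨a, le_of_eq ?_⟩
    exact Coprime.conj_smul_eq_self_iff.mpr (Signalizer.theta_normalizer hθ a.2.1 a.2.2 hb)
  have hUr : ¬ r ∣ Nat.card U := fun h => hK.2.1 (h.trans (card_dvd_of_le hUK))
  refine ⟨U, ⟨Coprime.isSolvable_of_le hUK hK.1, hUr, Signalizer.inv_of_le_normalizer hAU,
    fun a ha ha1 => ?_⟩, hle⟩
  refine member_le hr hEe hE2 (fun h => hUr (h.trans (card_dvd_of_le inf_le_left))) ?_
    fun e he he1 => ?_
  · refine hEA.trans (le_normalizer_inf hAU (le_trans ?_ le_normalizer))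
    exact fun b hb => mem_centralizer_singleton_iff.mpr (Hyperplane.mem_comm hA hb ha)
  · refine le_trans (le_inf ?_ (inf_le_left.trans inf_le_right))
      (hθ.1.2.2.2 e (hEA he) he1 a ha ha1)
    exact (inf_le_inf_right _ (inf_le_left.trans hUK)).trans (hK.2.2.2 e he he1)

/-- The join of the `θ a` is a member. -/
theorem iSup_mem [Finite G] (hr : r.Prime) (hA : Cfsg.IsElementaryAbelian r A)
    (hA3 : r ^ 3 ≤ Nat.card A) (hθ : Cfsg.IsSolvableSignalizerFunctor r A θ) :
    (⨆ a : {a : G // a ∈ A ∧ a ≠ 1}, θ (a : G)) ∈ Cfsg.signalizerFamily r A θ := by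
  obtain ⟨K, hK, hle⟩ := exists_closure hr hA hA3 hθ
  refine Signalizer.member_of_le hK (iSup_le fun a => hle a a.2.1 a.2.2) fun b hb => ?_
  exact Amalgam.mem_normalizer_of_iSup fun a => ⟨a, le_of_eq
    (Coprime.conj_smul_eq_self_iff.mpr (Signalizer.theta_normalizer hθ a.2.1 a.2.2 hb))⟩

/-- A group whose fixed points are solvable is solvable. -/
theorem isSolvable_of_fixed [Finite G] (hr : r.Prime) (hA : Cfsg.IsElementaryAbelian r A)
    (hA3 : r ^ 3 ≤ Nat.card A) {K : Subgroup G} (hK : ¬ r ∣ Nat.card K)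
    (hAK : A ≤ normalizer (K : Set G))
    (hs : ∀ a ∈ A, a ≠ 1 → Group.IsSolvable ↥(K ⊓ centralizer ({a} : Set G))) :
    Group.IsSolvable K := by
  have hθ : Cfsg.IsSolvableSignalizerFunctor r A (fun a => K ⊓ centralizer ({a} : Set G)) := by
    refine ⟨⟨fun a _ _ => inf_le_right, fun a _ _ h => hK (h.trans (card_dvd_of_le inf_le_left)),
      fun a ha _ b hb x hx => ⟨(mem_normalizer_iff.mp (hAK hb) x).mp hx.1, ?_⟩,
      fun a _ _ b _ _ => inf_le_inf_right _ inf_le_left⟩, hs⟩
    have hba : b ∈ normalizer ((centralizer ({a} : Set G) : Subgroup G) : Set G) :=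
      le_normalizer (mem_centralizer_singleton_iff.mpr (Hyperplane.mem_comm hA hb ha))
    exact (mem_normalizer_iff.mp hba x).mp hx.2
  obtain ⟨U, hU, hle⟩ := exists_closure hr hA hA3 hθ
  refine Coprime.isSolvable_of_le ?_ hU.1
  exact member_le hr hA ((Nat.pow_le_pow_right hr.pos (by norm_num)).trans hA3) hK hAK hle

end Cfsg.Agent.SolvableSignalizer
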