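import Cfsg.Agent.Lib.SolvableSignalizer.Main
import Cfsg.Agent.Lib.Components.Balance

/-!
Balanced equivariant solvable signalizers vanish when the rank two commuting graph is connected and
the group has trivial `p'`-core.
-/

set_option autoImplicit false
set_option linter.style.haveILetI false
set_option linter.unusedSectionVars false

namespace Cfsg.Agent.SolvableSignalizer

open Subgroup
open Cfsg.Agent.Components
open scoped Pointwise

universe u

/-- `O_{p'}(C(b))` follows conjugation. -/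
theorem centralizerPPrimeCore_conj {G : Type*} [Group G] [Finite G] (p : ℕ) (b g : G) :
    Cfsg.centralizerPPrimeCore p (g * b * g⁻¹) =
      (Cfsg.centralizerPPrimeCore p b).map (MulAut.conj g).toMonoidHom := by
  have hgen : ∀ (H : Subgroup G) (f : G →* G) (hf : Function.Injective f),
      ((Cfsg.pPrimeCore p H).map H.subtype).map f =
        (Cfsg.pPrimeCore p (H.map f)).map (H.map f).subtype := fun H f hf => by
    rw [← PLocal.Cores.map_pPrimeCore_equiv (p := p) (H.equivMapOfInjective f hf), Subgroup.map_map,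
      Subgroup.map_map]
    rfl
  have hC : (Subgroup.centralizer ({b} : Set G)).map (MulAut.conj g).toMonoidHom =
      Subgroup.centralizer {g * b * g⁻¹} := by
    ext x
    rw [Subgroup.mem_map_equiv, Subgroup.mem_centralizer_singleton_iff,
      Subgroup.mem_centralizer_singleton_iff, MulAut.conj_symm_apply]
    constructor
    · intro h
      calc x * (g * b * g⁻¹) = g * (g⁻¹ * x * g * b) * g⁻¹ := by group
        _ = g * (b * (g⁻¹ * x * g)) * g⁻¹ := by rw [h]
        _ = _ := by group
    · intro h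
      calc g⁻¹ * x * g * b = g⁻¹ * (x * (g * b * g⁻¹)) * g := by group
        _ = g⁻¹ * (g * b * g⁻¹ * x) * g := by rw [h]
        _ = _ := by group
  rw [Cfsg.centralizerPPrimeCore, Cfsg.centralizerPPrimeCore, hgen _ _ (MulAut.conj g).injective, hC]

variable {G : Type u} [Group G] [Finite G] {p : ℕ} [hp : Fact p.Prime]

/-- An element of order `p` whose centraliser has rank at least three. -/
def HighRank (p : ℕ) (a : G) : Prop :=
  orderOf a = p ∧ ¬ Cfsg.PRankLE p 2 ↥(centralizer ({a} : Set G))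

/-- A subgroup of order at least `p ^ 3` of the centraliser of `E`, enlarged by `E`. -/
lemma exists_large {E : Subgroup G} (hE : Cfsg.IsElementaryAbelian p E)
    (hC : ¬ Cfsg.PRankLE p 2 ↥(centralizer (E : Set G))) :
    ∃ A, E ≤ A ∧ Cfsg.IsElementaryAbelian p A ∧ p ^ 3 ≤ Nat.card A := by
  simp only [Cfsg.PRankLE, not_forall, not_le] at hC
  obtain ⟨B', hBc, hBp, hB⟩ := hC
  set B := B'.map (centralizer (E : Set G)).subtype
  have hBe : Cfsg.IsElementaryAbelian p B :=
    PLocal.ThompsonSubgroup.IsElementaryAbelian.map ⟨hBc, hBp⟩ _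
  have hBE : B ≤ centralizer (E : Set G) := map_subtype_le _
  refine ⟨E ⊔ B, le_sup_left, PLocal.ThompsonSubgroup.IsElementaryAbelian.sup hE hBe ?_, ?_⟩
  · exact le_centralizer_iff.mp hBE
  · have hcard : Nat.card B = Nat.card B' :=
      card_map_of_injective (centralizer (E : Set G)).subtype_injective
    obtain ⟨k, hk⟩ := IsPGroup.iff_card.mp (Hyperplane.isPGroup hBe)
    have h2 : 2 < k := by
      by_contra hle
      push Not at hle
      have := Nat.pow_le_pow_right hp.out.pos hle
      omega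
    calc p ^ 3 ≤ p ^ k := Nat.pow_le_pow_right hp.out.pos h2
      _ = Nat.card B := hk.symm
      _ ≤ _ := card_le_of_le le_sup_right

lemma highRank_of_mem {A : Subgroup G} (hA : Cfsg.IsElementaryAbelian p A) (hA3 : p ^ 3 ≤ Nat.card A)
    {a : G} (ha : a ∈ A) (ha1 : a ≠ 1) : HighRank p a := by
  refine ⟨Hyperplane.orderOf_eq hA ha ha1, fun h => ?_⟩
  have hle : A ≤ centralizer ({a} : Set G) := fun b hb =>
    mem_centralizer_singleton_iff.mpr (Hyperplane.mem_comm hA hb ha)
  have hA' := PLocal.ThompsonSubgroup.IsElementaryAbelian.comap hA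
    (centralizer ({a} : Set G)).subtype_injective
  have := h _ hA'.1 hA'.2
  rw [show (Subgroup.comap (centralizer ({a} : Set G)).subtype A) = A.subgroupOf _ from rfl,
    Nat.card_congr (subgroupOfEquivOfLe hle).toEquiv] at this
  exact absurd (hA3.trans this) (not_le.mpr (Nat.pow_lt_pow_right hp.out.one_lt (by norm_num)))

/-- The hypotheses on `θ`. -/
structure Balanced (p : ℕ) (θ : G → Subgroup G) : Prop where
  le : ∀ a : G, HighRank p a →
    θ a ≤ centralizer ({a} : Set G) ∧ ¬ p ∣ Nat.card ↥(θ a) ∧ Group.IsSolvable ↥(θ a)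
  conj : ∀ a g : G, HighRank p a → θ (g * a * g⁻¹) = (θ a).map (MulAut.conj g).toMonoidHom
  bal : ∀ a b : G, HighRank p a → HighRank p b → a * b = b * a →
    θ a ⊓ centralizer {b} ≤ θ b

/-- The join of the `θ e` over `E#`. -/
def joinOn (θ : G → Subgroup G) (E : Subgroup G) : Subgroup G :=
  ⨆ e : {e : G // e ∈ E ∧ e ≠ 1}, θ (e : G)

namespace Balanced

variable {θ : G → Subgroup G} (B : Balanced p θ)
include B

lemma functor {A : Subgroup G} (hA : Cfsg.IsElementaryAbelian p A) (hA3 : p ^ 3 ≤ Nat.card A) :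
    Cfsg.IsSolvableSignalizerFunctor p A θ := by
  have hs := fun {a} => highRank_of_mem (p := p) hA hA3 (a := a)
  refine ⟨⟨fun a ha ha1 => (B.le a (hs ha ha1)).1, fun a ha ha1 => (B.le a (hs ha ha1)).2.1,
    fun a ha ha1 b hb x hx => ?_, fun a ha ha1 b hb hb1 =>
      B.bal a b (hs ha ha1) (hs hb hb1) (Hyperplane.mem_comm hA ha hb)⟩,
    fun a ha ha1 => (B.le a (hs ha ha1)).2.2⟩
  have h := B.conj a b (hs ha ha1)
  rw [show b * a * b⁻¹ = a by rw [Hyperplane.mem_comm hA hb ha, mul_inv_cancel_right]] at h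
  rw [h]
  exact ⟨x, hx, rfl⟩

lemma join_eq {A E : Subgroup G} (hA : Cfsg.IsElementaryAbelian p A) (hA3 : p ^ 3 ≤ Nat.card A)
    (hEA : E ≤ A) (hE2 : p ^ 2 ≤ Nat.card E) : joinOn θ E = joinOn θ A := by
  refine le_antisymm (iSup_le fun e => le_iSup_of_le ⟨e, hEA e.2.1, e.2.2⟩ le_rfl)
    (iSup_le fun a => ?_)
  exact theta_le_of_subgroup hp.out hA (B.functor hA hA3) hEA hE2 a.2.1 a.2.2 fun e he he1 =>
    le_iSup (fun e : {e : G // e ∈ E ∧ e ≠ 1} => θ (e : G)) ⟨e, he, he1⟩

lemma join_eq_of_connected (hconn : Cfsg.IsRankGraphConnected p 2 G) {E E' : Subgroup G}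
    (hE : Cfsg.IsRankGraphVertex p 2 E) (hE' : Cfsg.IsRankGraphVertex p 2 E') :
    joinOn θ E = joinOn θ E' := by
  have h := hconn E E' hE hE'
  clear hE'
  induction h with
  | refl => rfl
  | @tail X Y _ hXY ih =>
    obtain ⟨hX, hY, hcomm⟩ := hXY
    rw [ih]
    have hcXY : X ≤ centralizer (Y : Set G) := fun x hx =>
      mem_centralizer_iff.mpr fun y hy => (hcomm x hx y hy).symm
    set A := X ⊔ Y
    have hA : Cfsg.IsElementaryAbelian p A :=
      PLocal.ThompsonSubgroup.IsElementaryAbelian.sup hX.1 hY.1 hcXY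
    by_cases hA3 : p ^ 3 ≤ Nat.card A
    · rw [B.join_eq hA hA3 le_sup_left hX.2.1, B.join_eq hA hA3 le_sup_right hY.2.1]
    · push Not at hA3
      obtain ⟨k, hk⟩ := IsPGroup.iff_card.mp (Hyperplane.isPGroup hA)
      rw [hk] at hA3
      have h2 : Nat.card A ≤ p ^ 2 := hk ▸ Nat.pow_le_pow_right hp.out.pos
        (by have := (Nat.pow_lt_pow_iff_right hp.out.one_lt).mp hA3; omega)
      exact congrArg (joinOn θ) ((eq_of_le_of_card_ge (le_sup_left : X ≤ A) (h2.trans hX.2.1)).trans
        (eq_of_le_of_card_ge (le_sup_right : Y ≤ A) (h2.trans hY.2.1)).symm)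

/-- All `θ a` are trivial. -/
theorem eq_bot (hO : Cfsg.pPrimeCore p G = ⊥) (hconn : Cfsg.IsRankGraphConnected p 2 G) {a : G}
    (ha : HighRank p a) : θ a = ⊥ := by
  have hae : Cfsg.IsElementaryAbelian p (zpowers a) :=
    PLocal.ThompsonSubgroup.isElementaryAbelian_zpowers (ha.1 ▸ pow_orderOf_eq_one a)
  obtain ⟨A, haA, hA, hA3⟩ := exists_large hae (by
    rw [zpowers_eq_closure, centralizer_closure]; exact ha.2)
  have hA2 : p ^ 2 ≤ Nat.card A := (Nat.pow_le_pow_right hp.out.pos (by norm_num)).trans hA3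
  have hvert : ∀ g : G, Cfsg.IsRankGraphVertex p 2 (MulAut.conj g • A) := fun g => by
    have hAg : Cfsg.IsElementaryAbelian p (MulAut.conj g • A : Subgroup G) :=
      PLocal.ThompsonSubgroup.IsElementaryAbelian.map hA _
    have hle : MulAut.conj g • A ≤ centralizer ((MulAut.conj g • A : Subgroup G) : Set G) :=
      fun x hx => mem_centralizer_iff.mpr fun y hy => Hyperplane.mem_comm hAg hy hx
    refine ⟨hAg, by rwa [Coprime.card_conj_smul], fun h => ?_⟩
    have hc := PLocal.ThompsonSubgroup.IsElementaryAbelian.comap hAg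
      (centralizer ((MulAut.conj g • A : Subgroup G) : Set G)).subtype_injective
    have := h _ hc.1 hc.2
    rw [show Subgroup.comap (Subgroup.subtype _) (MulAut.conj g • A) =
        (MulAut.conj g • A).subgroupOf _ from rfl,
      Nat.card_congr (subgroupOfEquivOfLe hle).toEquiv, Coprime.card_conj_smul] at this
    exact absurd (hA3.trans this) (not_le.mpr (Nat.pow_lt_pow_right hp.out.one_lt (by norm_num)))
  set W := joinOn θ A with hW
  haveI : W.Normal := by
    refine normalizer_eq_top_iff.mp (eq_top_iff.mpr fun g _ => Coprime.conj_smul_eq_self_iff.mp ?_)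
    refine eq_of_le_of_card_ge ?_ (by rw [Coprime.card_conj_smul])
    show Subgroup.map (MulAut.conj g).toMonoidHom _ ≤ _
    rw [hW, joinOn, Subgroup.map_iSup]
    refine iSup_le fun e => ?_
    rw [← B.conj _ g (highRank_of_mem hA hA3 e.2.1 e.2.2)]
    refine le_trans (le_iSup_of_le ⟨_, Coprime.conj_mem_conj_smul e.2.1, fun h => e.2.2 (by simpa using h)⟩
      le_rfl) (B.join_eq_of_connected hconn (hvert g) (by simpa using hvert 1)).le
  have hmem := iSup_mem hp.out hA hA3 (B.functor hA hA3)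
  have hle : W ≤ Cfsg.pPrimeCore p G :=
    le_sSup ⟨inferInstance, (hp.out.coprime_iff_not_dvd.mpr hmem.2.1).symm⟩
  rw [hO] at hle
  have ha1 : a ≠ 1 := fun e => hp.out.ne_one (by rw [← ha.1, e, orderOf_one])
  exact le_bot_iff.mp ((le_iSup (fun e : {e : G // e ∈ A ∧ e ≠ 1} => θ (e : G))
    ⟨a, haA (mem_zpowers a), ha1⟩).trans hle)

end Balanced

end Cfsg.Agent.SolvableSignalizer
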