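import Cfsg.Agent.Lib.SolvableSignalizer.Connected
import Cfsg.Agent.S1327

/-!
Cores of involution centralisers of a Sylow subgroup with a normal elementary abelian subgroup of
order at least eight, when the two-local subgroups are constrained. Solvability of the groups of odd
order occurs as a hypothesis.
-/

set_option autoImplicit false
set_option linter.style.haveILetI false
set_option linter.unusedSectionVars false

namespace Cfsg.Agent.SolvableSignalizer

open Subgroup
open Cfsg.Agent.Components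
open scoped commutatorElement Pointwise

universe u

variable {G : Type u} [Group G] [Finite G]

lemma centralizer_eq_normalizer {t : G} (ht : orderOf t = 2) :
    normalizer ((zpowers t : Subgroup G) : Set G) = centralizer ({t} : Set G) := by
  refine le_antisymm (fun g hg => mem_centralizer_singleton_iff.mpr ?_) ?_
  · have h := (mem_normalizer_iff.mp hg t).mp (mem_zpowers t)
    obtain ⟨k, hk⟩ := mem_zpowers_iff.mp h
    have ht2 : t ^ (2 : ℤ) = 1 := by
      rw [show (2 : ℤ) = ((2 : ℕ) : ℤ) from rfl, zpow_natCast, ← ht, pow_orderOf_eq_one]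
    rcases Int.even_or_odd k with ⟨j, rfl⟩ | ⟨j, rfl⟩
    · rw [← two_mul, zpow_mul, ht2, one_zpow] at hk
      have : t = 1 := by
        calc t = g⁻¹ * (g * t * g⁻¹) * g := by group
          _ = 1 := by rw [← hk]; group
      rw [this, orderOf_one] at ht
      omega
    · rw [zpow_add, zpow_mul, ht2, one_zpow, one_mul, zpow_one] at hk
      calc g * t = g * t * g⁻¹ * g := by group
        _ = t * g := by rw [← hk]
  · rw [← centralizer_closure, ← zpowers_eq_closure]
    exact centralizer_le_normalizer _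

lemma pLayer_centralizer_eq_bot
    (h2c : ∀ T : Subgroup G, IsPGroup 2 T → T ≠ ⊥ →
      Cfsg.IsPConstrained 2 ↥(normalizer (T : Set G))) {t : G} (ht : orderOf t = 2) :
    Cfsg.pLayer 2 ↥(centralizer ({t} : Set G)) = ⊥ := by
  have h := h2c (zpowers t) (IsPGroup.of_card (n := 1) (by rw [Nat.card_zpowers, ht, pow_one]))
    (zpowers_ne_bot.mpr fun e => by simp [e] at ht)
  rw [centralizer_eq_normalizer ht] at h
  exact (Cfsg.Agent.S1327.result 2).mp h

/-- A subgroup of rank at least two of a `2`-group containing `E` commutes with much of `E`. -/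
lemma card_inf_centralizer_ge {E : Subgroup G} (hE : Cfsg.IsElementaryAbelian 2 E)
    (hE8 : 8 ≤ Nat.card E) {t : G} (ht : t ^ 2 = 1) (htE : t ∈ normalizer (E : Set G)) :
    4 ≤ Nat.card ↥(E ⊓ centralizer ({t} : Set G)) := by
  haveI : Fact (Nat.Prime 2) := ⟨Nat.prime_two⟩
  have hsq : Linear.Sq E t := fun v hv => by
    have hc : ⁅t, v⁆ ∈ E := Linear.comm_mem htE hv
    have ht' : t⁻¹ = t := inv_eq_of_mul_eq_one_right (by rw [← pow_two, ht])
    have hi : (⁅t, v⁆ : G)⁻¹ = ⁅t, v⁆ := inv_eq_of_mul_eq_one_right (by rw [← pow_two, hE.2 _ hc])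
    show t * ⁅t, v⁆ = ⁅t, v⁆ * t
    calc t * ⁅t, v⁆ = t * (⁅t, v⁆)⁻¹ := by rw [hi]
      _ = (t * v) * t * v⁻¹ * t⁻¹ := by rw [commutatorElement_def]; group
      _ = t * v * t⁻¹ * v⁻¹ * t := by rw [ht']
      _ = _ := by rw [commutatorElement_def]
  have h := Linear.card_mv hE htE
  have hle := card_le_of_le (Linear.Sq.mv_le hsq htE)
  set c := Nat.card ↥(E ⊓ centralizer ({t} : Set G))
  obtain ⟨k, hk⟩ := IsPGroup.iff_card.mp
    ((Hyperplane.isPGroup hE).to_le (inf_le_left : E ⊓ centralizer ({t} : Set G) ≤ E))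
  by_contra hc
  push Not at hc
  have h8 : 8 ≤ c * c := hE8.trans (h ▸ Nat.mul_le_mul_right _ hle)
  rcases k with _ | _ | k
  · change c = 1 at hk; rw [hk] at h8; omega
  · change c = 2 at hk; rw [hk] at h8; omega
  · have : 4 ≤ 2 ^ (k + 1 + 1) := by
      calc 4 = 2 ^ 2 := rfl
        _ ≤ _ := Nat.pow_le_pow_right (by norm_num) (by omega)
    change c = _ at hk
    omega

theorem cores_generate
    (hFT : ∀ H : Subgroup G, Odd (Nat.card H) → Group.IsSolvable H)
    (h2c : ∀ T : Subgroup G, IsPGroup 2 T → T ≠ ⊥ →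
      Cfsg.IsPConstrained 2 ↥(normalizer (T : Set G)))
    (S : Sylow 2 G) {A : Subgroup ↥(S : Subgroup G)} (hAn : A.Normal) (hAab : IsMulCommutative ↥A)
    (hA3 : ¬ Cfsg.PRankLE 2 2 ↥A) (S' : Sylow 2 G) :
    ∃ W : Subgroup G, Odd (Nat.card ↥W) ∧
      ∀ B : Subgroup G, B ≤ (S' : Subgroup G) → ¬ Cfsg.PRankLE 2 1 ↥B →
        W = (⨆ b : {b : G // b ∈ B ∧ b ≠ 1}, Cfsg.centralizerPPrimeCore 2 (b : G)) ∧
        normalizer (B : Set G) ≤ normalizer (W : Set G) := by
  haveI : Fact (Nat.Prime 2) := ⟨Nat.prime_two⟩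
  -- a normal elementary subgroup of order at least eight
  obtain ⟨E₀, hE₀S, hE₀e, hE₀8, hE₀n⟩ : ∃ E : Subgroup G, E ≤ (S : Subgroup G) ∧
      Cfsg.IsElementaryAbelian 2 E ∧ 8 ≤ Nat.card E ∧
      (S : Subgroup G) ≤ normalizer (E : Set G) := by
    haveI := hAab
    set E₁ : Subgroup ↥(S : Subgroup G) :=
      { carrier := {a | a ∈ A ∧ a ^ 2 = 1}
        one_mem' := ⟨one_mem _, one_pow 2⟩
        mul_mem' := fun {x y} hx hy => ⟨mul_mem hx.1 hy.1, by
          rw [(show Commute x y from congrArg Subtype.val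
            (mul_comm' (⟨x, hx.1⟩ : A) ⟨y, hy.1⟩)).mul_pow, hx.2, hy.2, one_mul]⟩
        inv_mem' := fun {x} hx => ⟨inv_mem hx.1, by rw [inv_pow, hx.2, inv_one]⟩ }
    have hE₁ : Cfsg.IsElementaryAbelian 2 E₁ := PLocal.ThompsonSubgroup.isElementaryAbelian_iff.mpr
      ⟨fun a ha b hb => congrArg Subtype.val (mul_comm' (⟨a, ha.1⟩ : A) ⟨b, hb.1⟩),
        fun a ha => ha.2⟩
    refine ⟨E₁.map (S : Subgroup G).subtype, map_subtype_le _,
      PLocal.ThompsonSubgroup.IsElementaryAbelian.map hE₁ _, ?_, ?_⟩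
    · rw [card_map_of_injective (S : Subgroup G).subtype_injective]
      simp only [Cfsg.PRankLE, not_forall, not_le] at hA3
      obtain ⟨D, -, hDp, hD⟩ := hA3
      have hle : D.map A.subtype ≤ E₁ := by
        rintro _ ⟨d, hd, rfl⟩
        exact ⟨d.2, congrArg Subtype.val (hDp d hd)⟩
      have h1 := card_le_of_le hle
      rw [card_map_of_injective A.subtype_injective] at h1
      obtain ⟨k, hk⟩ := IsPGroup.iff_card.mp (Hyperplane.isPGroup hE₁)
      have : 2 < k := by
        by_contra hk2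
        push Not at hk2
        have := Nat.pow_le_pow_right (show 0 < 2 by norm_num) hk2
        omega
      calc 8 = 2 ^ 3 := rfl
        _ ≤ 2 ^ k := Nat.pow_le_pow_right (by norm_num) this
        _ = _ := hk.symm
    · intro s hs
      refine Linear.Three.mem_normalizer_of_map_le ?_
      rintro _ ⟨e, he, rfl⟩
      refine ⟨⟨s, hs⟩ * e * ⟨s, hs⟩⁻¹, ⟨hAn.conj_mem e he.1 _, ?_⟩, rfl⟩
      rw [conj_pow, he.2, mul_one, mul_inv_cancel]
  obtain ⟨g, hg⟩ := MulAction.exists_smul_eq G S S'
  set E := MulAut.conj g • E₀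
  have hEe : Cfsg.IsElementaryAbelian 2 E := PLocal.ThompsonSubgroup.IsElementaryAbelian.map hE₀e _
  have hE8 : 8 ≤ Nat.card E := by rwa [Coprime.card_conj_smul]
  have hS' : MulAut.conj g • (S : Subgroup G) = (S' : Subgroup G) := by rw [← hg]; rfl
  have hEn : (S' : Subgroup G) ≤ normalizer (E : Set G) := by
    rw [← hS', ← Coprime.conj_smul_normalizer]
    exact pointwise_smul_le_pointwise_smul_iff.mpr hE₀n
  set θ : G → Subgroup G := fun b => Cfsg.centralizerPPrimeCore 2 b
  have hlay := fun (t : G) (ht : orderOf t = 2) => pLayer_centralizer_eq_bot h2c ht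
  have hodd : ∀ b : G, ¬ 2 ∣ Nat.card (θ b) := fun b =>
    Nat.prime_two.coprime_iff_not_dvd.mp (Balance.centralizerPPrimeCore_coprime 2 b).symm
  have hfun : ∀ A : Subgroup G, Cfsg.IsElementaryAbelian 2 A →
      Cfsg.IsSolvableSignalizerFunctor 2 A θ := fun A hA =>
    ⟨⟨fun a _ _ => Balance.centralizerPPrimeCore_le_centralizer 2 a, fun a _ _ => hodd a,
      fun a ha _ b hb x hx => (mem_normalizer_iff.mp (Balance.le_normalizer_centralizerPPrimeCore 2 a
        (mem_centralizer_singleton_iff.mpr (Hyperplane.mem_comm hA hb ha))) x).mp hx,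
      fun a ha _ b hb hb1 => Balance.centralizerPPrimeCore_inf_le (Hyperplane.zpowers_isPGroup hA ha)
        (Hyperplane.mem_comm hA ha hb) (hlay b (Hyperplane.orderOf_eq hA hb hb1))⟩,
      fun a _ _ => hFT _ (Nat.not_even_iff_odd.mp (mt (fun h => even_iff_two_dvd.mp h) (hodd a)))⟩
  have hE3 : 2 ^ 3 ≤ Nat.card E := hE8
  set W := ⨆ e : {e : G // e ∈ E ∧ e ≠ 1}, θ (e : G)
  have hW := iSup_mem Nat.prime_two hEe hE3 (hfun E hEe)
  refine ⟨W, Nat.not_even_iff_odd.mp (mt (fun h => even_iff_two_dvd.mp h) hW.2.1), ?_⟩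
  -- each elementary subgroup above a large part of `E` has the same closure
  have hlarge : ∀ t ∈ (S' : Subgroup G), t ^ 2 = 1 → ∀ A : Subgroup G,
      A = zpowers t ⊔ (E ⊓ centralizer ({t} : Set G)) → Cfsg.IsElementaryAbelian 2 A ∧
      2 ^ 2 ≤ Nat.card ↥(E ⊓ centralizer ({t} : Set G)) := by
    rintro t ht ht2 A rfl
    refine ⟨PLocal.ThompsonSubgroup.IsElementaryAbelian.sup
      (PLocal.ThompsonSubgroup.isElementaryAbelian_zpowers ht2) (Linear.elem_le hEe inf_le_left) ?_,
      card_inf_centralizer_ge hEe hE8 ht2 (hEn ht)⟩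
    exact zpowers_le.mpr (mem_centralizer_iff.mpr fun x hx => mem_centralizer_singleton_iff.mp hx.2)
  have hcore : ∀ t ∈ (S' : Subgroup G), orderOf t = 2 →
      θ t ≤ W ∧ W ⊓ centralizer ({t} : Set G) ≤ θ t := by
    intro t ht ho
    have ht2 : t ^ 2 = 1 := ho ▸ pow_orderOf_eq_one t
    have ht1 : t ≠ 1 := fun e => by simp [e] at ho
    obtain ⟨hA, hV⟩ := hlarge t ht ht2 _ rfl
    set V := E ⊓ centralizer ({t} : Set G)
    set A := zpowers t ⊔ V
    have htA : t ∈ A := mem_sup_left (mem_zpowers t)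
    have hV2 : (2 : ℕ) ^ 2 ≤ Nat.card V := hV
    refine ⟨theta_le_of_subgroup Nat.prime_two hA (hfun A hA) le_sup_right hV2 htA ht1
      (fun a ha ha1 => le_iSup (fun e : {e : G // e ∈ E ∧ e ≠ 1} => θ (e : G)) ⟨a, ha.1, ha1⟩), ?_⟩
    refine member_le Nat.prime_two (Linear.elem_le hEe inf_le_left) hV2
      (fun h => hW.2.1 (h.trans (card_dvd_of_le inf_le_left))) ?_ fun e he he1 => ?_
    · exact le_normalizer_inf (inf_le_left.trans (Signalizer.member_normalizer hW))
        (inf_le_right.trans le_normalizer)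
    · refine le_trans ?_ ((hfun A hA).1.2.2.2 e (mem_sup_right he) he1 t htA ht1)
      exact le_inf ((inf_le_inf_right _ inf_le_left).trans (hW.2.2.2 e he.1 he1))
        (inf_le_left.trans inf_le_right)
  intro B hB hrank
  have hsup : W = ⨆ b : {b : G // b ∈ B ∧ b ≠ 1}, θ (b : G) := by
    refine le_antisymm ?_ (iSup_le fun b => ?_)
    · simp only [Cfsg.PRankLE, not_forall, not_le] at hrank
      obtain ⟨U', hUc, hUp, hU⟩ := hrank
      set U := U'.map B.subtype
      have hUe : Cfsg.IsElementaryAbelian 2 U :=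
        PLocal.ThompsonSubgroup.IsElementaryAbelian.map ⟨hUc, hUp⟩ _
      have hUB : U ≤ B := map_subtype_le _
      have hU4 : 2 ^ 2 ≤ Nat.card U := by
        obtain ⟨k, hk⟩ := IsPGroup.iff_card.mp (Hyperplane.isPGroup hUe)
        have hcard : Nat.card U = Nat.card U' := card_map_of_injective B.subtype_injective
        have : 1 < k := by
          by_contra hk1
          push Not at hk1
          have := Nat.pow_le_pow_right (show 0 < 2 by norm_num) hk1
          omega
        rw [hk]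
        exact Nat.pow_le_pow_right (by norm_num) this
      refine member_le Nat.prime_two hUe hU4 hW.2.1 ?_ fun b hb hb1 => ?_
      · intro b hb
        refine Amalgam.mem_normalizer_of_iSup fun e => ⟨⟨b * e * b⁻¹,
          Linear.conj_mem_of_normalizer (hEn (hB (hUB hb))) e.2.1,
          fun h => e.2.2 (by simpa using h)⟩, le_of_eq ?_⟩
        have he2 : orderOf (e : G) = 2 := Hyperplane.orderOf_eq hEe e.2.1 e.2.2
        exact (centralizerPPrimeCore_conj 2 (e : G) b).symm
      · exact ((hcore b (hB (hUB hb)) (Hyperplane.orderOf_eq hUe hb hb1)).2).trans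
          (le_iSup (fun b : {b : G // b ∈ B ∧ b ≠ 1} => θ (b : G)) ⟨b, hUB hb, hb1⟩)
    · obtain ⟨k, hk⟩ := S'.isPGroup' ⟨b, hB b.2.1⟩
      obtain ⟨n, hn⟩ := (Nat.dvd_prime_pow Nat.prime_two).mp
        (orderOf_dvd_of_pow_eq_one (congrArg Subtype.val hk : (b : G) ^ 2 ^ k = 1))
      obtain ⟨n, rfl⟩ : ∃ m, n = m + 1 :=
        ⟨n - 1, by
          rcases n with _ | n
          · exact absurd (orderOf_eq_one_iff.mp (by simpa using hn.2)) b.2.2
          · rfl⟩
      set t : G := (b : G) ^ 2 ^ n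
      have ho : orderOf t = 2 := by
        rw [orderOf_pow, hn.2, Nat.gcd_eq_right (pow_dvd_pow 2 (Nat.le_succ n)), pow_succ,
          Nat.mul_div_cancel_left 2 (pow_pos (by norm_num) n)]
      have hle : θ b ≤ θ t := le_trans (le_inf le_rfl
          ((Balance.centralizerPPrimeCore_le_centralizer 2 (b : G)).trans fun x hx =>
            mem_centralizer_singleton_iff.mpr
              ((show Commute x (b : G) from mem_centralizer_singleton_iff.mp hx).pow_right _).eq))
        (Balance.centralizerPPrimeCore_inf_le (p := 2)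
          (S'.isPGroup'.to_le (zpowers_le.mpr (hB b.2.1)))
          ((Commute.refl (b : G)).pow_right _).eq (hlay t ho))
      exact hle.trans (hcore t (pow_mem (hB b.2.1) _) ho).1
  refine ⟨hsup, fun x hx => ?_⟩
  rw [hsup]
  exact Amalgam.mem_normalizer_of_iSup fun b =>
    ⟨⟨x * b * x⁻¹, (mem_normalizer_iff.mp hx b).mp b.2.1, fun h => b.2.2 (by simpa using h)⟩,
      (centralizerPPrimeCore_conj 2 (b : G) x).symm.le⟩

end Cfsg.Agent.SolvableSignalizer
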