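import Cfsg.Agent.Lib.Cores.Fitting
import Cfsg.Agent.Lib.Coprime.PGroup
import Cfsg.Prelude.Def_Amalgam

/-!
`O_u(M)` and `F(M)` of a subgroup `M`, as subgroups of the ambient group.
-/

set_option autoImplicit false
set_option linter.style.haveILetI false

namespace Cfsg.Agent.SolvableSignalizer

open Subgroup
open scoped Pointwise

variable {G : Type*} [Group G]

/-- `F(M)` as a subgroup of the ambient group. -/
def fitOf (M : Subgroup G) : Subgroup G :=
  (Cfsg.fittingSubgroup M).map M.subtype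

/-- `u` divides `|F(M)|`. -/
def InFit (u : ℕ) (M : Subgroup G) : Prop :=
  u.Prime ∧ Cfsg.pCoreOf u M ≠ ⊥

lemma pCoreOf_le (u : ℕ) (M : Subgroup G) : Cfsg.pCoreOf u M ≤ M := map_subtype_le _

lemma fitOf_le (M : Subgroup G) : fitOf M ≤ M := map_subtype_le _

lemma pCoreOf_isPGroup [Finite G] (u : ℕ) (M : Subgroup G) : IsPGroup u (Cfsg.pCoreOf u M) :=
  (Cores.pCore_isPGroup u).map _

lemma le_normalizer_map {M : Subgroup G} (C : Subgroup M) [hC : C.Characteristic] :
    normalizer (M : Set G) ≤ normalizer ((C.map M.subtype : Subgroup G) : Set G) := by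
  intro g hg
  have hg' : ∀ (g : G), g ∈ normalizer (M : Set G) → ∀ x ∈ C.map M.subtype,
      g * x * g⁻¹ ∈ C.map M.subtype := by
    rintro g hg _ ⟨x, hx, rfl⟩
    set e : M ≃* M :=
      { toFun := fun z => ⟨g * z * g⁻¹, (mem_normalizer_iff.mp hg z).mp z.2⟩
        invFun := fun z => ⟨g⁻¹ * z * g, by
          simpa using (mem_normalizer_iff.mp (inv_mem hg) z).mp z.2⟩
        left_inv := fun z => Subtype.ext (by simp [mul_assoc])
        right_inv := fun z => Subtype.ext (by simp [mul_assoc])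
        map_mul' := fun z w => Subtype.ext (by simp [mul_assoc]) }
    refine ⟨e x, ?_, rfl⟩
    have := characteristic_iff_map_eq.mp hC e
    exact this.le (mem_map_of_mem e.toMonoidHom hx)
  refine mem_normalizer_iff.mpr fun x => ⟨hg' g hg x, fun hx => ?_⟩
  have := hg' g⁻¹ (inv_mem hg) _ hx
  simpa [mul_assoc] using this

lemma normalizer_le_pCoreOf (u : ℕ) (M : Subgroup G) :
    normalizer (M : Set G) ≤ normalizer ((Cfsg.pCoreOf u M : Subgroup G) : Set G) :=
  le_normalizer_map (Cfsg.pCore u M)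

lemma le_normalizer_pCoreOf (u : ℕ) (M : Subgroup G) :
    M ≤ normalizer ((Cfsg.pCoreOf u M : Subgroup G) : Set G) :=
  le_normalizer.trans (normalizer_le_pCoreOf u M)

lemma normalizer_le_fitOf (M : Subgroup G) :
    normalizer (M : Set G) ≤ normalizer ((fitOf M : Subgroup G) : Set G) :=
  le_normalizer_map (Cfsg.fittingSubgroup M)

lemma le_pCoreOf {u : ℕ} {M U : Subgroup G} (hU : U ≤ M) (hn : M ≤ normalizer (U : Set G))
    (hp : IsPGroup u U) : U ≤ Cfsg.pCoreOf u M := by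
  haveI : (U.subgroupOf M).Normal := normal_subgroupOf_of_le_normalizer hn
  intro x hx
  exact ⟨⟨x, hU hx⟩, Cores.le_pCore (N := U.subgroupOf M) (hp.comap_subtype (K := M)) (mem_subgroupOf.mpr hx), rfl⟩

lemma pCoreOf_le_centralizer [Finite G] {u w : ℕ} (hu : u.Prime) (hw : w.Prime) (hne : u ≠ w)
    (M : Subgroup G) :
    Cfsg.pCoreOf u M ≤ centralizer ((Cfsg.pCoreOf w M : Subgroup G) : Set G) := by
  haveI := Fact.mk hu
  haveI := Fact.mk hw
  rintro _ ⟨x, hx, rfl⟩
  refine mem_centralizer_iff.mpr ?_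
  rintro _ ⟨y, hy, rfl⟩
  exact congrArg Subtype.val (Cores.pCore_commute hne hx hy).symm.eq

lemma pCoreOf_le_fitOf [Finite G] (u : ℕ) [Fact u.Prime] (M : Subgroup G) :
    Cfsg.pCoreOf u M ≤ fitOf M :=
  Subgroup.map_mono (Cores.pCore_le_fitting u)

lemma fitOf_le_of_forall [Finite G] {M L : Subgroup G}
    (h : ∀ u : ℕ, u.Prime → Cfsg.pCoreOf u M ≤ L) : fitOf M ≤ L := by
  rw [fitOf, Cores.fittingSubgroup_eq_iSup, Subgroup.map_iSup]
  exact iSup_le fun u => h u (Nat.prime_of_mem_primeFactors u.2)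

lemma pCoreOf_le_of_fitOf_le [Finite G] {M L : Subgroup G} (h : fitOf M ≤ L) {u : ℕ}
    (hu : u.Prime) : Cfsg.pCoreOf u M ≤ L :=
  haveI := Fact.mk hu
  (pCoreOf_le_fitOf u M).trans h

/-- `C_M(F(M)) ≤ F(M)` for solvable `M`. -/
lemma inf_centralizer_fitOf_le [Finite G] {M : Subgroup G} (hM : Group.IsSolvable M) :
    M ⊓ centralizer ((fitOf M : Subgroup G) : Set G) ≤ fitOf M := by
  haveI := hM
  rintro x ⟨hxM, hx⟩
  refine ⟨⟨x, hxM⟩, Cores.centralizer_fittingSubgroup_le ?_, rfl⟩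
  refine mem_centralizer_iff.mpr fun y hy => Subtype.ext ?_
  exact mem_centralizer_iff.mp hx y ⟨y, hy, rfl⟩

lemma centralizer_fitOf_of_forall [Finite G] {M : Subgroup G} {x : G}
    (h : ∀ u : ℕ, u.Prime → x ∈ centralizer ((Cfsg.pCoreOf u M : Subgroup G) : Set G)) :
    x ∈ centralizer ((fitOf M : Subgroup G) : Set G) := by
  have : fitOf M ≤ centralizer ({x} : Set G) := fitOf_le_of_forall fun u hu y hy =>
    mem_centralizer_singleton_iff.mpr (mem_centralizer_iff.mp (h u hu) y hy)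
  exact mem_centralizer_iff.mpr fun y hy => mem_centralizer_singleton_iff.mp (this hy)

/-- A solvable subgroup `≠ 1` has a nontrivial `O_u`. -/
lemma exists_inFit [Finite G] {M : Subgroup G} (hM : Group.IsSolvable M) (hM1 : M ≠ ⊥) :
    ∃ u, InFit u M := by
  haveI := hM
  haveI : Nontrivial M := (nontrivial_iff_ne_bot M).mpr hM1
  by_contra hc
  have h0 : fitOf M ≤ ⊥ := fitOf_le_of_forall fun u hu => le_bot_iff.mpr (by
    by_contra hne
    exact hc ⟨u, hu, hne⟩)
  exact Cores.fittingSubgroup_ne_bot (G := M)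
    ((Subgroup.map_eq_bot_iff_of_injective _ M.subtype_injective).mp (le_bot_iff.mp h0))

/-- The order of a member of a `u`-group. -/
lemma coprime_of_isPGroup [Finite G] {u w : ℕ} (hu : u.Prime) (hw : w.Prime) (hne : u ≠ w)
    {U W : Subgroup G} (hU : IsPGroup u U) (hW : IsPGroup w W) :
    (Nat.card U).Coprime (Nat.card W) := by
  haveI := Fact.mk hu
  haveI := Fact.mk hw
  exact IsPGroup.coprime_card_of_ne u w hne U W hU hW

/-- A `u`-subgroup of `F(M)` lies in `O_u(M)`. -/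
lemma pgroup_fitOf_le [Finite G] {u : ℕ} [Fact u.Prime] {M U : Subgroup G} (hU : U ≤ fitOf M)
    (hp : IsPGroup u U) : U ≤ Cfsg.pCoreOf u M := by
  intro x hx
  obtain ⟨y, hy, rfl⟩ := hU hx
  refine ⟨y, ?_, rfl⟩
  obtain ⟨S, hS⟩ := IsPGroup.exists_le_sylow
    ((hp.comap_subtype (K := M)).comap_subtype (K := Cfsg.fittingSubgroup M))
  rw [SetLike.mem_coe, ← Cores.sylow_fitting_map S]
  exact ⟨⟨y, hy⟩, hS (mem_subgroupOf.mpr (mem_subgroupOf.mpr hx)), rfl⟩

end Cfsg.Agent.SolvableSignalizer
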