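import Cfsg.Agent.Lib.SolvableSignalizer.Normalizer
import Cfsg.Agent.Lib.SolvableSignalizer.LocalCores

/-!
Nodes (maximal members containing `θ(A)`), invariant members, planes of `A`.
-/

set_option autoImplicit false
set_option linter.style.haveILetI false
set_option linter.unusedSectionVars false

namespace Cfsg.Agent.SolvableSignalizer

open Subgroup
open Cfsg.Agent.Components
open scoped Pointwise

universe u

variable {G : Type u} [Group G] {r : ℕ} {A : Subgroup G} {θ : G → Subgroup G}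

/-- The operator group `A θ(A)`. -/
def op (A : Subgroup G) (θ : G → Subgroup G) : Subgroup G := A ⊔ Cfsg.signalizerInf A θ

/-- A member invariant under `A θ(A)`. -/
structure IsXA (r : ℕ) (A : Subgroup G) (θ : G → Subgroup G) (U : Subgroup G) : Prop where
  mem : U ∈ Cfsg.signalizerFamily r A θ
  norm : op A θ ≤ normalizer (U : Set G)

/-- A maximal member containing `θ(A)`. -/
structure IsNode (r : ℕ) (A : Subgroup G) (θ : G → Subgroup G) (M : Subgroup G) : Prop where
  maximal : Maximal (fun U => U ∈ Cfsg.signalizerFamily r A θ) M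
  core_le : Cfsg.signalizerInf A θ ≤ M

/-- A subgroup of order `r ^ 2` of `A`. -/
structure IsPlane (r : ℕ) (A E : Subgroup G) : Prop where
  le : E ≤ A
  card : Nat.card E = r ^ 2

lemma normalizer_le_centralizer_normalizer (U : Subgroup G) :
    normalizer (U : Set G) ≤ normalizer ((centralizer (U : Set G) : Subgroup G) : Set G) := by
  intro g hg
  refine mem_normalizer_iff.mpr fun x => ⟨fun hx => ?_, fun hx => ?_⟩
  all_goals refine mem_centralizer_iff.mpr fun y hy => ?_
  · have h1 : g⁻¹ * y * g ∈ U := by simpa using (mem_normalizer_iff.mp (inv_mem hg) y).mp hy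
    have h2 := mem_centralizer_iff.mp hx _ h1
    calc y * (g * x * g⁻¹) = g * (g⁻¹ * y * g * x) * g⁻¹ := by group
      _ = g * (x * (g⁻¹ * y * g)) * g⁻¹ := by rw [h2]
      _ = g * x * g⁻¹ * y := by group
  · have h1 : g * y * g⁻¹ ∈ U := (mem_normalizer_iff.mp hg y).mp hy
    have h2 := mem_centralizer_iff.mp hx _ h1
    calc y * x = g⁻¹ * (g * y * g⁻¹ * (g * x * g⁻¹)) * g := by group
      _ = g⁻¹ * (g * x * g⁻¹ * (g * y * g⁻¹)) * g := by rw [h2]
      _ = x * y := by group

lemma normalizer_le_normalizer_normalizer (U : Subgroup G) :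
    normalizer (U : Set G) ≤ normalizer ((normalizer (U : Set G) : Subgroup G) : Set G) :=
  le_normalizer

lemma le_normalizer_sup {H U V : Subgroup G} (hU : H ≤ normalizer (U : Set G))
    (hV : H ≤ normalizer (V : Set G)) : H ≤ normalizer ((U ⊔ V : Subgroup G) : Set G) :=
  le_trans (le_inf hU hV) (normalizer_inf_normalizer_le_normalizer_sup U V)

lemma le_normalizer_inf {H U V : Subgroup G} (hU : H ≤ normalizer (U : Set G))
    (hV : H ≤ normalizer (V : Set G)) : H ≤ normalizer ((U ⊓ V : Subgroup G) : Set G) :=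
  le_trans (le_inf hU hV) inf_normalizer_le_normalizer_inf

lemma le_normalizer_commutator {H U V : Subgroup G} (hU : H ≤ normalizer (U : Set G))
    (hV : H ≤ normalizer (V : Set G)) : H ≤ normalizer ((⁅U, V⁆ : Subgroup G) : Set G) := by
  intro g hg
  rw [← Coprime.conj_smul_eq_self_iff, Coprime.conj_smul_commutator,
    Coprime.conj_smul_eq_self_iff.mpr (hU hg), Coprime.conj_smul_eq_self_iff.mpr (hV hg)]

lemma le_op_left : A ≤ op A θ := le_sup_left

lemma core_le_op : Cfsg.signalizerInf A θ ≤ op A θ := le_sup_right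

lemma op_le_normalizer {U : Subgroup G} (hA : A ≤ normalizer (U : Set G))
    (hX : Cfsg.signalizerInf A θ ≤ normalizer (U : Set G)) : op A θ ≤ normalizer (U : Set G) :=
  sup_le hA hX

namespace IsXA

variable {U V : Subgroup G}

lemma sub (hU : IsXA r A θ U) (hVU : V ≤ U) (hV : op A θ ≤ normalizer (V : Set G)) :
    IsXA r A θ V :=
  ⟨Signalizer.member_of_le hU.mem hVU (le_op_left.trans hV), hV⟩

lemma inf (hU : IsXA r A θ U) (hV : op A θ ≤ normalizer (V : Set G)) : IsXA r A θ (U ⊓ V) :=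
  hU.sub inf_le_left (le_normalizer_inf hU.norm hV)

lemma inf_centralizer (hU : IsXA r A θ U) (hV : op A θ ≤ normalizer (V : Set G)) :
    IsXA r A θ (U ⊓ centralizer (V : Set G)) :=
  hU.inf (hV.trans (normalizer_le_centralizer_normalizer V))

lemma sup [Finite G] (hr : r.Prime) (hA : Cfsg.IsElementaryAbelian r A) (hU : IsXA r A θ U)
    (hV : IsXA r A θ V) (hn : V ≤ normalizer (U : Set G)) : IsXA r A θ (U ⊔ V) :=
  haveI := Fact.mk hr
  ⟨Signalizer.member_sup hA hU.mem hV.mem hn, le_normalizer_sup hU.norm hV.norm⟩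

lemma pCoreOf (hU : IsXA r A θ U) (q : ℕ) : IsXA r A θ (Cfsg.pCoreOf q U) :=
  hU.sub (pCoreOf_le q U) (hU.norm.trans (normalizer_le_pCoreOf q U))

lemma le_normalizer_op (hU : IsXA r A θ U) : Cfsg.signalizerInf A θ ≤ normalizer (U : Set G) :=
  core_le_op.trans hU.norm

end IsXA

namespace IsNode

variable {M N : Subgroup G}

lemma mem (hM : IsNode r A θ M) : M ∈ Cfsg.signalizerFamily r A θ := hM.maximal.prop

lemma isXA (hM : IsNode r A θ M) : IsXA r A θ M :=
  ⟨hM.mem, op_le_normalizer (Signalizer.member_normalizer hM.mem)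
    (hM.core_le.trans le_normalizer)⟩

lemma eq_of_le (hM : IsNode r A θ M) (hN : N ∈ Cfsg.signalizerFamily r A θ) (h : M ≤ N) : N = M :=
  le_antisymm (hM.maximal.le_of_ge hN h) h

end IsNode

variable [Finite G]

namespace Minimal

variable (h : Minimal r A θ)
include h

lemma fact : Fact r.Prime := ⟨h.prime⟩

lemma sq_le : r ^ 2 ≤ Nat.card A :=
  h.card ▸ Nat.pow_le_pow_right h.prime.pos (by norm_num)

lemma cube_le : r ^ 3 ≤ Nat.card A := h.card.ge

lemma core_mem : Cfsg.signalizerInf A θ ∈ Cfsg.signalizerFamily r A θ := by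
  refine Signalizer.inf_mem h.func le_rfl fun hbot => ?_
  have := h.card
  rw [hbot, card_bot] at this
  exact absurd (Nat.one_lt_pow (n := 3) (by norm_num) h.prime.one_lt) (by omega)

lemma core_le_centralizer : Cfsg.signalizerInf A θ ≤ centralizer (A : Set G) :=
  Signalizer.inf_le_centralizer h.func le_rfl

lemma exists_ne_one : ∃ a ∈ A, a ≠ 1 := by
  by_contra hc
  push Not at hc
  have hbot : A = ⊥ := (eq_bot_iff_forall A).mpr hc
  have := h.card
  rw [hbot, card_bot] at this
  exact absurd (Nat.one_lt_pow (n := 3) (by norm_num) h.prime.one_lt) (by omega)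

lemma exists_node {U : Subgroup G} (hU : U ∈ Cfsg.signalizerFamily r A θ)
    (hX : Cfsg.signalizerInf A θ ≤ U) : ∃ M, IsNode r A θ M ∧ U ≤ M := by
  obtain ⟨M, hUM, hM⟩ := Finite.exists_le_maximal
    (p := fun V : Subgroup G => V ∈ Cfsg.signalizerFamily r A θ) (a := U) hU
  exact ⟨M, ⟨hM, hX.trans hUM⟩, hUM⟩

lemma exists_colour {a : G} (ha : a ∈ A) (ha1 : a ≠ 1) : ∃ M, IsNode r A θ M ∧ θ a ≤ M :=
  haveI := h.fact
  h.exists_node (Signalizer.theta_mem h.func ha ha1) (Signalizer.inf_le_theta A θ ha ha1)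

lemma not_all {M : Subgroup G} (hM : M ∈ Cfsg.signalizerFamily r A θ) :
    ∃ a ∈ A, a ≠ 1 ∧ ¬ θ a ≤ M := by
  by_contra hc
  push Not at hc
  exact h.notComplete ⟨M, hM, hc⟩

lemma le_of_forall {U K : Subgroup G} (hU : U ∈ Cfsg.signalizerFamily r A θ)
    (hK : ∀ a ∈ A, a ≠ 1 → U ⊓ centralizer {a} ≤ K) : U ≤ K :=
  member_le h.prime h.elem h.sq_le hU.2.1 (Signalizer.member_normalizer hU) hK

lemma le_of_plane {E U K : Subgroup G} (hE : IsPlane r A E)
    (hU : U ∈ Cfsg.signalizerFamily r A θ)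
    (hK : ∀ a ∈ E, a ≠ 1 → U ⊓ centralizer {a} ≤ K) : U ≤ K :=
  member_le h.prime (Hyperplane.isElementaryAbelian_of_le h.elem hE.le) hE.card.ge hU.2.1
    (hE.le.trans (Signalizer.member_normalizer hU)) hK

lemma relIndex_plane {E : Subgroup G} (hE : E ≤ A) (hi : E.relIndex A = r) : IsPlane r A E := by
  refine ⟨hE, Nat.eq_of_mul_eq_mul_right h.prime.pos ?_⟩
  rw [← pow_succ, ← h.card]
  conv_lhs => arg 2; rw [← hi]
  rw [← relIndex_bot_left, relIndex_mul_relIndex _ _ _ bot_le hE, relIndex_bot_left]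

lemma plane_relIndex {E : Subgroup G} (hE : IsPlane r A E) : E.relIndex A = r := by
  refine Nat.eq_of_mul_eq_mul_left (pow_pos h.prime.pos 2) ?_
  rw [← pow_succ, ← h.card]
  conv_lhs => arg 1; rw [← hE.card]
  rw [← relIndex_bot_left, relIndex_mul_relIndex _ _ _ bot_le hE.le, relIndex_bot_left]

/-- A member is generated by the fixed points of the planes. -/
lemma le_of_planes {U K : Subgroup G} (hU : U ∈ Cfsg.signalizerFamily r A θ)
    (hK : ∀ E, IsPlane r A E → U ⊓ centralizer (E : Set G) ≤ K) : U ≤ K := by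
  haveI := h.fact
  rw [Hyperplane.eq_iSup_hyperplane h.elem h.sq_le hU.2.1 (Signalizer.member_normalizer hU)]
  exact iSup_le fun D => hK D.1 (h.relIndex_plane D.2.1 D.2.2)

lemma theta_le_of_plane {E K : Subgroup G} (hE : IsPlane r A E)
    (hK : ∀ a ∈ E, a ≠ 1 → θ a ≤ K) {b : G} (hb : b ∈ A) (hb1 : b ≠ 1) : θ b ≤ K :=
  theta_le_of_subgroup h.prime h.elem h.func hE.le hE.card.ge hb hb1 hK

lemma plane_not_all {E M : Subgroup G} (hE : IsPlane r A E)
    (hM : M ∈ Cfsg.signalizerFamily r A θ) : ∃ a ∈ E, a ≠ 1 ∧ ¬ θ a ≤ M := by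
  by_contra hc
  push Not at hc
  obtain ⟨b, hb, hb1, hnot⟩ := h.not_all hM
  exact hnot (h.theta_le_of_plane hE hc hb hb1)

/-- Every member is missed by some `θ(E)`, `E` a plane. -/
lemma exists_bad_plane {M : Subgroup G} (hM : M ∈ Cfsg.signalizerFamily r A θ) :
    ∃ E, IsPlane r A E ∧ ¬ Cfsg.signalizerInf E θ ≤ M := by
  haveI := h.fact
  obtain ⟨a, ha, ha1, hnot⟩ := h.not_all hM
  by_contra hc
  push Not at hc
  exact hnot (h.le_of_planes (Signalizer.theta_mem h.func ha ha1) fun E hE =>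
    (Signalizer.member_inf_centralizer_le (Signalizer.theta_mem h.func ha ha1) hE.le).trans
      (hc E hE))

lemma bad_line {E M : Subgroup G} (hbad : ¬ Cfsg.signalizerInf E θ ≤ M) {a : G} (ha : a ∈ E)
    (ha1 : a ≠ 1) : ¬ θ a ≤ M :=
  fun hle => hbad ((Signalizer.inf_le_theta E θ ha ha1).trans hle)

lemma plane_eq {E : Subgroup G} (hE : IsPlane r A E) {a b : G} (ha : a ∈ E) (ha1 : a ≠ 1)
    (hb : b ∈ E) (hba : b ∉ zpowers a) : zpowers a ⊔ zpowers b = E := by
  haveI := h.fact
  refine eq_of_le_of_card_ge (sup_le (zpowers_le.mpr ha) (zpowers_le.mpr hb)) ?_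
  rw [hE.card]
  have hle : zpowers a ≤ zpowers a ⊔ zpowers b := le_sup_left
  obtain ⟨k, hk⟩ := ((Hyperplane.isPGroup h.elem).to_le
    (sup_le (zpowers_le.mpr (hE.le ha)) (zpowers_le.mpr (hE.le hb)))).exists_card_eq
  have h1 : Nat.card (zpowers a) < Nat.card ↥(zpowers a ⊔ zpowers b) := by
    refine lt_of_le_of_ne (card_le_of_le hle) fun e => hba ?_
    rw [eq_of_le_of_card_ge hle e.ge]
    exact mem_sup_right (mem_zpowers b)
  rw [Nat.card_zpowers, Hyperplane.orderOf_eq h.elem (hE.le ha) ha1, hk] at h1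
  rw [hk]
  refine Nat.pow_le_pow_right h.prime.pos ?_
  by_contra hk2
  have : r ^ k ≤ r ^ 1 := Nat.pow_le_pow_right h.prime.pos (by omega)
  rw [pow_one] at this
  omega

/-- Two independent lines of a plane centralising `U` centralise it together. -/
lemma plane_centralizes {E U : Subgroup G} (hE : IsPlane r A E) {a b : G} (ha : a ∈ E)
    (ha1 : a ≠ 1) (hb : b ∈ E) (hba : b ∉ zpowers a) (hUa : U ≤ centralizer {a})
    (hUb : U ≤ centralizer {b}) : U ≤ centralizer (E : Set G) := by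
  refine le_centralizer_iff.mp ?_
  rw [← h.plane_eq hE ha ha1 hb hba]
  refine sup_le (zpowers_le.mpr ?_) (zpowers_le.mpr ?_)
  · exact mem_centralizer_iff.mpr fun x hx => mem_centralizer_singleton_iff.mp (hUa hx)
  · exact mem_centralizer_iff.mpr fun x hx => mem_centralizer_singleton_iff.mp (hUb hx)

lemma thetaN_isXA {U : Subgroup G} (hU : IsXA r A θ U) (hU1 : U ≠ ⊥) :
    IsXA r A θ (thetaN A θ U) := by
  have hm := thetaN_mem h hU.mem hU1
  exact ⟨hm, op_le_normalizer (Signalizer.member_normalizer hm)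
    ((le_thetaN h h.core_mem hU.le_normalizer_op).trans le_normalizer)⟩

/-- Some node contains every member normalising `U ≠ 1`. -/
lemma exists_node_normalizer {U : Subgroup G} (hU : IsXA r A θ U) (hU1 : U ≠ ⊥) :
    ∃ N, IsNode r A θ N ∧
      ∀ V ∈ Cfsg.signalizerFamily r A θ, V ≤ normalizer (U : Set G) → V ≤ N := by
  obtain ⟨N, hN, hle⟩ := h.exists_node (thetaN_mem h hU.mem hU1)
    (le_thetaN h h.core_mem hU.le_normalizer_op)
  exact ⟨N, hN, fun V hV hn => (le_thetaN h hV hn).trans hle⟩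

/-- Members normalising a nontrivial normal subgroup of a node lie in the node. -/
lemma le_node_of_normalizes {M U V : Subgroup G} (hM : IsNode r A θ M) (hUM : U ≤ M)
    (hMU : M ≤ normalizer (U : Set G)) (hAU : A ≤ normalizer (U : Set G)) (hU1 : U ≠ ⊥)
    (hV : V ∈ Cfsg.signalizerFamily r A θ) (hn : V ≤ normalizer (U : Set G)) : V ≤ M := by
  have hUm := Signalizer.member_of_le hM.mem hUM hAU
  exact (le_thetaN h hV hn).trans (hM.eq_of_le (thetaN_mem h hUm hU1) (le_thetaN h hM.mem hMU)).le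

lemma le_node_of_normalizes_pCore {M V : Subgroup G} (hM : IsNode r A θ M) {q : ℕ}
    (hq : InFit q M) (hV : V ∈ Cfsg.signalizerFamily r A θ)
    (hn : V ≤ normalizer ((Cfsg.pCoreOf q M : Subgroup G) : Set G)) : V ≤ M :=
  h.le_node_of_normalizes hM (pCoreOf_le q M) (le_normalizer_pCoreOf q M)
    (le_op_left.trans (hM.isXA.pCoreOf q).norm) hq.2 hV hn

lemma node_ne_bot {M : Subgroup G} (hM : IsNode r A θ M) : M ≠ ⊥ := by
  rintro rfl
  obtain ⟨a, ha, ha1, hnot⟩ := h.not_all hM.mem
  haveI := h.fact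
  exact hnot (hM.eq_of_le (Signalizer.theta_mem h.func ha ha1) bot_le).le

lemma node_exists_inFit {M : Subgroup G} (hM : IsNode r A θ M) : ∃ q, InFit q M :=
  exists_inFit hM.mem.1 (h.node_ne_bot hM)

end Minimal

end Cfsg.Agent.SolvableSignalizer
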