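import Cfsg.Prelude.Def_Balance
import Cfsg.Agent.S1270
import Cfsg.Agent.Lib.Components.LocalBalance
import Cfsg.Agent.Lib.Components.Balance
import Cfsg.Agent.Lib.Coprime.Commutator

/-!
# Core-separated four-groups and their signalizer functor

For core-separated four-subgroups `A₁`, `A₂` of `G`, `A = A₁A₂` and `v ∈ Aᵢ` an involution, every
commutator `⁅C_{O_a}(v), Aᵢ⁆` lies in `O_v`. Together with the generation of fixed points in
coprime actions this makes `a ↦ ⋂ᵢ ⁅O_a, Aᵢ⁆(O_a ∩ O(C(Aᵢ)))` an `A`-signalizer functor.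
-/

set_option autoImplicit false
set_option linter.style.haveILetI false
set_option linter.unusedSectionVars false

open Subgroup
open scoped commutatorElement

namespace Cfsg.Agent.SolvableSignalizer.CoreSeparated

open Cfsg.Agent.Components Cfsg.Agent.Components.Basic Cfsg.Agent.Components.Fitting
  Cfsg.Agent.Components.PComponents

universe u

variable {G : Type u} [Group G] [Finite G]

lemma normalizer_le_normalizer_cent (A : Subgroup G) :
    normalizer (A : Set G) ≤ normalizer (centralizer (A : Set G) : Set G) := by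
  intro g hg
  refine le_normalizer_iff.mpr ?_ (mem_zpowers g)
  intro x hx c hc
  have hxA : x ∈ normalizer (A : Set G) := zpowers_le.mpr hg hx
  refine mem_centralizer_iff.mpr fun a ha => ?_
  have h := mem_centralizer_iff.mp hc (x⁻¹ * a * x⁻¹⁻¹) ((mem_normalizer_iff.mp (inv_mem hxA) a).mp ha)
  calc a * (x * c * x⁻¹) = x * ((x⁻¹ * a * x⁻¹⁻¹) * c) * x⁻¹ := by group
    _ = x * (c * (x⁻¹ * a * x⁻¹⁻¹)) * x⁻¹ := by rw [h]
    _ = x * c * x⁻¹ * a := by group

/-- In a core-free group an odd subgroup centralizing all components and `O₂` is trivial. -/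
lemma eq_bot_of_centralizes (hO : Cfsg.pPrimeCore 2 G = ⊥) {D : Subgroup G}
    (hD : (Nat.card D).Coprime 2) (hE : ∀ L : Subgroup G, Cfsg.IsComponent L → D ≤ centralizer (L : Set G))
    (hF : D ≤ centralizer (Cfsg.pCore 2 G : Set G)) : D = ⊥ := by
  haveI : Fact (Nat.Prime 2) := ⟨Nat.prime_two⟩
  have hDF : D ≤ centralizer (Cfsg.generalizedFittingSubgroup G : Set G) := by
    rw [le_centralizer_iff, Cfsg.generalizedFittingSubgroup, fitting_eq_pCore hO]
    exact sup_le (layer_le fun L hL => le_centralizer_iff.mp (hE L hL)) (le_centralizer_iff.mp hF)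
  have hle := centralizer_genFitting_le (G := G)
  haveI : IsMulCommutative ↥(centralizer (Cfsg.generalizedFittingSubgroup G : Set G)) :=
    ⟨⟨fun a b => Subtype.ext (mem_centralizer_iff.mp b.2 a.1 (hle a.2))⟩⟩
  have hDp : D ≤ Cfsg.pCore 2 G := hDF.trans (by
    rw [← fitting_eq_pCore hO]
    exact le_fitting_of_isSubnormal (Subgroup.Normal.isSubnormal inferInstance)
      (isNilpotent_of_isMulCommutative _))
  refine (Subgroup.eq_bot_iff_forall D).mpr fun d hd => ?_
  obtain ⟨m, hm⟩ := Cores.pCore_isPGroup 2 (⟨d, hDp hd⟩ : Cfsg.pCore 2 G)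
  rw [← orderOf_eq_one_iff]
  exact Nat.eq_one_of_dvd_coprimes ((Local.coprime_orderOf_of_mem hD hd).pow_right m) dvd_rfl
    (orderOf_dvd_of_pow_eq_one (congrArg Subtype.val hm))

/-- A component inside `M` is centralized by odd subgroups normalized by `M`. -/
lemma le_centralizer_component_of_normalized (hO : Cfsg.pPrimeCore 2 G = ⊥) {M E L : Subgroup G}
    (hL : Cfsg.IsComponent L) (hLM : L ≤ M) (hEM : E ≤ M) (hME : M ≤ normalizer (E : Set G))
    (hE : (Nat.card E).Coprime 2) : E ≤ centralizer (L : Set G) := by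
  haveI : Fact (Nat.Prime 2) := ⟨Nat.prime_two⟩
  haveI : (E.subgroupOf M).Normal := normal_subgroupOf_of_le_normalizer hME
  rcases component_le_or_commutator_eq_bot (component_subgroupOf hL hLM)
    (inferInstance : (E.subgroupOf M).Normal).isSubnormal with h | h
  · exfalso
    have hd := (component_dvd_card hO hL).trans
      ((Nat.card_congr (subgroupOfEquivOfLe hLM).toEquiv).symm.dvd.trans
        ((card_dvd_of_le h).trans (Nat.card_congr (subgroupOfEquivOfLe hEM).toEquiv).dvd))
    exact Nat.prime_two.coprime_iff_not_dvd.mp hE.symm hd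
  · have := congrArg (Subgroup.map M.subtype) h
    rw [map_commutator, map_subgroupOf_eq_of_le hLM, map_subgroupOf_eq_of_le hEM, Subgroup.map_bot,
      commutator_eq_bot_iff_le_centralizer] at this
    exact le_centralizer_iff.mp this

/-- `O(C(1)) = O(G)`. -/
lemma core_one (hO : Cfsg.pPrimeCore 2 G = ⊥) : Cfsg.centralizerPPrimeCore 2 (1 : G) = ⊥ := by
  have hn : (Cfsg.centralizerPPrimeCore 2 (1 : G)).Normal := by
    rw [← normalizer_eq_top_iff, eq_top_iff]
    refine le_trans ?_ (Balance.le_normalizer_centralizerPPrimeCore 2 (1 : G))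
    intro g _
    rw [mem_centralizer_singleton_iff, mul_one, one_mul]
  exact le_bot_iff.mp (hO ▸ Cores.le_pPrimeCore (Balance.centralizerPPrimeCore_coprime 2 (1 : G)))

/-- Elements of `O(C(t))` normalize every component. -/
lemma core_le_normalizer_component (hO : Cfsg.pPrimeCore 2 G = ⊥) {t : G} (ht : t ^ 2 = 1)
    {L : Subgroup G} (hL : Cfsg.IsComponent L) :
    Cfsg.centralizerPPrimeCore 2 t ≤ normalizer (L : Set G) := by
  haveI : Fact (Nat.Prime 2) := ⟨Nat.prime_two⟩
  by_cases ht1 : t = 1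
  · rw [ht1, core_one hO]; exact bot_le
  intro w hw
  have := LocalFix.centralizerPPrimeCore_le_fixer hO (orderOf_eq_prime ht ht1) hw
  simp only [LocalFix.fixer, mem_iInf] at this
  exact this ⟨L, hL⟩

/-- `O(C(t))` centralizes `O₂`. -/
lemma core_le_centralizer_pCore (hO : Cfsg.pPrimeCore 2 G = ⊥) {t : G} (ht : t ^ 2 = 1) :
    Cfsg.centralizerPPrimeCore 2 t ≤ centralizer (Cfsg.pCore 2 G : Set G) := by
  haveI : Fact (Nat.Prime 2) := ⟨Nat.prime_two⟩
  by_cases ht1 : t = 1
  · rw [ht1, core_one hO]; exact bot_le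
  · exact LocalBalance.centralizerPPrimeCore_le_centralizer_pCore (orderOf_eq_prime ht ht1)

/-- If on every component each element of `B ≤ C(t)` acts as `1` or as `t`, or `t` acts
trivially, then `⁅O(C(t)), B⁆ = 1`. -/
lemma commutator_core_eq_bot (hO : Cfsg.pPrimeCore 2 G = ⊥) {t : G} (ht : t ^ 2 = 1)
    {B : Subgroup G} (hBt : B ≤ centralizer ({t} : Set G))
    (hB : ∀ L : Subgroup G, Cfsg.IsComponent L → ∀ x ∈ B,
      x ∈ centralizer (L : Set G) ∨ t ∈ centralizer (L : Set G) ∨ x⁻¹ * t ∈ centralizer (L : Set G)) :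
    ⁅Cfsg.centralizerPPrimeCore 2 t, B⁆ = ⊥ := by
  haveI : Fact (Nat.Prime 2) := ⟨Nat.prime_two⟩
  by_cases ht1 : t = 1
  · rw [ht1, core_one hO]; exact commutator_bot_left _
  have hto : orderOf t = 2 := orderOf_eq_prime ht ht1
  set W := Cfsg.centralizerPPrimeCore 2 t with hW
  have hWB : ⁅W, B⁆ ≤ W := Coprime.commutator_le_of_le_normalizer
    (hBt.trans (Balance.le_normalizer_centralizerPPrimeCore 2 t))
  refine eq_bot_of_centralizes hO
    ((Balance.centralizerPPrimeCore_coprime 2 t).coprime_dvd_left (card_dvd_of_le hWB))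
    (fun L hL => ?_) (hWB.trans (core_le_centralizer_pCore hO ht))
  by_cases hne : ⁅L, zpowers t⁆ = L
  swap
  · refine hWB.trans ?_
    rw [le_centralizer_iff]
    exact commutator_eq_bot_iff_le_centralizer.mp (Cfsg.Agent.S1270.result 2 hO t hto L hL hne)
  have htL : t ∈ normalizer (L : Set G) :=
    le_normalizer_iff_commutator_le_left.mpr hne.le (mem_zpowers t)
  set K := centralizer (L : Set G) with hK
  have hNK : normalizer (L : Set G) ≤ normalizer (K : Set G) := normalizer_le_normalizer_cent _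
  rw [commutator_le]
  intro w hw x hx
  have hwL : w ∈ normalizer (L : Set G) := core_le_normalizer_component hO ht hL hw
  rcases hB L hL x hx with h | h | h
  · rw [commutatorElement_def]
    exact mul_mem ((mem_normalizer_iff.mp (hNK hwL) x).mp h) (inv_mem h)
  · exfalso
    refine component_ne_bot hL (hne.symm.trans ?_)
    rw [commutator_eq_bot_iff_le_centralizer, le_centralizer_iff]
    exact zpowers_le.mpr h
  · have hwt : w * t = t * w := mem_centralizer_singleton_iff.mp
      (Balance.centralizerPPrimeCore_le_centralizer 2 t hw)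
    have hu : w * (x⁻¹ * t)⁻¹ * w⁻¹ * (x⁻¹ * t) ∈ K :=
      mul_mem ((mem_normalizer_iff.mp (hNK hwL) _).mp (inv_mem h)) h
    have := (mem_normalizer_iff.mp (hNK htL) _).mp hu
    have e : t * (w * (x⁻¹ * t)⁻¹ * w⁻¹ * (x⁻¹ * t)) * t⁻¹ = ⁅w, x⁆ := by
      have h2 : t * w * t⁻¹ = w := by rw [← hwt]; group
      rw [commutatorElement_def]
      calc t * (w * (x⁻¹ * t)⁻¹ * w⁻¹ * (x⁻¹ * t)) * t⁻¹
          = (t * w * t⁻¹) * x * w⁻¹ * x⁻¹ := by group
        _ = w * x * w⁻¹ * x⁻¹ := by rw [h2]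
    rwa [e] at this

/-- The image of an odd subgroup normalized by `C(t)` lies in the core of the centralizer of the
image of `t`. -/
lemma map_le_core_centralizer {R : Subgroup G} [R.Normal] (hR : (Nat.card R).Coprime 2) {t : G}
    (ht : t ^ 2 = 1) {D : Subgroup G} (hDt : D ≤ centralizer ({t} : Set G))
    (hn : centralizer ({t} : Set G) ≤ normalizer (D : Set G)) (hD : (Nat.card D).Coprime 2) :
    D.map (QuotientGroup.mk' R) ≤
      Cfsg.centralizerPPrimeCore 2 (QuotientGroup.mk' R t) := by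
  haveI : Fact (Nat.Prime 2) := ⟨Nat.prime_two⟩
  set q := QuotientGroup.mk' R with hq
  have hP : IsPGroup 2 (zpowers t) := by
    rintro ⟨x, hx⟩
    obtain ⟨n, rfl⟩ := mem_zpowers_iff.mp hx
    refine ⟨1, Subtype.ext ?_⟩
    show (t ^ n) ^ (2 ^ 1) = 1
    rw [pow_one, ← zpow_natCast, ← zpow_mul, mul_comm, zpow_mul, zpow_natCast, ht, one_zpow]
  have e : ∀ {H : Type u} [Group H] (g : H),
      centralizer (zpowers g : Set H) = centralizer ({g} : Set H) := fun g => by
    rw [zpowers_eq_closure, centralizer_closure]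
  have hC : (centralizer ({t} : Set G)).map q = centralizer ({q t} : Set (G ⧸ R)) := by
    rw [← e t, Local.map_centralizer_eq hP hR, MonoidHom.map_zpowers, e]
  have hDc : D.map q ≤ centralizer ({q t} : Set (G ⧸ R)) := hC ▸ Subgroup.map_mono hDt
  haveI : ((D.map q).subgroupOf (centralizer ({q t} : Set (G ⧸ R)))).Normal := by
    refine normal_subgroupOf_of_le_normalizer ?_
    rw [← hC]
    exact (Subgroup.map_mono hn).trans (Subgroup.le_normalizer_map q)
  refine (map_subgroupOf_eq_of_le hDc).symm.le.trans (Subgroup.map_mono (Cores.le_pPrimeCore ?_))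
  rw [Nat.card_congr (subgroupOfEquivOfLe hDc).toEquiv]
  exact hD.coprime_dvd_left (D.card_map_dvd q)

/-- The core of the centralizer of a subgroup. -/
def coreCentralizer (B : Subgroup G) : Subgroup G :=
  (Cfsg.oddCore ↥(centralizer (B : Set G))).map (centralizer (B : Set G)).subtype

/-- One of the two factors of the core-separated functor. -/
def part (B : Subgroup G) (a : G) : Subgroup G :=
  ⁅Cfsg.centralizerPPrimeCore 2 a, B⁆ ⊔ (Cfsg.centralizerPPrimeCore 2 a ⊓ coreCentralizer B)

/-- Generation of the fixed points of a four-group on an odd group `P = ⁅P, B⁆`. -/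
def FixedGenerated (G : Type u) [Group G] : Prop :=
  ∀ B P H : Subgroup G, Cfsg.IsElementaryAbelian 2 B → Nat.card B = 4 → Odd (Nat.card P) →
    B ≤ normalizer (P : Set G) → ⁅P, B⁆ = P →
    (∀ v ∈ B, v ≠ 1 → P ⊓ centralizer (B : Set G) ⊓ ⁅P ⊓ centralizer ({v} : Set G), B⁆ ≤ H) →
      P ⊓ centralizer (B : Set G) ≤ H

variable {A₁ A₂ : Subgroup G}

lemma symm (h : Cfsg.IsCoreSeparated A₁ A₂) : Cfsg.IsCoreSeparated A₂ A₁ := by
  obtain ⟨h1, h2, h3, h4, h5, h6, h7, h8⟩ := h
  exact ⟨h2, h1, h4, h3, h5.symm, by rw [inf_comm]; exact h6, fun x hx y hy => (h7 y hy x hx).symm,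
    fun a ha ha1 E hE => (h8 a (by rwa [sup_comm]) ha1 E hE).symm⟩

lemma sup_le_centralizer (h : Cfsg.IsCoreSeparated A₁ A₂) :
    A₁ ⊔ A₂ ≤ centralizer ((A₁ ⊔ A₂ : Subgroup G) : Set G) := by
  obtain ⟨h1, h2, -, -, -, -, h7, -⟩ := h
  have k1 : A₁ ≤ centralizer (A₁ : Set G) :=
    fun x hx => mem_centralizer_iff.mpr fun y hy => congrArg Subtype.val (h1.1.1.comm ⟨y, hy⟩ ⟨x, hx⟩)
  have k2 : A₂ ≤ centralizer (A₂ : Set G) :=
    fun x hx => mem_centralizer_iff.mpr fun y hy => congrArg Subtype.val (h2.1.1.comm ⟨y, hy⟩ ⟨x, hx⟩)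
  have k3 : A₂ ≤ centralizer (A₁ : Set G) :=
    fun y hy => mem_centralizer_iff.mpr fun x hx => h7 x hx y hy
  refine sup_le ?_ ?_ <;> refine le_centralizer_iff.mp (sup_le ?_ ?_)
  exacts [k1, k3, le_centralizer_iff.mp k3, k2]

lemma commute_of_mem (h : Cfsg.IsCoreSeparated A₁ A₂) {x y : G} (hx : x ∈ A₁ ⊔ A₂)
    (hy : y ∈ A₁ ⊔ A₂) : x * y = y * x :=
  mem_centralizer_iff.mp (sup_le_centralizer h hy) x hx

lemma sup_le_centralizer_singleton (h : Cfsg.IsCoreSeparated A₁ A₂) {a : G} (ha : a ∈ A₁ ⊔ A₂) :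
    A₁ ⊔ A₂ ≤ centralizer ({a} : Set G) :=
  fun _ hx => mem_centralizer_singleton_iff.mpr (commute_of_mem h hx ha)

lemma exists_mul (h : Cfsg.IsCoreSeparated A₁ A₂) {a : G} (ha : a ∈ A₁ ⊔ A₂) :
    ∃ x ∈ A₁, ∃ y ∈ A₂, x * y = a :=
  (Coprime.mem_sup_of_le_normalizer
    ((le_sup_right.trans (sup_le_centralizer h)).trans
      ((centralizer_le (SetLike.coe_subset_coe.mpr le_sup_left)).trans (centralizer_le_normalizer _)))).mp ha

lemma sq_eq_one (h : Cfsg.IsCoreSeparated A₁ A₂) {a : G} (ha : a ∈ A₁ ⊔ A₂) : a ^ 2 = 1 := by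
  obtain ⟨x, hx, y, hy, rfl⟩ := exists_mul h ha
  have hxy : Commute x y := h.2.2.2.2.2.2.1 x hx y hy
  rw [hxy.mul_pow, h.1.2 x hx, h.2.1.2 y hy, one_mul]

/-- The four elements of a four-group containing the independent pair `v`, `x`. -/
lemma four_cases {B : Subgroup G} (hB : Cfsg.IsElementaryAbelian 2 B) (hcard : Nat.card B = 4)
    {v x : G} (hv : v ∈ B) (hv1 : v ≠ 1) (hx : x ∈ B) (hx1 : x ≠ 1) (hxv : x ≠ v) {y : G}
    (hy : y ∈ B) : y = 1 ∨ y = v ∨ y = x ∨ y = v * x := by
  classical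
  have hv2 : v * v = 1 := by rw [← sq]; exact hB.2 v hv
  have e1 : v * x ≠ 1 := fun e => hxv (mul_left_cancel (e.trans hv2.symm))
  have e2 : v * x ≠ v := fun e => hx1 (mul_left_cancel (e.trans (mul_one v).symm))
  have e3 : v * x ≠ x := fun e => hv1 (mul_right_cancel (e.trans (one_mul x).symm))
  set S : Set G := {1, v, x, v * x} with hS
  have hsub : S ⊆ (B : Set G) := by
    rintro z (rfl | rfl | rfl | rfl)
    exacts [one_mem B, hv, hx, mul_mem hv hx]
  have hScard : S.ncard = 4 := by
    rw [hS, Set.ncard_insert_of_notMem (by simp [hv1.symm, hx1.symm, e1.symm]) (Set.toFinite _),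
      Set.ncard_insert_of_notMem (by simp [hxv.symm, e2.symm]) (Set.toFinite _),
      Set.ncard_pair e3.symm]
  have heq : S = (B : Set G) := Set.eq_of_subset_of_ncard_le hsub
    (by rw [hScard, ← Nat.card_coe_set_eq, ← hcard]; exact le_rfl) (Set.toFinite _)
  have : y ∈ S := heq ▸ hy
  simpa [hS] using this

/-- Every component of `C(v)/O(C(v))` is centralized by one of the four-groups. -/
lemma separated_components (h : Cfsg.IsCoreSeparated A₁ A₂) {v : G} (hv : v ∈ A₁ ⊔ A₂) (hv1 : v ≠ 1)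
    {L : Subgroup (↥(centralizer ({v} : Set G)) ⧸ Cfsg.pPrimeCore 2 ↥(centralizer ({v} : Set G)))}
    (hL : Cfsg.IsComponent L) :
    (A₁.subgroupOf (centralizer ({v} : Set G))).map (QuotientGroup.mk' _) ≤ centralizer (SetLike.coe L) ∨
    (A₂.subgroupOf (centralizer ({v} : Set G))).map (QuotientGroup.mk' _) ≤ centralizer (SetLike.coe L) := by
  haveI : Fact (Nat.Prime 2) := ⟨Nat.prime_two⟩
  revert L
  set C := centralizer ({v} : Set G) with hC
  intro L hL
  have key : ∀ B : Subgroup G, B ≤ C →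
      ⁅(liftComp 2 L).map C.subtype, B⁆ ≤ Cfsg.centralizerPPrimeCore 2 v →
      (B.subgroupOf C).map (QuotientGroup.mk' _) ≤ centralizer (SetLike.coe L) := by
    intro B hB hE
    rw [← commutator_eq_bot_iff_le_centralizer, commutator_comm, ← map_liftComp hL,
      ← map_commutator, Subgroup.map_eq_bot_iff, QuotientGroup.ker_mk']
    refine (map_le_map_iff_of_injective C.subtype_injective).mp ?_
    rw [map_commutator, map_subgroupOf_eq_of_le hB]
    exact hE
  rcases h.2.2.2.2.2.2.2 v hv hv1 _ (isPComponent_liftComp hL) with hE | hE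
  · exact Or.inl (key A₁ (le_sup_left.trans (sup_le_centralizer_singleton h hv)) hE)
  · exact Or.inr (key A₂ (le_sup_right.trans (sup_le_centralizer_singleton h hv)) hE)

/-- The image in `C/O(C)`, `C = C(v)`, of a subgroup of `O(C(a)) ∩ C(v)`. -/
lemma map_core_le {a v : G} (ha : a ^ 2 = 1) (hav : a ∈ centralizer ({v} : Set G)) :
    ((Cfsg.centralizerPPrimeCore 2 a).subgroupOf (centralizer ({v} : Set G))).map
        (QuotientGroup.mk' (Cfsg.pPrimeCore 2 ↥(centralizer ({v} : Set G)))) ≤
      Cfsg.centralizerPPrimeCore 2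
        (QuotientGroup.mk' (Cfsg.pPrimeCore 2 ↥(centralizer ({v} : Set G))) ⟨a, hav⟩) := by
  refine map_le_core_centralizer (Cores.pPrimeCore_card_coprime 2) (Subtype.ext ha)
    (fun z hz => mem_centralizer_singleton_iff.mpr (Subtype.ext
      (mem_centralizer_singleton_iff.mp (Balance.centralizerPPrimeCore_le_centralizer 2 a hz))))
    (fun z hz => le_normalizer_comap (centralizer ({v} : Set G)).subtype
      (Balance.le_normalizer_centralizerPPrimeCore 2 a (mem_centralizer_singleton_iff.mpr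
        (congrArg Subtype.val (mem_centralizer_singleton_iff.mp hz)))))
    ((Balance.centralizerPPrimeCore_coprime 2 a).coprime_dvd_left ?_)
  rw [← Subgroup.card_map_of_injective (centralizer ({v} : Set G)).subtype_injective,
    subgroupOf_map_subtype]
  exact card_dvd_of_le inf_le_left

/-- `⁅C_{O_a}(v), A₁⁆ ≤ O_v` for `v ∈ A₁`. -/
lemma commutator_le_core (h : Cfsg.IsCoreSeparated A₁ A₂) {a v : G} (ha : a ∈ A₁ ⊔ A₂)
    (hv : v ∈ A₁) (hv1 : v ≠ 1) :
    ⁅Cfsg.centralizerPPrimeCore 2 a ⊓ centralizer ({v} : Set G), A₁⁆ ≤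
      Cfsg.centralizerPPrimeCore 2 v := by
  haveI : Fact (Nat.Prime 2) := ⟨Nat.prime_two⟩
  set C := centralizer ({v} : Set G) with hC
  have hAC : A₁ ⊔ A₂ ≤ C := sup_le_centralizer_singleton h (mem_sup_left hv)
  set q := QuotientGroup.mk' (Cfsg.pPrimeCore 2 C) with hq
  set D := (Cfsg.centralizerPPrimeCore 2 a).subgroupOf C with hD
  set B := A₁.subgroupOf C with hB
  have ht : (q ⟨a, hAC ha⟩) ^ 2 = 1 := by
    rw [← map_pow, show (⟨a, hAC ha⟩ : C) ^ 2 = 1 from Subtype.ext (sq_eq_one h ha), map_one]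
  have hbot : ⁅Cfsg.centralizerPPrimeCore 2 (q ⟨a, hAC ha⟩), B.map q⁆ = ⊥ := by
    refine commutator_core_eq_bot (Cores.pPrimeCore_quotient_self 2) ht ?_ ?_
    · rintro _ ⟨x, hx, rfl⟩
      rw [mem_centralizer_singleton_iff, ← map_mul, ← map_mul]
      exact congrArg q (Subtype.ext (commute_of_mem h (mem_sup_left hx) ha))
    · rintro L hL _ ⟨x, hx, rfl⟩
      rcases separated_components h (mem_sup_left hv) hv1 hL with h1 | h2
      · exact Or.inl (h1 ⟨x, hx, rfl⟩)
      have hvL : q ⟨v, hAC (mem_sup_left hv)⟩ ∈ centralizer (SetLike.coe L) := by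
        refine mem_centralizer_iff.mpr fun l _ => ?_
        obtain ⟨c, rfl⟩ := QuotientGroup.mk'_surjective _ l
        rw [hq, ← map_mul, ← map_mul]
        exact congrArg q (Subtype.ext (mem_centralizer_singleton_iff.mp c.2))
      by_cases hx1 : (x : G) = 1
      · left
        rw [show x = 1 from Subtype.ext hx1, map_one]
        exact one_mem _
      by_cases hxv : (x : G) = v
      · left
        rw [show x = ⟨v, hAC (mem_sup_left hv)⟩ from Subtype.ext hxv]
        exact hvL
      right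
      obtain ⟨a₁, ha₁, a₂, ha₂, e⟩ := exists_mul h ha
      have h₂L : q ⟨a₂, hAC (mem_sup_right ha₂)⟩ ∈ centralizer (SetLike.coe L) :=
        h2 ⟨_, mem_subgroupOf.mpr ha₂, rfl⟩
      have eq0 : q ⟨a, hAC ha⟩ = q ⟨a₁, hAC (mem_sup_left ha₁)⟩ * q ⟨a₂, hAC (mem_sup_right ha₂)⟩ := by
        rw [← map_mul]; exact congrArg q (Subtype.ext e.symm)
      rcases four_cases h.1 h.2.2.1 hv hv1 hx hx1 hxv ha₁ with r | r | r | r
      · left
        rw [eq0, show (⟨a₁, hAC (mem_sup_left ha₁)⟩ : C) = 1 from Subtype.ext r, map_one, one_mul]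
        exact h₂L
      · left
        rw [eq0, show (⟨a₁, hAC (mem_sup_left ha₁)⟩ : C) = ⟨v, hAC (mem_sup_left hv)⟩ from Subtype.ext r]
        exact mul_mem hvL h₂L
      · right
        rw [eq0, show (⟨a₁, hAC (mem_sup_left ha₁)⟩ : C) = x from Subtype.ext r, inv_mul_cancel_left]
        exact h₂L
      · right
        have r' : (⟨a₁, hAC (mem_sup_left ha₁)⟩ : C) = x * ⟨v, hAC (mem_sup_left hv)⟩ :=
          Subtype.ext (r.trans (commute_of_mem h (mem_sup_left hv) (mem_sup_left hx)))
        rw [eq0, r', map_mul, mul_assoc, inv_mul_cancel_left]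
        exact mul_mem hvL h₂L
  have hker : ⁅D, B⁆ ≤ Cfsg.pPrimeCore 2 C := by
    rw [← QuotientGroup.ker_mk' (Cfsg.pPrimeCore 2 C), ← Subgroup.map_eq_bot_iff, map_commutator,
      ← le_bot_iff, ← hbot]
    exact commutator_mono (map_core_le (sq_eq_one h ha) (hAC ha)) le_rfl
  have := Subgroup.map_mono (f := C.subtype) hker
  rwa [map_commutator, subgroupOf_map_subtype, map_subgroupOf_eq_of_le (le_sup_left.trans hAC)] at this

lemma coreCentralizer_le (B : Subgroup G) : coreCentralizer B ≤ centralizer (B : Set G) :=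
  map_subtype_le _

lemma centralizer_le_normalizer_coreCentralizer (B : Subgroup G) :
    centralizer (B : Set G) ≤ normalizer (coreCentralizer B : Set G) := by
  refine le_normalizer_of_normal_subgroupOf (hK := ?_) (map_subtype_le _)
  rw [subgroupOf, coreCentralizer, comap_map_eq_self_of_injective (subtype_injective _)]
  exact Cores.pPrimeCore_normal 2

lemma le_coreCentralizer {B D : Subgroup G} (hDB : D ≤ centralizer (B : Set G))
    (hn : centralizer (B : Set G) ≤ normalizer (D : Set G)) (hD : (Nat.card D).Coprime 2) :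
    D ≤ coreCentralizer B := by
  haveI : (D.subgroupOf (centralizer (B : Set G))).Normal := normal_subgroupOf_of_le_normalizer hn
  refine (map_subgroupOf_eq_of_le hDB).symm.le.trans (Subgroup.map_mono (Cores.le_pPrimeCore ?_))
  rwa [Nat.card_congr (subgroupOfEquivOfLe hDB).toEquiv]

lemma part_le_core (h : Cfsg.IsCoreSeparated A₁ A₂) {a : G} (ha : a ∈ A₁ ⊔ A₂) :
    part A₁ a ≤ Cfsg.centralizerPPrimeCore 2 a :=
  sup_le (Coprime.commutator_le_of_le_normalizer
    ((le_sup_left.trans (sup_le_centralizer_singleton h ha)).trans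
      (Balance.le_normalizer_centralizerPPrimeCore 2 a))) inf_le_left

/-- Lemma C: `C(A₁)` meets the factor inside the core of `C(A₁)`. -/
lemma part_inf_centralizer_le (hgen : FixedGenerated G) (h : Cfsg.IsCoreSeparated A₁ A₂) {a : G}
    (ha : a ∈ A₁ ⊔ A₂) : part A₁ a ⊓ centralizer (A₁ : Set G) ≤ coreCentralizer A₁ := by
  haveI : Fact (Nat.Prime 2) := ⟨Nat.prime_two⟩
  set O := Cfsg.centralizerPPrimeCore 2 a with hO
  set P := ⁅O, A₁⁆ with hP
  have hA2 : IsPGroup 2 A₁ := IsPGroup.of_card (n := 2) h.2.2.1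
  have hAO : A₁ ≤ normalizer (O : Set G) := (le_sup_left.trans (sup_le_centralizer_singleton h ha)).trans
    (Balance.le_normalizer_centralizerPPrimeCore 2 a)
  have hPO : P ≤ O := Coprime.commutator_le_of_le_normalizer hAO
  have hPc : (Nat.card P).Coprime 2 :=
    (Balance.centralizerPPrimeCore_coprime 2 a).coprime_dvd_left (card_dvd_of_le hPO)
  have hsolv : Group.IsSolvable A₁ := by
    haveI := hA2.isNilpotent
    infer_instance
  have hcop : (Nat.card A₁).Coprime (Nat.card O) := by
    rw [h.2.2.1]; exact ((Balance.centralizerPPrimeCore_coprime 2 a).symm.pow_left 2)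
  have hPP : ⁅P, A₁⁆ = P := Coprime.commutator_commutator_eq hAO hcop (Or.inl hsolv)
  have hnP : A₁ ≤ normalizer (P : Set G) := le_normalizer_iff_commutator_le_left.mpr hPP.le
  have hD : P ⊓ centralizer (A₁ : Set G) ≤ coreCentralizer A₁ := by
    refine hgen A₁ P _ h.1 h.2.2.1 (Nat.coprime_two_right.mp hPc) hnP hPP fun v hv hv1 => ?_
    refine le_trans (le_inf (inf_le_left.trans inf_le_right) (inf_le_right.trans
      ((commutator_mono (inf_le_inf_right _ hPO) le_rfl).trans (commutator_le_core h ha hv hv1))) :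
        _ ≤ centralizer (A₁ : Set G) ⊓ Cfsg.centralizerPPrimeCore 2 v) ?_
    have hCv : centralizer (A₁ : Set G) ≤ centralizer ({v} : Set G) :=
      centralizer_le (Set.singleton_subset_iff.mpr hv)
    exact le_coreCentralizer inf_le_left ((le_inf le_normalizer
      (hCv.trans (Balance.le_normalizer_centralizerPPrimeCore 2 v))).trans inf_normalizer_le_normalizer_inf)
      ((Balance.centralizerPPrimeCore_coprime 2 v).coprime_dvd_left (card_dvd_of_le inf_le_right))
  rintro x ⟨hx, hxc⟩
  obtain ⟨p, hp, e, he, rfl⟩ := (Coprime.mem_sup_of_le_normalizer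
    (inf_le_left.trans (normalizer_commutator_ge_left _ _))).mp hx
  have hec : e ∈ centralizer (A₁ : Set G) := coreCentralizer_le A₁ he.2
  have hpc : p ∈ centralizer (A₁ : Set G) := by
    simpa using Subgroup.mul_mem _ hxc (Subgroup.inv_mem _ hec)
  exact mul_mem (hD ⟨hp, hpc⟩) he.2

/-- A subgroup of `O_a ∩ C(b)` centralizes the components centralized by `A₁`. -/
lemma map_le_centralizer_of_separated (h : Cfsg.IsCoreSeparated A₁ A₂) {a b : G}
    (ha : a ∈ A₁ ⊔ A₂) (hb : b ∈ A₁ ⊔ A₂) {Y : Subgroup G}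
    (hYa : Y ≤ Cfsg.centralizerPPrimeCore 2 a) (hAY : A₁ ≤ normalizer (Y : Set G))
    (hfix : Y ⊓ centralizer (A₁ : Set G) ≤ coreCentralizer A₁)
    {L : Subgroup (↥(centralizer ({b} : Set G)) ⧸ Cfsg.pPrimeCore 2 ↥(centralizer ({b} : Set G)))}
    (hL : Cfsg.IsComponent L)
    (hAL : (A₁.subgroupOf (centralizer ({b} : Set G))).map (QuotientGroup.mk' _) ≤ centralizer (SetLike.coe L)) :
    (Y.subgroupOf (centralizer ({b} : Set G))).map (QuotientGroup.mk' _) ≤ centralizer (SetLike.coe L) := by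
  haveI : Fact (Nat.Prime 2) := ⟨Nat.prime_two⟩
  revert L
  set C := centralizer ({b} : Set G) with hC
  intro L hL hAL
  have hAC : A₁ ⊔ A₂ ≤ C := sup_le_centralizer_singleton h hb
  set q := QuotientGroup.mk' (Cfsg.pPrimeCore 2 C) with hq
  set Y' := Y.subgroupOf C with hY'
  set B := A₁.subgroupOf C with hB
  have hB2 : IsPGroup 2 B := (IsPGroup.of_card (n := 2) h.2.2.1).comap_of_injective _ C.subtype_injective
  have hYc : (Nat.card Y').Coprime 2 := by
    refine (Balance.centralizerPPrimeCore_coprime 2 a).coprime_dvd_left ?_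
    rw [← Subgroup.card_map_of_injective C.subtype_injective, subgroupOf_map_subtype]
    exact card_dvd_of_le (inf_le_left.trans hYa)
  have hcop : (Nat.card B).Coprime (Nat.card Y') := by
    rw [Nat.card_congr (subgroupOfEquivOfLe (le_sup_left.trans hAC)).toEquiv, h.2.2.1]
    exact hYc.symm.pow_left 2
  have hBY : B ≤ normalizer (Y' : Set C) := fun z hz => le_normalizer_comap C.subtype (hAY hz)
  have hsolv : Group.IsSolvable B := by
    haveI := hB2.isNilpotent
    infer_instance
  rw [← Coprime.commutator_sup_inf_centralizer hBY hcop (Or.inl hsolv), Subgroup.map_sup, sup_le_iff]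
  refine ⟨?_, ?_⟩
  · rw [map_commutator, commutator_le]
    rintro _ ⟨y, hy, rfl⟩ z hz
    have hyL : q y ∈ normalizer (SetLike.coe L) := by
      refine core_le_normalizer_component (Cores.pPrimeCore_quotient_self 2) ?_ hL
        (map_core_le (sq_eq_one h ha) (hAC ha) ⟨y, mem_subgroupOf.mpr (hYa hy), rfl⟩)
      rw [← map_pow, show (⟨a, hAC ha⟩ : C) ^ 2 = 1 from Subtype.ext (sq_eq_one h ha), map_one]
    rw [commutatorElement_def]
    exact mul_mem ((mem_normalizer_iff.mp (normalizer_le_normalizer_cent L hyL) z).mp (hAL hz))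
      (inv_mem (hAL hz))
  · set E := (coreCentralizer A₁).subgroupOf C ⊓ centralizer (B : Set C) with hE
    refine (Subgroup.map_mono (f := q) (show Y' ⊓ centralizer (B : Set C) ≤ E from
      fun y hy => ⟨hfix ⟨hy.1, mem_centralizer_iff.mpr fun z hz =>
        congrArg Subtype.val (mem_centralizer_iff.mp hy.2 ⟨z, hAC (mem_sup_left hz)⟩ hz)⟩, hy.2⟩)).trans ?_
    have hM : (centralizer (B : Set C)).map q = centralizer ((B.map q : Subgroup _) : Set _) :=
      Local.map_centralizer_eq hB2 (Cores.pPrimeCore_card_coprime 2)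
    refine le_centralizer_component_of_normalized (Cores.pPrimeCore_quotient_self 2)
      (M := (centralizer (B : Set C)).map q) hL ?_ (Subgroup.map_mono inf_le_right) ?_ ?_
    · rw [hM]; exact le_centralizer_iff.mp hAL
    · refine (Subgroup.map_mono ?_).trans (Subgroup.le_normalizer_map q)
      refine le_trans (le_inf ?_ le_normalizer) inf_normalizer_le_normalizer_inf
      intro g hg
      refine le_normalizer_comap C.subtype (centralizer_le_normalizer_coreCentralizer A₁ ?_)
      exact mem_centralizer_iff.mpr fun z hz =>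
        congrArg Subtype.val (mem_centralizer_iff.mp hg ⟨z, hAC (mem_sup_left hz)⟩ hz)
    · refine (Cores.pPrimeCore_card_coprime (G := ↥(centralizer (A₁ : Set G))) 2).coprime_dvd_left
        ((E.card_map_dvd q).trans ((card_dvd_of_le inf_le_left).trans ?_))
      rw [← Subgroup.card_map_of_injective C.subtype_injective, subgroupOf_map_subtype]
      refine (card_dvd_of_le inf_le_left).trans ?_
      rw [coreCentralizer, Subgroup.card_map_of_injective (centralizer (A₁ : Set G)).subtype_injective]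

lemma part_le (h : Cfsg.IsCoreSeparated A₁ A₂) {a : G} {Y : Subgroup G}
    (hY : Y ≤ Cfsg.centralizerPPrimeCore 2 a) (hAY : A₁ ≤ normalizer (Y : Set G))
    (hfix : Y ⊓ centralizer (A₁ : Set G) ≤ coreCentralizer A₁) : Y ≤ part A₁ a := by
  have hsolv : Group.IsSolvable A₁ := by
    haveI := (IsPGroup.of_card (p := 2) (n := 2) h.2.2.1).isNilpotent
    infer_instance
  have hcop : (Nat.card A₁).Coprime (Nat.card Y) := by
    rw [h.2.2.1]
    exact (((Balance.centralizerPPrimeCore_coprime 2 a).coprime_dvd_left (card_dvd_of_le hY)).symm.pow_left 2)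
  rw [← Coprime.commutator_sup_inf_centralizer hAY hcop (Or.inl hsolv)]
  exact sup_le_sup (commutator_mono hY le_rfl) (le_inf (inf_le_left.trans hY) hfix)

lemma sup_le_normalizer_part (h : Cfsg.IsCoreSeparated A₁ A₂) {a : G} (ha : a ∈ A₁ ⊔ A₂) :
    A₁ ⊔ A₂ ≤ normalizer (part A₁ a : Set G) := by
  intro g hg
  have h1 : g ∈ normalizer (Cfsg.centralizerPPrimeCore 2 a : Set G) :=
    Balance.le_normalizer_centralizerPPrimeCore 2 a (sup_le_centralizer_singleton h ha hg)
  have hgc : g ∈ centralizer (A₁ : Set G) :=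
    centralizer_le (SetLike.coe_subset_coe.mpr le_sup_left) (sup_le_centralizer h hg)
  have h2 : g ∈ normalizer (A₁ : Set G) := centralizer_le_normalizer _ hgc
  have h3 : g ∈ normalizer ((Cfsg.centralizerPPrimeCore 2 a ⊓ coreCentralizer A₁ : Subgroup G) : Set G) :=
    inf_normalizer_le_normalizer_inf ⟨h1, centralizer_le_normalizer_coreCentralizer A₁ hgc⟩
  rw [mem_normalizer_iff_map_conj_eq] at h1 h2 h3 ⊢
  rw [part, Subgroup.map_sup, map_commutator, h1, h2, h3]

/-- The core-separated signalizer functor, modulo the generation of fixed points. -/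
theorem isSignalizerFunctor (hgen : FixedGenerated G) (h : Cfsg.IsCoreSeparated A₁ A₂) :
    Cfsg.IsSignalizerFunctor 2 (A₁ ⊔ A₂) (fun a => part A₁ a ⊓ part A₂ a) := by
  haveI : Fact (Nat.Prime 2) := ⟨Nat.prime_two⟩
  have h' := symm h
  have hle : ∀ a ∈ A₁ ⊔ A₂, part A₁ a ⊓ part A₂ a ≤ Cfsg.centralizerPPrimeCore 2 a :=
    fun a ha => inf_le_left.trans (part_le_core h ha)
  have hinv : ∀ a ∈ A₁ ⊔ A₂, A₁ ⊔ A₂ ≤ normalizer ((part A₁ a ⊓ part A₂ a : Subgroup G) : Set G) :=
    fun a ha => le_trans (le_inf (sup_le_normalizer_part h ha)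
      (sup_comm A₂ A₁ ▸ sup_le_normalizer_part h' (a := a) (by rwa [sup_comm])))
      inf_normalizer_le_normalizer_inf
  refine ⟨fun a ha _ => (hle a ha).trans (Balance.centralizerPPrimeCore_le_centralizer 2 a),
    fun a ha _ hd => ?_, fun a ha _ g hg x hx => (mem_normalizer_iff.mp (hinv a ha hg) x).mp hx,
    fun a ha _ b hb hb1 => ?_⟩
  · exact Nat.prime_two.coprime_iff_not_dvd.mp (Balance.centralizerPPrimeCore_coprime 2 a).symm
      (hd.trans (card_dvd_of_le (hle a ha)))
  set Y := (part A₁ a ⊓ part A₂ a) ⊓ centralizer ({b} : Set G) with hY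
  have hY₁ : Y ⊓ centralizer (A₁ : Set G) ≤ coreCentralizer A₁ :=
    (inf_le_inf_right _ (inf_le_left.trans inf_le_left)).trans (part_inf_centralizer_le hgen h ha)
  have hY₂ : Y ⊓ centralizer (A₂ : Set G) ≤ coreCentralizer A₂ :=
    (inf_le_inf_right _ (inf_le_left.trans inf_le_right)).trans
      (part_inf_centralizer_le hgen h' (by rwa [sup_comm]))
  have hYa : Y ≤ Cfsg.centralizerPPrimeCore 2 a := inf_le_left.trans (hle a ha)
  have hAY : A₁ ⊔ A₂ ≤ normalizer (Y : Set G) := le_trans (le_inf (hinv a ha)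
    ((sup_le_centralizer_singleton h hb).trans le_normalizer)) inf_normalizer_le_normalizer_inf
  -- `Y` maps trivially to `C(b)/O(C(b))`
  set C := centralizer ({b} : Set G) with hC
  have hAC : A₁ ⊔ A₂ ≤ C := sup_le_centralizer_singleton h hb
  set q := QuotientGroup.mk' (Cfsg.pPrimeCore 2 C) with hq
  have hW : (Y.subgroupOf C).map q ≤ Cfsg.centralizerPPrimeCore 2 (q ⟨a, hAC ha⟩) :=
    le_trans (Subgroup.map_mono (comap_mono hYa)) (map_core_le (sq_eq_one h ha) (hAC ha))
  have ht : (q ⟨a, hAC ha⟩) ^ 2 = 1 := by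
    rw [← map_pow, show (⟨a, hAC ha⟩ : C) ^ 2 = 1 from Subtype.ext (sq_eq_one h ha), map_one]
  have hbot : (Y.subgroupOf C).map q = ⊥ := by
    refine eq_bot_of_centralizes (Cores.pPrimeCore_quotient_self 2)
      ((Balance.centralizerPPrimeCore_coprime 2 _).coprime_dvd_left (card_dvd_of_le hW)) (fun L hL => ?_)
      (hW.trans (core_le_centralizer_pCore (Cores.pPrimeCore_quotient_self 2) ht))
    rcases separated_components h hb hb1 hL with h1 | h2
    · exact map_le_centralizer_of_separated h ha hb hYa (le_sup_left.trans hAY) hY₁ hL h1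
    · exact map_le_centralizer_of_separated h' (by rwa [sup_comm]) (by rwa [sup_comm]) hYa
        (le_sup_right.trans hAY) hY₂ hL h2
  have hYb : Y ≤ Cfsg.centralizerPPrimeCore 2 b := by
    rw [Subgroup.map_eq_bot_iff, QuotientGroup.ker_mk'] at hbot
    exact (map_subgroupOf_eq_of_le inf_le_right).symm.le.trans (Subgroup.map_mono hbot)
  exact le_inf (part_le h hYb (le_sup_left.trans hAY) hY₁)
    (part_le h' hYb (le_sup_right.trans hAY) hY₂)

end Cfsg.Agent.SolvableSignalizer.CoreSeparated
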