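import Cfsg.Agent.Lib.Components.Signalizer

/-!
Solvable signalizer functors on an elementary abelian group of order `r ^ 3`: completeness, the
size used for induction, minimal incomplete functors.
-/

set_option autoImplicit false
set_option linter.style.haveILetI false

namespace Cfsg.Agent.SolvableSignalizer

open Subgroup
open Cfsg.Agent.Components

universe u

variable {G : Type u} [Group G] {r : ℕ} {A : Subgroup G} {θ : G → Subgroup G}

/-- A member of the family containing every `θ a`. -/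
def Complete (r : ℕ) (A : Subgroup G) (θ : G → Subgroup G) : Prop :=
  ∃ K ∈ Cfsg.signalizerFamily r A θ, ∀ a ∈ A, a ≠ 1 → θ a ≤ K

/-- The number of pairs `(a, x)` with `x ∈ θ a`. -/
noncomputable def size (A : Subgroup G) (θ : G → Subgroup G) : ℕ :=
  Nat.card ((a : {a : G // a ∈ A ∧ a ≠ 1}) × θ (a : G))

/-- An incomplete functor all of whose smaller relatives are complete. -/
structure Minimal [Finite G] (r : ℕ) (A : Subgroup G) (θ : G → Subgroup G) : Prop where
  prime : r.Prime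
  elem : Cfsg.IsElementaryAbelian r A
  card : Nat.card A = r ^ 3
  func : Cfsg.IsSolvableSignalizerFunctor r A θ
  notComplete : ¬ Complete r A θ
  group_ind : ∀ (H : Type u) [Group H] [Finite H] (A' : Subgroup H) (θ' : H → Subgroup H),
    Nat.card H < Nat.card G → Cfsg.IsElementaryAbelian r A' → Nat.card A' = r ^ 3 →
      Cfsg.IsSolvableSignalizerFunctor r A' θ' → Complete r A' θ'
  functor_ind : ∀ θ' : G → Subgroup G, Cfsg.IsSolvableSignalizerFunctor r A θ' →
    size A θ' < size A θ → Complete r A θ'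

lemma size_lt [Finite G] {θ' : G → Subgroup G} (hle : ∀ a ∈ A, a ≠ 1 → θ' a ≤ θ a) {a : G}
    (ha : a ∈ A) (ha1 : a ≠ 1) (hlt : ¬ θ a ≤ θ' a) : size A θ' < size A θ := by
  obtain ⟨x, hx, hx'⟩ := SetLike.not_le_iff_exists.mp hlt
  refine (Finite.card_le_of_embedding ⟨fun z => ⟨z.1, inclusion (hle z.1 z.1.2.1 z.1.2.2) z.2⟩,
    ?_⟩).lt_of_ne fun e => hx' ?_
  · rintro ⟨a, u⟩ ⟨b, v⟩ h
    obtain ⟨rfl, h2⟩ := Sigma.mk.inj_iff.mp h
    exact Sigma.ext rfl (heq_of_eq (inclusion_injective _ (eq_of_heq h2)))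
  · have hbij : Function.Bijective
        (fun z : (a : {a : G // a ∈ A ∧ a ≠ 1}) × θ' (a : G) =>
          (⟨z.1, inclusion (hle z.1 z.1.2.1 z.1.2.2) z.2⟩ :
            (a : {a : G // a ∈ A ∧ a ≠ 1}) × θ (a : G))) := by
      refine (Nat.bijective_iff_injective_and_card _).mpr ⟨?_, e⟩
      rintro ⟨a, u⟩ ⟨b, v⟩ h
      obtain ⟨rfl, h2⟩ := Sigma.mk.inj_iff.mp h
      exact Sigma.ext rfl (heq_of_eq (inclusion_injective _ (eq_of_heq h2)))
    obtain ⟨⟨b, u⟩, h⟩ := hbij.2 ⟨⟨a, ha, ha1⟩, ⟨x, hx⟩⟩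
    obtain ⟨rfl, h2⟩ := Sigma.mk.inj_iff.mp h
    have hux : (u : G) = x := congrArg Subtype.val (eq_of_heq h2)
    exact hux ▸ u.2

/-- A member is the join of its intersections with the centralisers of `A#`. -/
lemma member_le [Finite G] (hr : r.Prime) (hA : Cfsg.IsElementaryAbelian r A)
    (hA2 : r ^ 2 ≤ Nat.card A) {U K : Subgroup G} (hU : ¬ r ∣ Nat.card U)
    (hAU : A ≤ normalizer (U : Set G)) (h : ∀ a ∈ A, a ≠ 1 → U ⊓ centralizer {a} ≤ K) : U ≤ K := by
  haveI := Fact.mk hr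
  haveI := hA.1
  have hcop : (Nat.card A).Coprime (Nat.card U) := Signalizer.coprime_member hA hU
  rw [← Coprime.fixedGen_eq (Hyperplane.not_isCyclic hA hA2) hAU hcop]
  exact iSup₂_le fun a ha => h a ha.1 ha.2

/-- `θ a` viewed through a subgroup `A₀` on which balance holds. -/
lemma theta_le_of_subgroup [Finite G] (hr : r.Prime) (hA : Cfsg.IsElementaryAbelian r A)
    (hθ : Cfsg.IsSolvableSignalizerFunctor r A θ) {E : Subgroup G} (hE : E ≤ A)
    (hE2 : r ^ 2 ≤ Nat.card E) {b : G} (hb : b ∈ A) (hb1 : b ≠ 1) {K : Subgroup G}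
    (h : ∀ a ∈ E, a ≠ 1 → θ a ≤ K) : θ b ≤ K :=
  haveI := Fact.mk hr
  member_le hr (Hyperplane.isElementaryAbelian_of_le hA hE) hE2 (hθ.1.2.1 b hb hb1)
    (hE.trans (Signalizer.theta_normalizer hθ hb hb1))
    fun a ha ha1 => (hθ.1.2.2.2 b hb hb1 a (hE ha) ha1).trans (h a ha ha1)

end Cfsg.Agent.SolvableSignalizer
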