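import Cfsg.Agent.Lib.SolvableSignalizer.OddModule
import Cfsg.Agent.GenA.ShultGross.Group
import Cfsg.Agent.Lib.Coprime.Commutator
import Cfsg.Agent.Solvable.Basics

/-!
If the fixed points in a `u`-group of an element `f` of prime order are centralised by an invariant
`x`-group `R`, `x` odd, then `⁅R, f⁆` centralises the `u`-group.
-/

set_option autoImplicit false
set_option linter.style.haveILetI false

namespace Cfsg.Agent.SolvableSignalizer

open Subgroup
open Cfsg.Agent.GenA.ShultGross (toEnd toMul_toEnd)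
open scoped TensorProduct commutatorElement

universe u

/-- The module step for a finite `ZMod r`-module. -/
theorem commute_odd_of_fpf' {Γ : Type u} [Group Γ] [Finite Γ] {A : Type u} [CommGroup A] [Finite A]
    {p q r : ℕ} [hp : Fact p.Prime] [hq : Fact q.Prime] [hr : Fact r.Prime] (hp2 : p ≠ 2) (hpq : p ≠ q)
    (hpr : p ≠ r) (hqr : q ≠ r) [Module (ZMod r) (Additive A)] (φ : Γ →* MulAut A) (Q : Subgroup Γ) (x : Γ)
    {n : ℕ} (hn : 1 ≤ n) (hQ : IsPGroup q Q) (hxP : x ^ p ^ n = 1)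
    (hxQ : ∀ b ∈ Q, x * b * x⁻¹ ∈ Q) (hq2 : q ≠ 2)
    (hAfix : ∀ a : A, φ x a = a → a = 1) :
    ∀ g ∈ Q, φ (x ^ p ^ (n - 1)) * φ g = φ g * φ (x ^ p ^ (n - 1)) := by
  classical
  haveI : Finite (Additive A) := Finite.of_equiv _ Additive.ofMul
  haveI : Module.Finite (ZMod r) (Additive A) := Module.Finite.of_finite
  let Kr := AlgebraicClosure (ZMod r)
  haveI : CharP Kr r := charP_of_injective_algebraMap (algebraMap (ZMod r) Kr).injective r
  let β : Module.End (ZMod r) (Additive A) →ₐ[ZMod r] Module.End Kr (Kr ⊗[ZMod r] Additive A) :=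
    Module.End.baseChangeHom (ZMod r) Kr (Additive A)
  have hβ : Function.Injective β := fun a b h => LinearMap.baseChangeHom_injective (ZMod r) _ (M := Additive A) h
  let ρ : Γ →* Module.End Kr (Kr ⊗[ZMod r] Additive A) := β.toMonoidHom.comp (toEnd r φ)
  have hne : ∀ s : ℕ, s.Prime → s ≠ r → (s : Kr) ≠ 0 := fun s hs hsr h => hsr
    ((Nat.prime_dvd_prime_iff_eq hr.out hs).mp ((CharP.cast_eq_zero_iff Kr r s).mp h)).symm
  have hfix : ∀ w, ρ x w = w → w = 0 := by
    have h0 : Function.Injective (toEnd r φ x - 1 : Module.End (ZMod r) (Additive A)) := by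
      refine (injective_iff_map_eq_zero _).mpr fun v hv => ?_
      refine Additive.toMul.injective (hAfix _ ?_)
      exact congrArg Additive.toMul (sub_eq_zero.mp hv)
    have h1 : Function.Injective (β (toEnd r φ x - 1)) := by
      show Function.Injective ((toEnd r φ x - 1).baseChange Kr)
      rw [LinearMap.baseChange_eq_ltensor]
      exact Module.Flat.lTensor_preserves_injective_linearMap _ h0
    intro w hw
    refine h1 ?_
    rw [map_sub, map_one, LinearMap.sub_apply, Module.End.one_apply, map_zero, sub_eq_zero]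
    exact hw
  have hnot := not_moves_odd (p := p) (q := q) hp2 hpq hq2 (hne p hp.out hpr) (hne q hq.out hqr) hn (Nat.card Q) _ Γ
    (Kr ⊗[ZMod r] Additive A) ρ Q x le_rfl le_rfl hQ hxP hxQ hfix
  simp only [Cfsg.Agent.PLocal.TheoremB.Moves, not_exists, not_and, not_not] at hnot
  intro g hg
  have h := (hnot g hg).eq
  have h' : toEnd r φ (x ^ p ^ (n - 1) * g) = toEnd r φ (g * x ^ p ^ (n - 1)) := hβ (by
    show ρ _ = ρ _
    rw [map_mul, map_mul]; exact h)
  rw [← map_mul, ← map_mul]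
  exact MulEquiv.ext fun a => congrArg Additive.toMul (LinearMap.congr_fun h' (Additive.ofMul a))

/-- The module step for a finite abelian group of prime exponent. -/
theorem commute_odd_of_fpf {Γ : Type u} [Group Γ] [Finite Γ] {A : Type u} [CommGroup A] [Finite A]
    {p q r : ℕ} [hp : Fact p.Prime] [hq : Fact q.Prime] [hr : Fact r.Prime] (hp2 : p ≠ 2) (hpq : p ≠ q)
    (hpr : p ≠ r) (hqr : q ≠ r) (hexp : ∀ a : A, a ^ r = 1) (φ : Γ →* MulAut A) (Q : Subgroup Γ) (x : Γ)
    {n : ℕ} (hn : 1 ≤ n) (hQ : IsPGroup q Q) (hxP : x ^ p ^ n = 1)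
    (hxQ : ∀ b ∈ Q, x * b * x⁻¹ ∈ Q) (hq2 : q ≠ 2)
    (hAfix : ∀ a : A, φ x a = a → a = 1) :
    ∀ g ∈ Q, φ (x ^ p ^ (n - 1)) * φ g = φ g * φ (x ^ p ^ (n - 1)) := by
  have hsmul : ∀ v : Additive A, r • v = 0 := fun v => by
    refine Additive.toMul.injective ?_
    rw [toMul_nsmul, toMul_zero, hexp]
  haveI hM : Module (ZMod r) (Additive A) := AddCommGroup.zmodModule hsmul
  exact commute_odd_of_fpf' (r := r) hp2 hpq hpr hqr φ Q x hn hQ hxP hxQ hq2 hAfix

variable {G : Type u} [Group G] [Finite G]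

private lemma commutator_le_centralizer_abelian {r x u : ℕ} [Fact r.Prime] [Fact x.Prime] [Fact u.Prime]
    (hrx : r ≠ x) (hru : r ≠ u) (hxu : x ≠ u) {f : G} (hf : f ^ r = 1)
    {R Q : Subgroup G} (hR : IsPGroup x R) (hx2 : x ≠ 2 ∨ ∀ b ∈ R, f * b * f⁻¹ = b → b = 1)
    (hQ : Cfsg.IsElementaryAbelian u Q)
    (hfR : f ∈ normalizer (R : Set G)) (hfQ : f ∈ normalizer (Q : Set G))
    (hRQ : R ≤ normalizer (Q : Set G))
    (hC : Q ⊓ centralizer {f} ≤ centralizer (R : Set G)) :
    ⁅R, zpowers f⁆ ≤ centralizer (Q : Set G) := by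
  haveI := hQ.1
  have hQp : IsPGroup u Q := fun z => ⟨1, Subtype.ext (by simpa using hQ.2 z z.2)⟩
  have hcop : (Nat.card R).Coprime (Nat.card Q) := IsPGroup.coprime_card_of_ne x u hxu R Q hR hQp
  set W := ⁅Q, R⁆ with hW
  have hWQ : W ≤ Q := Coprime.commutator_le_of_le_normalizer hRQ
  haveI hWc : IsMulCommutative W := ⟨⟨fun a b => Subtype.ext
    (congrArg Subtype.val (hQ.1.is_comm.comm (⟨a, hWQ a.2⟩ : Q) ⟨b, hWQ b.2⟩) :)⟩⟩
  have hfW : f ∈ normalizer (W : Set G) := by
    rw [← Coprime.conj_smul_eq_self_iff, hW, Coprime.conj_smul_commutator,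
      Coprime.conj_smul_eq_self_iff.mpr hfQ, Coprime.conj_smul_eq_self_iff.mpr hfR]
  have hRW : R ≤ normalizer (W : Set G) := normalizer_commutator_ge_right Q R
  have hfpf : ∀ w ∈ W, f * w * f⁻¹ = w → w = 1 := fun w hw e => by
    refine mem_bot.mp ((Coprime.inf_centralizer_inf_commutator hRQ hcop).le (mem_inf.mpr
      ⟨mem_inf.mpr ⟨hWQ hw, hC (mem_inf.mpr ⟨hWQ hw, ?_⟩)⟩, hw⟩))
    exact mem_centralizer_singleton_iff.mpr (mul_inv_eq_iff_eq_mul.mp e).symm
  let φ : ↥(normalizer (W : Set G)) →* MulAut W := W.normalizerMonoidHom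
  have hφ : ∀ (g : ↥(normalizer (W : Set G))) (w : W), ((φ g w : W) : G) = g * w * (g : G)⁻¹ :=
    fun _ _ => rfl
  set x₀ : ↥(normalizer (W : Set G)) := ⟨f, hfW⟩
  letI : CommGroup W := { (inferInstance : Group W) with mul_comm := hWc.is_comm.comm }
  have hcomm : ∀ g (hg : g ∈ R), φ x₀ * φ ⟨g, hRW hg⟩ = φ ⟨g, hRW hg⟩ * φ x₀ := by
    by_cases hr2 : r = 2
    · subst hr2
      have hinv : ∀ w : W, φ x₀ w = w⁻¹ := fun w => by
        have h2 : φ x₀ (φ x₀ w) = w := by
          rw [← MulAut.mul_apply, ← map_mul, show x₀ * x₀ = 1 from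
            Subtype.ext (show f * f = 1 by rw [← pow_two, hf]), map_one, MulAut.one_apply]
        have h1 : φ x₀ (w * φ x₀ w) = w * φ x₀ w := by rw [map_mul, h2, mul_comm]
        have h3 : w * φ x₀ w = 1 := Subtype.ext (hfpf _ (SetLike.coe_mem _)
          (by rw [← hφ x₀]; exact congrArg Subtype.val h1))
        exact eq_inv_of_mul_eq_one_right h3
      intro g hg
      refine MulEquiv.ext fun w => ?_
      rw [MulAut.mul_apply, MulAut.mul_apply, hinv, hinv, map_inv]
    · intro g hg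
      have hexp : ∀ w : W, w ^ u = 1 := fun w => Subtype.ext (by simpa using hQ.2 w (hWQ w.2))
      have hfix : ∀ w : W, φ x₀ w = w → w = 1 := fun w e =>
        Subtype.ext (hfpf w w.2 (by rw [← hφ x₀]; exact congrArg Subtype.val e))
      have h : φ (x₀ ^ r ^ 0) * φ ⟨g, hRW hg⟩ = φ ⟨g, hRW hg⟩ * φ (x₀ ^ r ^ 0) := by
        rcases hx2 with hx2 | hRfix
        · exact commute_odd_of_fpf (p := r) (q := x) (r := u) hr2 hrx hru hxu hexp φ
            (R.subgroupOf (normalizer (W : Set G))) x₀ (n := 1) le_rfl hR.comap_subtype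
            (Subtype.ext (by simpa using hf)) (fun b hb => (mem_normalizer_iff.mp hfR _).mp hb) hx2
            hfix ⟨g, hRW hg⟩ (mem_subgroupOf.mpr hg)
        · exact GenA.ShultGross.commute_of_fpf (p := r) (q := x) (r := u) hr2 hrx hru hxu hexp φ
            (R.subgroupOf (normalizer (W : Set G))) x₀ (n := 1) le_rfl hR.comap_subtype
            (Subtype.ext (by simpa using hf)) (fun b hb => (mem_normalizer_iff.mp hfR _).mp hb)
            (fun b hb e => Subtype.ext (hRfix b (mem_subgroupOf.mp hb) (congrArg Subtype.val e)))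
            hfix ⟨g, hRW hg⟩ (mem_subgroupOf.mpr hg)
      simpa using h
  have hYW : ⁅R, zpowers f⁆ ≤ centralizer (W : Set G) := by
    rw [commutator_le]
    intro g hg z hz
    obtain ⟨m, rfl⟩ := mem_zpowers_iff.mp hz
    refine mem_centralizer_iff.mpr fun w hw => ?_
    have hc : Commute (φ x₀) (φ ⟨g, hRW hg⟩) := hcomm g hg
    have h1 : φ ⁅(⟨g, hRW hg⟩ : ↥(normalizer (W : Set G))), x₀ ^ m⁆ = 1 := by
      rw [map_commutatorElement, map_zpow, commutatorElement_eq_one_iff_commute]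
      exact (hc.zpow_left m).symm
    have h2 := congrArg (fun σ : MulAut W => ((σ ⟨w, hw⟩ : W) : G)) h1
    simp only [MulAut.one_apply, hφ] at h2
    rw [mul_inv_eq_iff_eq_mul] at h2
    simpa [commutatorElement_def, x₀] using h2.symm
  have hYR : ⁅R, zpowers f⁆ ≤ R :=
    Coprime.commutator_le_of_le_normalizer (zpowers_le.mpr hfR)
  refine le_centralizer_iff.mp ?_
  rw [← Coprime.commutator_sup_inf_centralizer hRQ hcop (Or.inr
    (Coprime.isSolvable_of_isMulCommutative Q))]
  exact sup_le (le_centralizer_iff.mp hYW) (inf_le_right.trans (centralizer_le hYR))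

/-- If the fixed points of `f` on `Q` are centralised by `R` then `⁅R, f⁆` centralises `Q`. -/
private theorem commutator_le_centralizer_aux {r x u : ℕ} [Fact r.Prime] [Fact x.Prime] [Fact u.Prime]
    (hrx : r ≠ x) (hru : r ≠ u) (hxu : x ≠ u) {f : G} (hf : f ^ r = 1)
    {R Q : Subgroup G} (hR : IsPGroup x R)
    (hx2 : x ≠ 2 ∨ ∀ b ∈ R, f * b * f⁻¹ = b → b = 1) (hQ : IsPGroup u Q)
    (hfR : f ∈ normalizer (R : Set G)) (hfQ : f ∈ normalizer (Q : Set G))
    (hRQ : R ≤ normalizer (Q : Set G))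
    (hC : Q ⊓ centralizer {f} ≤ centralizer (R : Set G)) :
    ⁅R, zpowers f⁆ ≤ centralizer (Q : Set G) := by
  set N : Subgroup G := normalizer (Q : Set G)
  set Q₁ : Subgroup N := Q.subgroupOf N with hQ₁
  haveI : Q₁.Normal := normal_in_normalizer
  set P₀ : Subgroup N := (frattini Q₁).map Q₁.subtype with hP₀
  haveI : P₀.Normal := Cores.normal_map_subtype Q₁ (frattini Q₁)
  set φ := QuotientGroup.mk' P₀
  have hQ₁p : IsPGroup u Q₁ := hQ.comap_subtype
  set f₁ : N := ⟨f, hfQ⟩
  set R₁ : Subgroup N := R.subgroupOf N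
  have hel : Cfsg.IsElementaryAbelian u (Q₁.map φ) := by
    refine ⟨⟨⟨?_⟩⟩, ?_⟩
    · rintro ⟨_, a, ha, rfl⟩ ⟨_, b, hb, rfl⟩
      refine Subtype.ext ?_
      show φ a * φ b = φ b * φ a
      rw [← commutatorElement_eq_one_iff_mul_comm, ← map_commutatorElement]
      refine (QuotientGroup.eq_one_iff _).mpr ⟨⁅(⟨a, ha⟩ : Q₁), ⟨b, hb⟩⁆, ?_, rfl⟩
      haveI := hQ₁p.isNilpotent
      exact Coprime.commutator_le_frattini Q₁ (commutator_mem_commutator (mem_top _) (mem_top _))
    · rintro _ ⟨a, ha, rfl⟩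
      rw [← map_pow]
      exact (QuotientGroup.eq_one_iff _).mpr
        ⟨(⟨a, ha⟩ : Q₁) ^ u, Solvable.Basics.pow_mem_frattini hQ₁p ⟨a, ha⟩, rfl⟩
  have hn : ∀ {H K : Subgroup N}, H ≤ normalizer (K : Set N) → H.map φ ≤ normalizer ((K.map φ) : Set _) :=
    fun hHK => (map_mono hHK).trans (le_normalizer_map φ)
  have hfR₁ : zpowers f₁ ≤ normalizer (R₁ : Set N) := zpowers_le.mpr (by
    refine mem_normalizer_iff.mpr fun z => ?_
    simp only [R₁, mem_subgroupOf, coe_mul, coe_inv]
    exact mem_normalizer_iff.mp hfR (z : G))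
  have h := commutator_le_centralizer_abelian (r := r) (x := x) (u := u) hrx hru hxu
    (f := φ f₁) (by rw [← map_pow, show f₁ ^ r = 1 from Subtype.ext (by simpa using hf), map_one])
    (R := R₁.map φ) (Q := Q₁.map φ) ((hR.comap_subtype (K := N)).map φ) ?_ hel
    (hn hfR₁ (mem_map_of_mem φ (mem_zpowers f₁)))
    (hn (le_normalizer_of_normal : zpowers f₁ ≤ _) (mem_map_of_mem φ (mem_zpowers f₁)))
    (hn le_normalizer_of_normal) ?_
  rotate_left
  · refine hx2.imp_right fun hfix => ?_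
    rintro _ ⟨b, hb, rfl⟩ e
    rw [← map_inv, ← map_mul, ← map_mul] at e
    have h0 := QuotientGroup.eq.mp e
    have hb' : f₁ * b * f₁⁻¹ ∈ R₁ := (mem_normalizer_iff.mp (hfR₁ (mem_zpowers f₁)) b).mp hb
    have hd : Disjoint R₁ P₀ := IsPGroup.disjoint_of_ne x u hxu R₁ P₀ (hR.comap_subtype (K := N))
      (hQ₁p.to_le (map_subtype_le _))
    have h1 := disjoint_def.mp hd (mul_mem (inv_mem hb') hb) h0
    rw [show b = 1 from Subtype.ext (hfix b (mem_subgroupOf.mp hb)
      (congrArg Subtype.val (inv_mul_eq_one.mp h1))), map_one]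
  swap
  · have hYR : ⁅R, zpowers f⁆ ≤ R := Coprime.commutator_le_of_le_normalizer (zpowers_le.mpr hfR)
    set Y₁ : Subgroup N := ⁅R₁, zpowers f₁⁆
    have hY : Y₁.map N.subtype = ⁅R, zpowers f⁆ := by
      rw [map_commutator, subgroupOf_map_subtype, inf_eq_left.mpr hRQ, MonoidHom.map_zpowers]
      rfl
    have hYcen : Y₁ ≤ centralizer (Q₁ : Set N) := by
      refine Coprime.le_centralizer_of_frattini le_normalizer_of_normal ?_ fun y hy k hk => ?_
      · refine Nat.Coprime.coprime_dvd_right (card_subgroup_dvd_card _) ?_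
        exact IsPGroup.coprime_card_of_ne x u hxu Y₁ Q₁
          ((hR.comap_subtype (K := N)).to_le (Coprime.commutator_le_of_le_normalizer hfR₁)) hQ₁p
      · have h1 : φ y ∈ centralizer ((Q₁.map φ : Subgroup _) : Set _) := h (by
          rw [← MonoidHom.map_zpowers, ← map_commutator]
          exact mem_map_of_mem φ hy)
        have h2 := mem_centralizer_iff.mp h1 _ (mem_map_of_mem φ hk)
        refine (QuotientGroup.eq_one_iff _).mp ?_
        show φ (y * k * y⁻¹ * k⁻¹) = 1
        rw [map_mul, map_mul, map_mul, map_inv, map_inv, ← h2]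
        group
    rw [← hY]
    rintro _ ⟨y, hy, rfl⟩
    refine mem_centralizer_iff.mpr fun q hq => ?_
    exact congrArg Subtype.val (mem_centralizer_iff.mp (hYcen hy) ⟨q, le_normalizer hq⟩
      (mem_subgroupOf.mpr hq))
  · have hcop : (Nat.card (zpowers f₁)).Coprime (Nat.card Q₁) := by
      refine IsPGroup.coprime_card_of_ne r u hru (zpowers f₁) Q₁ ?_ hQ₁p
      intro z
      obtain ⟨m, hm⟩ := mem_zpowers_iff.mp z.2
      refine ⟨1, Subtype.ext ?_⟩
      simp only [pow_one, SubgroupClass.coe_pow, OneMemClass.coe_one]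
      rw [← hm, ← zpow_natCast, ← zpow_mul, mul_comm, zpow_mul, zpow_natCast,
        show f₁ ^ r = 1 from Subtype.ext (by simpa using hf), one_zpow]
    have hm := Coprime.map_inf_centralizer φ (le_normalizer_of_normal : zpowers f₁ ≤ normalizer (Q₁ : Set N))
      hcop (Or.inl (Coprime.isSolvable_of_isMulCommutative _))
    rw [show centralizer ((zpowers f₁ : Subgroup N) : Set N) = centralizer {f₁} by
      rw [zpowers_eq_closure, centralizer_closure], MonoidHom.map_zpowers, zpowers_eq_closure,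
      centralizer_closure] at hm
    rw [← hm]
    rintro _ ⟨q, ⟨hq, hqf⟩, rfl⟩
    refine mem_centralizer_iff.mpr ?_
    rintro _ ⟨g, hg, rfl⟩
    rw [← map_mul, ← map_mul]
    refine congrArg φ (Subtype.ext (mem_centralizer_iff.mp (hC (mem_inf.mpr
      ⟨mem_subgroupOf.mp hq, mem_centralizer_singleton_iff.mpr ?_⟩)) _ (mem_subgroupOf.mp hg)))
    exact congrArg Subtype.val (mem_centralizer_singleton_iff.mp hqf)

/-- If the fixed points of `f` on `Q` are centralised by `R`, `x` odd, then `⁅R, f⁆` centralises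
`Q`. -/
theorem commutator_le_centralizer_of_fixed {r x u : ℕ} [Fact r.Prime] [Fact x.Prime] [Fact u.Prime]
    (hrx : r ≠ x) (hru : r ≠ u) (hxu : x ≠ u) (hx2 : x ≠ 2) {f : G} (hf : f ^ r = 1)
    {R Q : Subgroup G} (hR : IsPGroup x R) (hQ : IsPGroup u Q)
    (hfR : f ∈ normalizer (R : Set G)) (hfQ : f ∈ normalizer (Q : Set G))
    (hRQ : R ≤ normalizer (Q : Set G))
    (hC : Q ⊓ centralizer {f} ≤ centralizer (R : Set G)) :
    ⁅R, zpowers f⁆ ≤ centralizer (Q : Set G) :=
  commutator_le_centralizer_aux hrx hru hxu hf hR (Or.inl hx2) hQ hfR hfQ hRQ hC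

/-- The same for abelian `R` and any `x`. -/
theorem commutator_le_centralizer_of_fixed_abelian {r x u : ℕ} [Fact r.Prime] [Fact x.Prime]
    [Fact u.Prime] (hrx : r ≠ x) (hru : r ≠ u) (hxu : x ≠ u) {f : G} (hf : f ^ r = 1)
    {R Q : Subgroup G} [IsMulCommutative R] (hR : IsPGroup x R) (hQ : IsPGroup u Q)
    (hfR : f ∈ normalizer (R : Set G)) (hfQ : f ∈ normalizer (Q : Set G))
    (hRQ : R ≤ normalizer (Q : Set G))
    (hC : Q ⊓ centralizer {f} ≤ centralizer (R : Set G)) :
    ⁅R, zpowers f⁆ ≤ centralizer (Q : Set G) := by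
  have hf' : zpowers f ≤ normalizer (R : Set G) := zpowers_le.mpr hfR
  have hfp : IsPGroup r (zpowers f) := fun z => by
    obtain ⟨m, hm⟩ := mem_zpowers_iff.mp z.2
    refine ⟨1, Subtype.ext ?_⟩
    simp only [pow_one, SubgroupClass.coe_pow, OneMemClass.coe_one]
    rw [← hm, ← zpow_natCast, ← zpow_mul, mul_comm, zpow_mul, zpow_natCast, hf, one_zpow]
  have hcop := IsPGroup.coprime_card_of_ne r x hrx (zpowers f) R hfp hR
  have hle : ⁅R, zpowers f⁆ ≤ R := Coprime.commutator_le_of_le_normalizer hf'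
  rw [← Coprime.commutator_commutator_eq hf' hcop (Or.inl
    (Coprime.isSolvable_of_isMulCommutative _))]
  refine commutator_le_centralizer_aux hrx hru hxu hf (hR.to_le hle) (Or.inr fun b hb e => ?_) hQ
    ((normalizer_commutator_ge_right R (zpowers f)) (mem_zpowers f)) hfQ (hle.trans hRQ)
    (hC.trans (centralizer_le hle))
  refine mem_bot.mp ((Coprime.inf_centralizer_inf_commutator hf' hcop).le (mem_inf.mpr
    ⟨mem_inf.mpr ⟨hle hb, ?_⟩, hb⟩))
  rw [zpowers_eq_closure, centralizer_closure]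
  exact mem_centralizer_singleton_iff.mpr (mul_inv_eq_iff_eq_mul.mp e).symm

end Cfsg.Agent.SolvableSignalizer
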