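import Cfsg.Agent.Lib.SolvableSignalizer.Tools
import Cfsg.Agent.Lib.SolvableSignalizer.OddFixed

/-!
No node contains the Fitting subgroup of every node.
-/

set_option autoImplicit false
set_option linter.style.haveILetI false
set_option linter.unusedSectionVars false

namespace Cfsg.Agent.SolvableSignalizer

open Subgroup
open Cfsg.Agent.Components
open scoped Pointwise

universe u

variable {G : Type u} [Group G] [Finite G] {r : ℕ} {A : Subgroup G} {θ : G → Subgroup G}

/-- The standing data: a node `M` containing all `F(K)`, a bad plane `E`, a colour of each line. -/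
structure HubData (r : ℕ) (A : Subgroup G) (θ : G → Subgroup G) (M E : Subgroup G)
    (colour : G → Subgroup G) : Prop where
  pure : PureFacts r A θ
  node : IsNode r A θ M
  hub : ∀ K, IsNode r A θ K → fitOf K ≤ M
  plane : IsPlane r A E
  bad : ¬ Cfsg.signalizerInf E θ ≤ M
  colour_spec : ∀ e ∈ E, e ≠ 1 → IsNode r A θ (colour e) ∧ θ e ≤ colour e

namespace HubData

variable (h : Minimal r A θ) {M E : Subgroup G} {colour : G → Subgroup G}
  (D : HubData r A θ M E colour)
include h D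

lemma pCore_le {K : Subgroup G} (hK : IsNode r A θ K) {q : ℕ} (hq : InFit q K) :
    Cfsg.pCoreOf q M ≤ K :=
  h.pCore_le_of_fit_le D.pure hK D.node (D.hub K hK) hq

lemma pCore_inf {K : Subgroup G} (hK : IsNode r A θ K) {q : ℕ} (hq : q.Prime)
    (hnot : ¬ InFit q K) : Cfsg.pCoreOf q M ⊓ K = ⊥ :=
  Minimal.pCore_inf_eq_bot hK.mem.1 (D.hub K hK) hq hnot

lemma exists_missing {K : Subgroup G} (hK : IsNode r A θ K) (hne : K ≠ M) :
    ∃ q, InFit q M ∧ ¬ InFit q K := by
  by_contra hc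
  push Not at hc
  refine hne (h.eq_of_fit_le D.pure hK D.node (D.hub K hK) (fitOf_le_of_forall fun q hq => ?_))
  by_cases hqM : InFit q M
  · exact D.pCore_le h hK (hc q hqM)
  · have : Cfsg.pCoreOf q M = ⊥ := by
      by_contra hne
      exact hqM ⟨hq, hne⟩
    exact this ▸ bot_le

lemma colour_ne {e : G} (he : e ∈ E) (he1 : e ≠ 1) : colour e ≠ M :=
  fun e' => h.bad_line D.bad he he1 (e' ▸ (D.colour_spec e he he1).2)

lemma fixed_eq_bot {e : G} (he : e ∈ E) (he1 : e ≠ 1) {q : ℕ} (hq : InFit q M)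
    (hnot : ¬ InFit q (colour e)) : Cfsg.pCoreOf q M ⊓ centralizer {e} = ⊥ := by
  rw [← le_bot_iff, ← D.pCore_inf h (D.colour_spec e he he1).1 hq.1 hnot]
  exact le_inf inf_le_left (((D.node.isXA.pCoreOf q).mem.2.2.2 e (D.plane.le he) he1).trans
    (D.colour_spec e he he1).2)

lemma exists_colour_inFit {q : ℕ} (hq : InFit q M) : ∃ e ∈ E, e ≠ 1 ∧ InFit q (colour e) := by
  obtain ⟨e, he, he1, hne⟩ := h.exists_fixed_of_plane D.plane (D.node.isXA.pCoreOf q).mem hq.2
  exact ⟨e, he, he1, by_contra fun hnot => hne (D.fixed_eq_bot h he he1 hq hnot)⟩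

/-- No node containing `θ(E)` meets every `O_q(M)`. -/
lemma not_meets_all {N : Subgroup G} (hN : IsNode r A θ N)
    (hEN : Cfsg.signalizerInf E θ ≤ N) :
    ∃ q, InFit q M ∧ Cfsg.pCoreOf q M ⊓ N = ⊥ := by
  have hne : N ≠ M := fun e => D.bad (e ▸ hEN)
  obtain ⟨q, hq, hnot⟩ := D.exists_missing h hN hne
  exact ⟨q, hq, D.pCore_inf h hN hq.1 hnot⟩

/-- A nontrivial invariant `x`-subgroup of `M` normalised by `θ(E)` does not centralise every
`O_q(M)`, `q ≠ x`. -/
lemma no_central_piece {x : ℕ} [Fact x.Prime] {Y : Subgroup G} (hY : IsXA r A θ Y) (hY1 : Y ≠ ⊥)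
    (hYx : IsPGroup x Y) (hYM : Y ≤ M) (hEY : Cfsg.signalizerInf E θ ≤ normalizer (Y : Set G))
    (hc : ∀ q : ℕ, InFit q M → q ≠ x → Y ≤ centralizer ((Cfsg.pCoreOf q M : Subgroup G) : Set G)) :
    False := by
  obtain ⟨N, hN, hNle⟩ := h.exists_node_normalizer hY hY1
  obtain ⟨q, hq, hbot⟩ := D.not_meets_all h hN (hNle _ (h.plane_inf_mem D.plane) hEY)
  have hP := D.node.isXA.pCoreOf q
  by_cases hqx : q = x
  · subst hqx
    refine inf_centralizer_ne_bot (pCoreOf_isPGroup q M) hYx (hYM.trans (le_normalizer_pCoreOf q M))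
      hq.2 (le_bot_iff.mp (le_trans (le_inf inf_le_left ?_) hbot.le))
    exact hNle _ (hP.inf_centralizer hY.norm).mem (inf_le_right.trans (centralizer_le_normalizer _))
  · have hle : Cfsg.pCoreOf q M ≤ N :=
      hNle _ hP.mem ((le_centralizer_iff.mp (hc q hq hqx)).trans (centralizer_le_normalizer _))
    rw [inf_eq_left.mpr hle] at hbot
    exact hq.2 hbot

/-- `⁅O_x(K), e⁆` as an invariant member normalised by `θ(E)`. -/
lemma commutator_isXA {e f : G} (he : e ∈ E) (hf : f ∈ E) (hf1 : f ≠ 1) {R : Subgroup G}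
    (hR : IsXA r A θ R) (hRf : colour f ≤ normalizer (R : Set G)) :
    IsXA r A θ ⁅R, zpowers e⁆ ∧
      Cfsg.signalizerInf E θ ≤ normalizer ((⁅R, zpowers e⁆ : Subgroup G) : Set G) ∧
      ⁅R, zpowers e⁆ ≤ R ∧ zpowers e ≤ normalizer (R : Set G) := by
  have heA : zpowers e ≤ A := zpowers_le.mpr (D.plane.le he)
  have hen : zpowers e ≤ normalizer (R : Set G) := heA.trans (le_op_left.trans hR.norm)
  have hle : ⁅R, zpowers e⁆ ≤ R := Coprime.commutator_le_of_le_normalizer hen
  refine ⟨hR.sub hle (le_normalizer_commutator hR.norm (h.op_le_normalizer_zpowers (D.plane.le he))),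
    le_normalizer_commutator ?_ (h.plane_inf_le_normalizer_zpowers D.plane he), hle, hen⟩
  exact ((Signalizer.inf_le_theta E θ hf hf1).trans (D.colour_spec f hf hf1).2).trans hRf

/-- An odd prime of the colour of `f`: `f` centralises the corresponding core of `M`. -/
lemma centralizes_of_inFit {f : G} (hf : f ∈ E) (hf1 : f ≠ 1) {x : ℕ} (hxM : InFit x M)
    (hx2 : x ≠ 2) (hxK : InFit x (colour f)) :
    Cfsg.pCoreOf x M ≤ centralizer ({f} : Set G) := by
  haveI := Fact.mk hxM.1
  haveI := h.fact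
  obtain ⟨hK, hKθ⟩ := D.colour_spec f hf hf1
  set K := colour f
  set R := Cfsg.pCoreOf x K
  have hRM : R ≤ M := pCoreOf_le_of_fitOf_le (D.hub K hK) hxM.1
  obtain ⟨hY, hEY, hYR, hfn⟩ := D.commutator_isXA h hf hf hf1 (hK.isXA.pCoreOf x)
    (le_normalizer_pCoreOf x K)
  have hfR : zpowers f ≤ centralizer (R : Set G) := by
    rw [← Coprime.commutator_eq_bot_iff_le_centralizer']
    by_contra hY1
    refine D.no_central_piece h hY hY1 ((pCoreOf_isPGroup x K).to_le hYR) (hYR.trans hRM) hEY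
      fun q hq hqx => ?_
    haveI := Fact.mk hq.1
    refine commutator_le_centralizer_of_fixed (r := r) (h.inFit_ne D.node.mem hxM)
      (h.inFit_ne D.node.mem hq) (Ne.symm hqx) hx2 (h.elem.2 f (D.plane.le hf))
      (pCoreOf_isPGroup x K) (pCoreOf_isPGroup q M) (hfn (mem_zpowers f))
      (le_op_left.trans (D.node.isXA.pCoreOf q).norm (D.plane.le hf))
      (hRM.trans (le_normalizer_pCoreOf q M)) ?_
    rw [← commutator_eq_bot_iff_le_centralizer, ← le_bot_iff,
      ← inf_eq_bot_of_pgroup hq.1 hxM.1 hqx (pCoreOf_isPGroup q M) (pCoreOf_isPGroup x K)]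
    refine le_inf ?_ ?_
    · exact (commutator_mono inf_le_left le_rfl).trans
        (Coprime.commutator_le_of_le_normalizer (hRM.trans (le_normalizer_pCoreOf q M)))
    · rw [commutator_comm]
      exact Coprime.commutator_le_of_le_normalizer
        ((((D.node.isXA.pCoreOf q).mem.2.2.2 f (D.plane.le hf) hf1).trans hKθ).trans
          (le_normalizer_pCoreOf x K))
  set P := Cfsg.pCoreOf x M
  have hPK : P ≤ K := D.pCore_le h hK hxK
  have hPn : zpowers f ≤ normalizer (P : Set G) :=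
    (zpowers_le.mpr (D.plane.le hf)).trans (le_op_left.trans (D.node.isXA.pCoreOf x).norm)
  have hPf : ⁅P, zpowers f⁆ ≤ P := Coprime.commutator_le_of_le_normalizer hPn
  have hPR : ⁅P, zpowers f⁆ ≤ R := by
    refine pgroup_fitOf_le (fun z hz => inf_centralizer_fitOf_le hK.mem.1 ⟨hPK (hPf hz),
      centralizer_fitOf_of_forall fun q hq => ?_⟩) ((pCoreOf_isPGroup x M).to_le hPf)
    by_cases hqx : q = x
    · subst hqx
      exact commutator_le_centralizer_of_normalizes (hPK.trans (le_normalizer_pCoreOf q K)) hfR hz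
    · refine (hPf.trans ?_) hz
      rw [← commutator_eq_bot_iff_le_centralizer, ← le_bot_iff,
        ← inf_eq_bot_of_pgroup hxM.1 hq (Ne.symm hqx) (pCoreOf_isPGroup x M) (pCoreOf_isPGroup q K)]
      refine le_inf ?_ ?_
      · exact Coprime.commutator_le_of_le_normalizer
          ((pCoreOf_le_of_fitOf_le (D.hub K hK) hq).trans (le_normalizer_pCoreOf x M))
      · rw [commutator_comm]
        exact Coprime.commutator_le_of_le_normalizer (hPK.trans (le_normalizer_pCoreOf q K))
  have hcop : (Nat.card (zpowers f)).Coprime (Nat.card P) :=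
    IsPGroup.coprime_card_of_ne r x (h.inFit_ne D.node.mem hxM) (zpowers f) P
      (Hyperplane.zpowers_isPGroup h.elem (D.plane.le hf)) (pCoreOf_isPGroup x M)
  have h2 := Coprime.le_centralizer_of_series hPn hcop
    (Or.inl (Coprime.isSolvable_of_isMulCommutative _))
    (hfR.trans (centralizer_le hPR)) le_rfl
  exact (le_centralizer_iff.mp h2).trans (centralizer_le (Set.singleton_subset_iff.mpr (mem_zpowers f)))

lemma not_all_lines {x : ℕ} (hxM : InFit x M) (hx2 : x ≠ 2) {a b : G} (ha : a ∈ E) (ha1 : a ≠ 1)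
    (hb : b ∈ E) (hb1 : b ≠ 1) (hba : b ∉ zpowers a) (haK : InFit x (colour a))
    (hbK : InFit x (colour b)) : ∀ e ∈ E, e ≠ 1 → InFit x (colour e) := by
  intro e he he1
  by_contra hnot
  have hPE := h.plane_centralizes D.plane ha ha1 hb hba
    (D.centralizes_of_inFit h ha ha1 hxM hx2 haK) (D.centralizes_of_inFit h hb hb1 hxM hx2 hbK)
  have := D.fixed_eq_bot h he he1 hxM hnot
  rw [inf_eq_left.mpr (hPE.trans (centralizer_le (Set.singleton_subset_iff.mpr he)))] at this
  exact hxM.2 this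

/-- An odd prime met by one line only forces the prime `2` on all other lines. -/
lemma two_on_other_lines {x : ℕ} (hxM : InFit x M) (hx2 : x ≠ 2) {f : G} (hf : f ∈ E) (hf1 : f ≠ 1)
    (hfK : InFit x (colour f))
    (hone : ∀ e ∈ E, e ≠ 1 → InFit x (colour e) → e ∈ zpowers f) {e : G} (he : e ∈ E)
    (hef : e ∉ zpowers f) :
    InFit 2 M ∧ InFit 2 (colour e) ∧ ¬ InFit 2 (colour f) := by
  haveI := Fact.mk hxM.1
  haveI := h.fact
  have he1 : e ≠ 1 := fun h1 => hef (h1 ▸ one_mem _)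
  obtain ⟨hK, hKθ⟩ := D.colour_spec f hf hf1
  set K := colour f
  set R := Cfsg.pCoreOf x K
  have hRM : R ≤ M := pCoreOf_le_of_fitOf_le (D.hub K hK) hxM.1
  obtain ⟨hY, hEY, hYR, hen⟩ := D.commutator_isXA h he hf hf1 (hK.isXA.pCoreOf x)
    (le_normalizer_pCoreOf x K)
  have hY1 : ⁅R, zpowers e⁆ ≠ ⊥ := by
    intro hbot
    have hRe : R ≤ centralizer ({e} : Set G) :=
      (le_centralizer_iff.mp (Coprime.commutator_eq_bot_iff_le_centralizer'.mp hbot)).trans
        (centralizer_le (Set.singleton_subset_iff.mpr (mem_zpowers e)))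
    refine pCore_inf_pCore_ne_bot hxM hK.mem.1 (D.hub K hK) (D.pCore_le h hK hfK)
      (le_bot_iff.mp ((inf_le_inf_left _ hRe).trans ?_))
    exact (D.fixed_eq_bot h he he1 hxM fun h1 => hef (hone e he he1 h1)).le
  by_contra hc
  refine D.no_central_piece h hY hY1 ((pCoreOf_isPGroup x K).to_le hYR) (hYR.trans hRM) hEY
    fun q hq hqx => ?_
  haveI := Fact.mk hq.1
  have hRq : R ≤ normalizer ((Cfsg.pCoreOf q M : Subgroup G) : Set G) :=
    hRM.trans (le_normalizer_pCoreOf q M)
  by_cases hqe : InFit q (colour e)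
  · by_cases hq2 : q = 2
    · subst hq2
      have hqf : InFit 2 K := by
        by_contra hn
        exact hc ⟨hq, hqe, hn⟩
      refine hYR.trans ?_
      rw [← commutator_eq_bot_iff_le_centralizer, ← le_bot_iff,
        ← inf_eq_bot_of_pgroup hxM.1 hq.1 (Ne.symm hqx) (pCoreOf_isPGroup x K) (pCoreOf_isPGroup 2 M)]
      refine le_inf (Coprime.commutator_le_of_le_normalizer
        ((D.pCore_le h hK hqf).trans (le_normalizer_pCoreOf x K))) ?_
      rw [commutator_comm]
      exact Coprime.commutator_le_of_le_normalizer hRq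
    · exact commutator_le_centralizer_of_normalizes hRq (zpowers_le.mpr (mem_centralizer_iff.mpr
        fun z hz => mem_centralizer_singleton_iff.mp (D.centralizes_of_inFit h he he1 hq hq2 hqe hz)))
  · refine commutator_le_centralizer_of_fixed (r := r) (h.inFit_ne D.node.mem hxM)
      (h.inFit_ne D.node.mem hq) (Ne.symm hqx) hx2 (h.elem.2 e (D.plane.le he))
      (pCoreOf_isPGroup x K) (pCoreOf_isPGroup q M) (hen (mem_zpowers e))
      (le_op_left.trans (D.node.isXA.pCoreOf q).norm (D.plane.le he)) hRq ?_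
    rw [D.fixed_eq_bot h he he1 hq hqe]
    exact bot_le

theorem contradiction : False := by
  haveI := h.fact
  have hsingle : ∃ x, InFit x M ∧ x ≠ 2 ∧ ∃ e ∈ E, e ≠ 1 ∧ ¬ InFit x (colour e) := by
    by_contra hall
    push Not at hall
    obtain ⟨e, he, he1, h2⟩ : ∃ e ∈ E, e ≠ 1 ∧ (InFit 2 M → InFit 2 (colour e)) := by
      by_cases h2M : InFit 2 M
      · obtain ⟨e, he, he1, h2⟩ := D.exists_colour_inFit h h2M
        exact ⟨e, he, he1, fun _ => h2⟩
      · obtain ⟨e, he, he1⟩ := h.plane_ne_one D.plane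
        exact ⟨e, he, he1, fun h2 => absurd h2 h2M⟩
    obtain ⟨q, hq, hnot⟩ := D.exists_missing h (D.colour_spec e he he1).1 (D.colour_ne h he he1)
    by_cases hq2 : q = 2
    · subst hq2
      exact hnot (h2 hq)
    · exact hnot (hall q hq hq2 e he he1)
  obtain ⟨x, hxM, hx2, e₀, he₀, he₀1, hnot₀⟩ := hsingle
  obtain ⟨f, hf, hf1, hfK⟩ := D.exists_colour_inFit h hxM
  have hone : ∀ e ∈ E, e ≠ 1 → InFit x (colour e) → e ∈ zpowers f := fun e he he1 heK => by
    by_contra hef
    exact hnot₀ (D.not_all_lines h hxM hx2 hf hf1 he he1 hef hfK heK e₀ he₀ he₀1)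
  have hkey := fun e (he : e ∈ E) (hef : e ∉ zpowers f) =>
    D.two_on_other_lines h hxM hx2 hf hf1 hfK hone he hef
  obtain ⟨e₁, he₁, he₁f⟩ := h.exists_off_line D.plane f hf
  have he₁1 : e₁ ≠ 1 := fun h1 => he₁f (h1 ▸ one_mem _)
  obtain ⟨h2M, h2e, h2f⟩ := hkey e₁ he₁ he₁f
  haveI : Fact (Nat.Prime 2) := ⟨Nat.prime_two⟩
  obtain ⟨hK₁, hK₁θ⟩ := D.colour_spec e₁ he₁ he₁1
  set K₁ := colour e₁
  set R₂ := Cfsg.pCoreOf 2 K₁
  set B := R₂ ⊓ centralizer (R₂ : Set G) with hBdef
  haveI : IsMulCommutative B := ⟨⟨fun a b => Subtype.ext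
    (mem_centralizer_iff.mp b.2.2 a a.2.1)⟩⟩
  have hB : IsXA r A θ B := (hK₁.isXA.pCoreOf 2).inf_centralizer (hK₁.isXA.pCoreOf 2).norm
  have hK₁B : K₁ ≤ normalizer (B : Set G) := le_normalizer_inf (le_normalizer_pCoreOf 2 K₁)
    ((le_normalizer_pCoreOf 2 K₁).trans (normalizer_le_centralizer_normalizer _))
  have hR₂M : R₂ ≤ M := pCoreOf_le_of_fitOf_le (D.hub K₁ hK₁) Nat.prime_two
  have hBM : B ≤ M := inf_le_left.trans hR₂M
  have hcent : ∀ e ∈ E, e ∉ zpowers f → B ≤ centralizer ({e} : Set G) := by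
    intro e he hef
    have he1 : e ≠ 1 := fun h1 => hef (h1 ▸ one_mem _)
    obtain ⟨hY, hEY, hYB, hen⟩ := D.commutator_isXA h he he₁ he₁1 hB hK₁B
    have hY1 : ⁅B, zpowers e⁆ = ⊥ := by
      by_contra hY1
      refine D.no_central_piece h hY hY1 ((pCoreOf_isPGroup 2 K₁).to_le (hYB.trans inf_le_left))
        (hYB.trans hBM) hEY fun q hq hq2 => ?_
      haveI := Fact.mk hq.1
      by_cases hqe : InFit q K₁
      · refine (hYB.trans inf_le_left).trans ?_
        rw [← commutator_eq_bot_iff_le_centralizer, ← le_bot_iff,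
          ← inf_eq_bot_of_pgroup Nat.prime_two hq.1 (Ne.symm hq2) (pCoreOf_isPGroup 2 K₁)
            (pCoreOf_isPGroup q M)]
        refine le_inf (Coprime.commutator_le_of_le_normalizer
          ((D.pCore_le h hK₁ hqe).trans (le_normalizer_pCoreOf 2 K₁))) ?_
        rw [commutator_comm]
        exact Coprime.commutator_le_of_le_normalizer (hR₂M.trans (le_normalizer_pCoreOf q M))
      · obtain ⟨g, hg, hg1, hgK⟩ := D.exists_colour_inFit h hq
        have hone' : ∀ d ∈ E, d ≠ 1 → InFit q (colour d) → d ∈ zpowers g := fun d hd hd1 hdK => by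
          by_contra hdg
          exact hqe (D.not_all_lines h hq hq2 hg hg1 hd hd1 hdg hgK hdK e₁ he₁ he₁1)
        have hgf : g ∈ zpowers f := by
          by_contra hgf
          have h2g : InFit 2 (colour g) := (hkey g hg hgf).2.1
          have he₁g : e₁ ∉ zpowers g := by
            intro h1
            have hz := h.zpowers_eq D.plane.le he₁ he₁1 h1 hg hg1
            have hone'' : ∀ d ∈ E, d ≠ 1 → InFit q (colour d) → d ∈ zpowers e₁ := fun d hd hd1 hdK =>
              hz.symm ▸ hone' d hd hd1 hdK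
            have hfg : f ∉ zpowers g := fun h2 => hgf
              (h.zpowers_eq D.plane.le hf hf1 h2 hg hg1 ▸ mem_zpowers g)
            exact (D.two_on_other_lines h hq hq2 hg hg1 hgK hone' hf hfg).2.2 h2g
          exact (D.two_on_other_lines h hq hq2 hg hg1 hgK hone' he₁ he₁g).2.2 h2g
        have hnot : ¬ InFit q (colour e) := fun h1 => hef
          ((zpowers_le.mpr hgf) (hone' e he he1 h1))
        refine commutator_le_centralizer_of_fixed_abelian (r := r) (h.inFit_ne D.node.mem h2M)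
          (h.inFit_ne D.node.mem hq) (Ne.symm hq2) (h.elem.2 e (D.plane.le he))
          ((pCoreOf_isPGroup 2 K₁).to_le inf_le_left) (pCoreOf_isPGroup q M) (hen (mem_zpowers e))
          (le_op_left.trans (D.node.isXA.pCoreOf q).norm (D.plane.le he))
          (hBM.trans (le_normalizer_pCoreOf q M)) ?_
        rw [D.fixed_eq_bot h he he1 hq hnot]
        exact bot_le
    exact (le_centralizer_iff.mp (Coprime.commutator_eq_bot_iff_le_centralizer'.mp hY1)).trans
      (centralizer_le (Set.singleton_subset_iff.mpr (mem_zpowers e)))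
  have he₂f : e₁ * f ∉ zpowers f := fun h1 => he₁f
    (by simpa using mul_mem h1 (inv_mem (mem_zpowers f)))
  have he₂e : e₁ * f ∉ zpowers e₁ := fun h1 => by
    have h2 : f ∈ zpowers e₁ := by simpa using mul_mem (inv_mem (mem_zpowers e₁)) h1
    exact he₁f (h.zpowers_eq D.plane.le hf hf1 h2 he₁ he₁1 ▸ mem_zpowers e₁)
  have hBE : B ≤ centralizer (E : Set G) := h.plane_centralizes D.plane he₁ he₁1
    (mul_mem he₁ hf) he₂e (hcent e₁ he₁ he₁f) (hcent _ (mul_mem he₁ hf) he₂f)
  set P := Cfsg.pCoreOf 2 M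
  set U := P ⊓ R₂
  have hU1 : U ≠ ⊥ := pCore_inf_pCore_ne_bot h2M hK₁.mem.1 (D.hub K₁ hK₁) (D.pCore_le h hK₁ h2e)
  have hmeet : U ⊓ centralizer (R₂ : Set G) ≠ ⊥ :=
    inf_centralizer_ne_bot ((pCoreOf_isPGroup 2 M).to_le inf_le_left) (pCoreOf_isPGroup 2 K₁)
      (le_normalizer_inf (hR₂M.trans (le_normalizer_pCoreOf 2 M)) le_normalizer) hU1
  refine hmeet (le_bot_iff.mp (le_trans (le_inf (inf_le_left.trans inf_le_left) ?_)
    (D.fixed_eq_bot h hf hf1 h2M h2f).le))
  exact (inf_le_inf_right _ inf_le_right).trans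
    (hBE.trans (centralizer_le (Set.singleton_subset_iff.mpr hf)))

end HubData

/-- No node contains the Fitting subgroup of every node. -/
theorem Minimal.exists_fit_not_le (h : Minimal r A θ) (hp : PureFacts r A θ) {M : Subgroup G}
    (hM : IsNode r A θ M) : ∃ K, IsNode r A θ K ∧ ¬ fitOf K ≤ M := by
  by_contra hc
  push Not at hc
  obtain ⟨E, hE, hbad⟩ := h.exists_bad_plane hM.mem
  have hcol : ∀ e : G, ∃ K, e ∈ E → e ≠ 1 → IsNode r A θ K ∧ θ e ≤ K := fun e => by
    by_cases he : e ∈ E ∧ e ≠ 1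
    · obtain ⟨K, hK⟩ := h.exists_colour (hE.le he.1) he.2
      exact ⟨K, fun _ _ => hK⟩
    · exact ⟨⊥, fun h1 h2 => absurd ⟨h1, h2⟩ he⟩
  choose colour hcolour using hcol
  exact HubData.contradiction h ⟨hp, hM, hc, hE, hbad, hcolour⟩

end Cfsg.Agent.SolvableSignalizer
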