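import Cfsg.Agent.Lib.SolvableSignalizer.WCore

/-!
Relations between the Fitting subgroups of nodes.
-/

set_option autoImplicit false
set_option linter.style.haveILetI false
set_option linter.unusedSectionVars false

namespace Cfsg.Agent.SolvableSignalizer

open Subgroup
open Cfsg.Agent.Components
open scoped Pointwise

universe u

variable {G : Type u} [Group G] {r : ℕ} {A : Subgroup G} {θ : G → Subgroup G}

/-- `F(M)` is a `q`-group. -/
def Pure (q : ℕ) (M : Subgroup G) : Prop :=
  InFit q M ∧ ∀ w, InFit w M → w = q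

/-- What is known about pure nodes. -/
structure PureFacts (r : ℕ) (A : Subgroup G) (θ : G → Subgroup G) : Prop where
  le : ∀ (q : ℕ) (M : Subgroup G), IsNode r A θ M → Pure q M → wCore r q A θ ≤ M
  unique : ∀ (q : ℕ) (M N : Subgroup G), IsNode r A θ M → IsNode r A θ N → Pure q M → Pure q N →
    M = N

/-- Every member normalising `U` lies in `M`. -/
def Captured (r : ℕ) (A : Subgroup G) (θ : G → Subgroup G) (U M : Subgroup G) : Prop :=
  ∀ V ∈ Cfsg.signalizerFamily r A θ, V ≤ normalizer (U : Set G) → V ≤ M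

/-- The subgroup generated by the `t'`-elements of `C_M(O_t(M))`. -/
def centPrime (t : ℕ) (M : Subgroup G) : Subgroup G :=
  closure {x | x ∈ M ∧ x ∈ centralizer ((Cfsg.pCoreOf t M : Subgroup G) : Set G) ∧ ¬ t ∣ orderOf x}

lemma centPrime_le (t : ℕ) (M : Subgroup G) : centPrime t M ≤ M :=
  (closure_le _).mpr fun _ hx => hx.1

lemma normalizer_le_centPrime (t : ℕ) (M : Subgroup G) :
    normalizer (M : Set G) ≤ normalizer ((centPrime t M : Subgroup G) : Set G) := by
  have key : ∀ g ∈ normalizer (M : Set G), MulAut.conj g • centPrime t M ≤ centPrime t M := by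
    intro g hg
    rw [centPrime, Coprime.conj_smul_eq_map, MonoidHom.map_closure, closure_le]
    rintro _ ⟨x, ⟨hxM, hxC, hxo⟩, rfl⟩
    refine subset_closure ⟨(mem_normalizer_iff.mp hg x).mp hxM, ?_, ?_⟩
    · exact (mem_normalizer_iff.mp
        (((normalizer_le_pCoreOf t M).trans (normalizer_le_centralizer_normalizer _)) hg) x).mp hxC
    · rwa [orderOf_injective (MulAut.conj g).toMonoidHom (MulEquiv.injective _)]
  intro g hg
  rw [← Coprime.conj_smul_eq_self_iff]
  refine le_antisymm (key g hg) ?_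
  conv_lhs => rw [← Coprime.conj_smul_one (centPrime t M), ← mul_inv_cancel g, Coprime.conj_smul_mul]
  exact pointwise_smul_le_pointwise_smul_iff.mpr (key g⁻¹ (inv_mem hg))

variable [Finite G]

lemma pCore_le_centPrime {q t : ℕ} (hq : q.Prime) (ht : t.Prime) (hne : q ≠ t) (M : Subgroup G) :
    Cfsg.pCoreOf q M ≤ centPrime t M := by
  intro x hx
  refine subset_closure ⟨pCoreOf_le q M hx, pCoreOf_le_centralizer hq ht hne M hx, fun hd => ?_⟩
  haveI := Fact.mk hq
  obtain ⟨k, hk⟩ := (pCoreOf_isPGroup q M) ⟨x, hx⟩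
  exact hne ((Nat.prime_dvd_prime_iff_eq ht hq).mp
    (ht.dvd_of_dvd_pow (hd.trans (orderOf_dvd_of_pow_eq_one (congrArg Subtype.val hk :))))).symm

lemma inf_eq_bot_of_pgroup {p q : ℕ} (hp : p.Prime) (hq : q.Prime) (hne : p ≠ q) {U V : Subgroup G}
    (hU : IsPGroup p U) (hV : IsPGroup q V) : U ⊓ V = ⊥ :=
  haveI := Fact.mk hp
  haveI := Fact.mk hq
  disjoint_iff.mp (IsPGroup.disjoint_of_ne p q hne U V hU hV)

namespace Minimal

variable (h : Minimal r A θ)
include h

/-- `O_p(L) ≤ M` if `L` contains invariant `U ≤ O_p(M)`, `V ≤ O_q(M)` captured by `M`. -/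
lemma pCore_le_of_pair {p q : ℕ} (hp : p.Prime) (hq : q.Prime) (hne : p ≠ q) {M L U V : Subgroup G}
    (hL : IsNode r A θ L) (hU : IsXA r A θ U)
    (hUp : U ≤ Cfsg.pCoreOf p M) (hUcap : Captured r A θ U M)
    (hVq : V ≤ Cfsg.pCoreOf q M) (hVcap : Captured r A θ V M) (hUL : U ≤ L) (hVL : V ≤ L) :
    Cfsg.pCoreOf p L ≤ M := by
  haveI := Fact.mk hp
  haveI := Fact.mk hq
  set R := Cfsg.pCoreOf p L
  have hR : IsXA r A θ R := hL.isXA.pCoreOf p
  set C := R ⊓ centralizer (U : Set G)
  have hC : IsXA r A θ C := hR.inf_centralizer hU.norm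
  have hCM : C ≤ M := hUcap C hC.mem (inf_le_right.trans (centralizer_le_normalizer _))
  have hCV : C ≤ centralizer (V : Set G) := by
    rw [← commutator_eq_bot_iff_le_centralizer, ← le_bot_iff,
      ← inf_eq_bot_of_pgroup hp hq hne (pCoreOf_isPGroup p L) (pCoreOf_isPGroup q M)]
    refine le_inf ?_ ?_
    · exact (commutator_mono inf_le_left hVL).trans
        (Coprime.commutator_le_of_le_normalizer (le_normalizer_pCoreOf p L))
    · refine (commutator_mono hCM hVq).trans ?_
      rw [commutator_comm]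
      exact Coprime.commutator_le_of_le_normalizer (le_normalizer_pCoreOf q M)
  have hUV : U ≤ centralizer (V : Set G) :=
    hUp.trans ((pCoreOf_le_centralizer hp hq hne M).trans (centralizer_le hVq))
  have hVR : V ≤ centralizer (R : Set G) :=
    Coprime.le_centralizer_of_pxq ((pCoreOf_isPGroup p M).to_le hUp)
      (by
        obtain ⟨k, hk⟩ := ((pCoreOf_isPGroup q M).to_le hVq).exists_card_eq
        rw [hk]
        exact Nat.Coprime.pow_left k ((Nat.coprime_primes hq hp).mpr hne.symm))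
      (pCoreOf_isPGroup p L) hUV (hUL.trans (le_normalizer_pCoreOf p L))
      (hVL.trans (le_normalizer_pCoreOf p L)) hCV
  exact hVcap R hR.mem ((le_centralizer_iff.mp hVR).trans (centralizer_le_normalizer _))

lemma captured_pCore {M : Subgroup G} (hM : IsNode r A θ M) {q : ℕ} (hq : InFit q M) :
    Captured r A θ (Cfsg.pCoreOf q M) M :=
  fun _ hV hn => h.le_node_of_normalizes_pCore hM hq hV hn

lemma pCore_le_of_fit_le (hp : PureFacts r A θ) {K L : Subgroup G} (hK : IsNode r A θ K)
    (hL : IsNode r A θ L) (hF : fitOf K ≤ L) {s : ℕ} (hs : InFit s K) :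
    Cfsg.pCoreOf s L ≤ K := by
  haveI := Fact.mk hs.1
  by_cases hpure : ∃ t, InFit t K ∧ t ≠ s
  · obtain ⟨t, ht, hts⟩ := hpure
    exact h.pCore_le_of_pair hs.1 ht.1 hts.symm hL (hK.isXA.pCoreOf s) le_rfl
      (h.captured_pCore hK hs) le_rfl (h.captured_pCore hK ht)
      (pCoreOf_le_of_fitOf_le hF hs.1) (pCoreOf_le_of_fitOf_le hF ht.1)
  · push Not at hpure
    exact (h.pCoreOf_le_wCore hL.isXA).trans (hp.le s K hK ⟨hs, hpure⟩)

omit h in
lemma pCore_inf_eq_bot {K L : Subgroup G} (hK : Group.IsSolvable K) (hF : fitOf K ≤ L) {q : ℕ}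
    (hq : q.Prime) (hnot : ¬ InFit q K) : Cfsg.pCoreOf q L ⊓ K = ⊥ := by
  haveI := Fact.mk hq
  have hO : Cfsg.pCoreOf q K = ⊥ := by
    by_contra hne
    exact hnot ⟨hq, hne⟩
  set U := Cfsg.pCoreOf q L ⊓ K
  have hUp : IsPGroup q U := (pCoreOf_isPGroup q L).to_le inf_le_left
  have hcomm : ⁅U, fitOf K⁆ = ⊥ := by
    have hle : ⁅U, fitOf K⁆ ≤ fitOf K := by
      rw [commutator_comm]
      exact Coprime.commutator_le_of_le_normalizer
        (inf_le_right.trans (le_normalizer.trans (normalizer_le_fitOf K)))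
    have hle2 : ⁅U, fitOf K⁆ ≤ Cfsg.pCoreOf q L :=
      (commutator_mono inf_le_left hF).trans
        (Coprime.commutator_le_of_le_normalizer (le_normalizer_pCoreOf q L))
    exact le_bot_iff.mp (hO ▸ pgroup_fitOf_le hle ((pCoreOf_isPGroup q L).to_le hle2))
  have hU : U ≤ fitOf K :=
    (le_inf inf_le_right (commutator_eq_bot_iff_le_centralizer.mp hcomm)).trans
      (inf_centralizer_fitOf_le hK)
  exact le_bot_iff.mp (hO ▸ pgroup_fitOf_le hU hUp)

omit h in
lemma inFit_of_fit_le {K L : Subgroup G} (hK : Group.IsSolvable K) (hF : fitOf K ≤ L)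
    (hF' : fitOf L ≤ K) {q : ℕ} (hq : InFit q L) : InFit q K := by
  by_contra hc
  have := pCore_inf_eq_bot hK hF hq.1 hc
  rw [inf_eq_left.mpr (pCoreOf_le_of_fitOf_le hF' hq.1)] at this
  exact hq.2 this

lemma centPrime_le_centPrime {K L : Subgroup G} (hK : IsNode r A θ K) (hL : IsNode r A θ L)
    (hF : fitOf K ≤ L) (hF' : fitOf L ≤ K) {t : ℕ} (htK : InFit t K) (htL : InFit t L) :
    centPrime t K ≤ centPrime t L := by
  haveI := Fact.mk htK.1
  set P := Cfsg.pCoreOf t K with hP
  set R := Cfsg.pCoreOf t L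
  have hRK : R ≤ K := pCoreOf_le_of_fitOf_le hF' htK.1
  have hPn : K ≤ normalizer (P : Set G) := le_normalizer_pCoreOf t K
  have hFn : K ≤ normalizer ((fitOf K : Subgroup G) : Set G) :=
    le_normalizer.trans (normalizer_le_fitOf K)
  have hRq : ∀ q : ℕ, q.Prime → q ≠ t →
      R ≤ centralizer ((Cfsg.pCoreOf q K : Subgroup G) : Set G) := by
    intro q hq hne
    rw [← commutator_eq_bot_iff_le_centralizer, ← le_bot_iff,
      ← inf_eq_bot_of_pgroup htK.1 hq hne.symm (pCoreOf_isPGroup t L) (pCoreOf_isPGroup q K)]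
    refine le_inf ?_ ?_
    · exact (commutator_mono le_rfl (pCoreOf_le_of_fitOf_le hF hq)).trans
        (Coprime.commutator_le_of_le_normalizer (le_normalizer_pCoreOf t L))
    · rw [commutator_comm]
      exact Coprime.commutator_le_of_le_normalizer (hRK.trans (le_normalizer_pCoreOf q K))
  have hF1 : fitOf K ≤ K := fitOf_le K
  set S := P ⊔ R
  have hS : IsPGroup t S :=
    (pCoreOf_isPGroup t K).to_sup_of_normal_left' (pCoreOf_isPGroup t L) (hRK.trans hPn)
  have hFS : fitOf K ≤ normalizer (S : Set G) := fitOf_le_of_forall fun q hq => by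
    by_cases hqt : q = t
    · subst hqt
      exact le_sup_left.trans le_normalizer
    · refine le_trans ?_ (centralizer_le_normalizer _)
      exact le_centralizer_iff.mpr (sup_le (pCoreOf_le_centralizer htK.1 hq (Ne.symm hqt) K)
        (hRq q hq hqt))
  set H := fitOf K ⊔ R with hH
  have hRF : R ≤ normalizer ((fitOf K : Subgroup G) : Set G) := hRK.trans hFn
  have hHK : H ≤ K := sup_le hF1 hRK
  have hSH : S ≤ Cfsg.pCoreOf t H := by
    refine le_pCoreOf (sup_le ((pCoreOf_le_fitOf t K).trans le_sup_left) le_sup_right) ?_ hS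
    exact sup_le hFS (le_sup_right.trans le_normalizer)
  have hC : ∀ y ∈ K, y ∈ centralizer (P : Set G) → ∀ ρ ∈ R, y * ρ * y⁻¹ * ρ⁻¹ ∈ fitOf K := by
    intro y hyK hyC ρ hρ
    refine inf_centralizer_fitOf_le hK.mem.1
      ⟨K.mul_mem (K.mul_mem (K.mul_mem hyK (hRK hρ)) (K.inv_mem hyK)) (K.inv_mem (hRK hρ)),
        centralizer_fitOf_of_forall fun q hq => ?_⟩
    by_cases hqt : q = t
    · subst hqt
      have h1 : ρ * y⁻¹ * ρ⁻¹ ∈ centralizer (P : Set G) := (mem_normalizer_iff.mp
        (normalizer_le_centralizer_normalizer P (hPn (hRK hρ))) _).mp (inv_mem hyC)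
      simpa [mul_assoc] using mul_mem hyC h1
    · have h1 : y * ρ * y⁻¹ ∈ centralizer ((Cfsg.pCoreOf q K : Subgroup G) : Set G) :=
        (mem_normalizer_iff.mp (normalizer_le_centralizer_normalizer _
          (le_normalizer_pCoreOf q K hyK)) _).mp (hRq q hq hqt hρ)
      exact mul_mem h1 (inv_mem (hRq q hq hqt hρ))
  have hx : centPrime t K ≤ centralizer (R : Set G) := by
    refine (closure_le _).mpr fun x ⟨hxK, hxC, hxo⟩ => ?_
    have hzK : zpowers x ≤ K := zpowers_le.mpr hxK
    have hzC : zpowers x ≤ centralizer (P : Set G) := zpowers_le.mpr hxC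
    have hcomm : ∀ z ∈ H, ∀ y ∈ zpowers x, z * y * z⁻¹ * y⁻¹ ∈ fitOf K := by
      intro z hz y hy
      obtain ⟨f, hf, ρ, hρ, rfl⟩ := (Coprime.mem_sup_of_le_normalizer hRF).mp hz
      have h1 : ρ * y * ρ⁻¹ * y⁻¹ ∈ fitOf K := by
        have h2 := hC y (hzK hy) (hzC hy) ρ hρ
        simpa [mul_assoc] using inv_mem h2
      have h3 : y * f⁻¹ * y⁻¹ ∈ fitOf K :=
        (mem_normalizer_iff.mp (hFn (hzK hy)) _).mp (inv_mem hf)
      simpa [mul_assoc] using mul_mem (mul_mem hf h1) h3
    have hnH : zpowers x ≤ normalizer (H : Set G) := by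
      intro y hy
      refine mem_normalizer_iff.mpr fun z => ?_
      have hy' : ∀ y ∈ zpowers x, ∀ z ∈ H, y * z * y⁻¹ ∈ H := fun y hy z hz => by
        have h1 := hcomm z hz y hy
        have h2 : y * z * y⁻¹ = (z * y * z⁻¹ * y⁻¹)⁻¹ * z := by group
        rw [h2]
        exact mul_mem (inv_mem (mem_sup_left h1)) hz
      exact ⟨hy' y hy z, fun hz => by simpa [mul_assoc] using hy' y⁻¹ (inv_mem hy) _ hz⟩
    have hle : ⁅Cfsg.pCoreOf t H, zpowers x⁆ ≤ P := by
      have h1 : ⁅Cfsg.pCoreOf t H, zpowers x⁆ ≤ fitOf K :=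
        (commutator_le.mpr fun z hz y hy => hcomm z (pCoreOf_le t H hz) y hy)
      exact pgroup_fitOf_le h1 ((pCoreOf_isPGroup t H).to_le
        (Coprime.commutator_le_of_le_normalizer (hnH.trans (normalizer_le_pCoreOf t H))))
    have hcop : (Nat.card (zpowers x)).Coprime (Nat.card (Cfsg.pCoreOf t H)) := by
      obtain ⟨k, hk⟩ := (pCoreOf_isPGroup t H).exists_card_eq
      rw [hk, Nat.card_zpowers]
      exact Nat.Coprime.pow_right k (Nat.Coprime.symm (htK.1.coprime_iff_not_dvd.mpr hxo))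
    have := Coprime.le_centralizer_of_series (hnH.trans (normalizer_le_pCoreOf t H)) hcop
      (Or.inl (Coprime.isSolvable_of_isMulCommutative _)) hzC hle
    exact centralizer_le (le_sup_right.trans hSH : R ≤ _) (this (mem_zpowers x))
  have hm : centPrime t K ∈ Cfsg.signalizerFamily r A θ :=
    Signalizer.member_of_le hK.mem (centPrime_le t K)
      ((Signalizer.member_normalizer hK.mem).trans (normalizer_le_centPrime t K))
  have hKL : centPrime t K ≤ L :=
    h.le_node_of_normalizes_pCore hL htL hm (hx.trans (centralizer_le_normalizer _))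
  refine (closure_le _).mpr fun x hxs => subset_closure ⟨?_, ?_, hxs.2.2⟩
  · exact hKL (subset_closure hxs)
  · exact hx (subset_closure hxs)

lemma eq_of_fit_le (hp : PureFacts r A θ) {K L : Subgroup G} (hK : IsNode r A θ K)
    (hL : IsNode r A θ L) (hF : fitOf K ≤ L) (hF' : fitOf L ≤ K) : K = L := by
  obtain ⟨t, htK⟩ := h.node_exists_inFit hK
  have htL : InFit t L := inFit_of_fit_le hL.mem.1 hF' hF htK
  by_cases hpure : ∃ q, InFit q K ∧ q ≠ t
  · obtain ⟨q, hq, hqt⟩ := hpure
    have heq : centPrime t K = centPrime t L :=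
      le_antisymm (h.centPrime_le_centPrime hK hL hF hF' htK htL)
        (h.centPrime_le_centPrime hL hK hF' hF htL htK)
    have hne : centPrime t K ≠ ⊥ :=
      fun e => hq.2 (le_bot_iff.mp (e ▸ pCore_le_centPrime hq.1 htK.1 hqt K))
    have hLK : L ≤ K := h.le_node_of_normalizes hK (centPrime_le t K)
      (le_normalizer.trans (normalizer_le_centPrime t K))
      ((Signalizer.member_normalizer hK.mem).trans (normalizer_le_centPrime t K)) hne hL.mem
      (heq ▸ le_normalizer.trans (normalizer_le_centPrime t L))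
    exact (hL.eq_of_le hK.mem hLK)
  · push Not at hpure
    exact hp.unique t K L hK hL ⟨htK, hpure⟩
      ⟨htL, fun w hw => hpure w (inFit_of_fit_le hK.mem.1 hF hF' hw)⟩

end Minimal

end Cfsg.Agent.SolvableSignalizer
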