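import Cfsg.Agent.Lib.SolvableSignalizer.Defs
import Cfsg.Agent.Lib.Cores.Basic

/-!
In a minimal incomplete functor the `θ a` meet the normaliser of a nontrivial member in a member.
-/

set_option autoImplicit false
set_option linter.style.haveILetI false

namespace Cfsg.Agent.SolvableSignalizer

open Subgroup
open Cfsg.Agent.Components

universe u

variable {G : Type u} [Group G] {r : ℕ} {A : Subgroup G} {θ : G → Subgroup G}

/-- The subgroup generated by the `θ a ∩ N(U)`. -/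
def thetaN (A : Subgroup G) (θ : G → Subgroup G) (U : Subgroup G) : Subgroup G :=
  ⨆ a : {a : G // a ∈ A ∧ a ≠ 1}, θ (a : G) ⊓ normalizer (U : Set G)

lemma thetaN_le_normalizer (U : Subgroup G) : thetaN A θ U ≤ normalizer (U : Set G) :=
  iSup_le fun _ => inf_le_right

lemma theta_inf_le_thetaN {U : Subgroup G} {a : G} (ha : a ∈ A) (ha1 : a ≠ 1) :
    θ a ⊓ normalizer (U : Set G) ≤ thetaN A θ U :=
  le_iSup (fun a : {a : G // a ∈ A ∧ a ≠ 1} => θ (a : G) ⊓ normalizer (U : Set G)) ⟨a, ha, ha1⟩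

variable [Finite G]

/-- If every `θ a` normalises `U ≠ 1` the functor is complete. -/
lemma complete_of_le_normalizer (h : Minimal r A θ) {U : Subgroup G}
    (hU : U ∈ Cfsg.signalizerFamily r A θ) (hU1 : U ≠ ⊥)
    (hN : ∀ a ∈ A, a ≠ 1 → θ a ≤ normalizer (U : Set G)) : Complete r A θ := by
  haveI := Fact.mk h.prime
  haveI := h.elem.1
  obtain ⟨hUs, hUr, hUA, hUθ⟩ := hU
  have hAN : A ≤ normalizer (U : Set G) := Signalizer.le_normalizer_of_inv hUA
  set N : Subgroup G := normalizer (U : Set G)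
  set U₀ : Subgroup N := U.subgroupOf N with hU₀
  haveI : U₀.Normal := normal_in_normalizer
  set φ : N →* N ⧸ U₀ := QuotientGroup.mk' U₀ with hφ
  have hφ1 : ∀ x : N, φ x = 1 ↔ (x : G) ∈ U := fun x => by
    rw [hφ, QuotientGroup.mk'_apply, QuotientGroup.eq_one_iff]
    exact mem_subgroupOf
  set A₁ : Subgroup N := A.subgroupOf N with hA₁
  set A' : Subgroup (N ⧸ U₀) := A₁.map φ with hA'
  have hdisj : Disjoint U A :=
    Coprime.disjoint_of_coprime (Signalizer.coprime_member h.elem hUr).symm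
  have hinj : ∀ x ∈ A₁, φ x = 1 → x = 1 := fun x hx e =>
    Subtype.ext (disjoint_def.mp hdisj ((hφ1 x).mp e) (mem_subgroupOf.mp hx))
  have hinj2 : ∀ x ∈ A₁, ∀ y ∈ A₁, φ x = φ y → x = y := fun x hx y hy e => by
    have := hinj (x⁻¹ * y) (mul_mem (inv_mem hx) hy) (by rw [map_mul, map_inv, e, inv_mul_cancel])
    rwa [inv_mul_eq_one] at this
  have hcardA' : Nat.card A' = r ^ 3 := by
    rw [← h.card, ← Nat.card_congr (subgroupOfEquivOfLe hAN).toEquiv]
    refine (Nat.card_congr (Equiv.ofBijective (fun x : A₁ => (⟨φ x, mem_map_of_mem φ x.2⟩ : A'))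
      ⟨fun x y e => Subtype.ext (hinj2 x x.2 y y.2 (congrArg Subtype.val e)), fun y => ?_⟩)).symm
    obtain ⟨x, hx, e⟩ := y.2
    exact ⟨⟨x, hx⟩, Subtype.ext e⟩
  have hA'e : Cfsg.IsElementaryAbelian r A' := by
    refine ⟨⟨⟨?_⟩⟩, ?_⟩
    · rintro ⟨_, x, hx, rfl⟩ ⟨_, y, hy, rfl⟩
      exact Subtype.ext (show φ x * φ y = φ y * φ x by
        rw [← map_mul, ← map_mul, show x * y = y * x from
          Subtype.ext (Hyperplane.mem_comm h.elem (mem_subgroupOf.mp hx) (mem_subgroupOf.mp hy))])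
    · rintro _ ⟨x, hx, rfl⟩
      rw [← map_pow, show x ^ r = 1 from Subtype.ext (h.elem.2 x (mem_subgroupOf.mp hx)), map_one]
  set θ' : N ⧸ U₀ → Subgroup (N ⧸ U₀) :=
    fun z => ⨆ a : {a : N // a ∈ A₁ ∧ φ a = z}, ((θ ((a : N) : G)).subgroupOf N).map φ with hθ'
  have hval : ∀ a ∈ A₁, θ' (φ a) = ((θ (a : G)).subgroupOf N).map φ := fun a ha => by
    refine le_antisymm (iSup_le fun b => ?_)
      (le_iSup (fun b : {b : N // b ∈ A₁ ∧ φ b = φ a} => ((θ ((b : N) : G)).subgroupOf N).map φ)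
        ⟨a, ha, rfl⟩)
    rw [hinj2 _ b.2.1 _ ha b.2.2]
  have hne : ∀ a ∈ A₁, φ a ≠ 1 → (a : G) ≠ 1 := fun a _ ha e => ha (by
    rw [show a = 1 from Subtype.ext e, map_one])
  have hfun : Cfsg.IsSolvableSignalizerFunctor r A' θ' := by
    refine ⟨⟨?_, ?_, ?_, ?_⟩, ?_⟩
    · rintro _ ⟨a, ha, rfl⟩ ha1
      rw [hval a ha]
      rintro _ ⟨x, hx, rfl⟩
      rw [mem_centralizer_singleton_iff, ← map_mul, ← map_mul]
      refine congrArg φ (Subtype.ext ?_)
      exact mem_centralizer_singleton_iff.mp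
        (h.func.1.1 a (mem_subgroupOf.mp ha) (hne a ha ha1) (mem_subgroupOf.mp hx))
    · rintro _ ⟨a, ha, rfl⟩ ha1
      rw [hval a ha]
      intro hd
      refine h.func.1.2.1 a (mem_subgroupOf.mp ha) (hne a ha ha1) ?_
      rw [← Nat.card_congr (subgroupOfEquivOfLe (hN a (mem_subgroupOf.mp ha) (hne a ha ha1))).toEquiv]
      exact hd.trans (Subgroup.card_map_dvd _ φ)
    · rintro _ ⟨a, ha, rfl⟩ ha1 _ ⟨b, hb, rfl⟩
      rw [hval a ha]
      rintro _ ⟨x, hx, rfl⟩
      refine ⟨b * x * b⁻¹, mem_subgroupOf.mpr ?_, by rw [map_mul, map_mul, map_inv]⟩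
      exact h.func.1.2.2.1 a (mem_subgroupOf.mp ha) (hne a ha ha1) b (mem_subgroupOf.mp hb) x
        (mem_subgroupOf.mp hx)
    · rintro _ ⟨a, ha, rfl⟩ ha1 _ ⟨b, hb, rfl⟩ hb1
      rw [hval a ha, hval b hb]
      have haA := mem_subgroupOf.mp ha
      have hbA := mem_subgroupOf.mp hb
      have hn : zpowers b ≤ normalizer (((θ (a : G)).subgroupOf N : Subgroup N) : Set N) := by
        refine zpowers_le.mpr (mem_normalizer_iff.mpr fun z => ?_)
        simp only [mem_subgroupOf, coe_mul, coe_inv]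
        exact mem_normalizer_iff.mp
          (Signalizer.theta_normalizer h.func haA (hne a ha ha1) hbA) (z : G)
      have hcop : (Nat.card (zpowers b)).Coprime (Nat.card ((θ (a : G)).subgroupOf N)) := by
        rw [Nat.card_congr (subgroupOfEquivOfLe (hN a haA (hne a ha ha1))).toEquiv, Nat.card_zpowers,
          ← orderOf_coe, Hyperplane.orderOf_eq h.elem hbA (hne b hb hb1)]
        exact h.prime.coprime_iff_not_dvd.mpr (h.func.1.2.1 a haA (hne a ha ha1))
      have hm := Coprime.map_inf_centralizer φ hn hcop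
        (Or.inl (Coprime.isSolvable_of_isMulCommutative _))
      have e1 : centralizer ((zpowers b : Subgroup N) : Set N) = centralizer {b} := by
        rw [zpowers_eq_closure, centralizer_closure]
      rw [e1, MonoidHom.map_zpowers, zpowers_eq_closure, centralizer_closure] at hm
      refine hm.symm.le.trans (Subgroup.map_mono ?_)
      rintro x ⟨hx, hxb⟩
      refine mem_subgroupOf.mpr (h.func.1.2.2.2 a haA (hne a ha ha1) b hbA (hne b hb hb1)
        ⟨mem_subgroupOf.mp hx, ?_⟩)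
      exact mem_centralizer_singleton_iff.mpr
        (congrArg Subtype.val (mem_centralizer_singleton_iff.mp hxb))
    · rintro _ ⟨a, ha, rfl⟩ ha1
      rw [hval a ha]
      haveI : Group.IsSolvable ((θ (a : G)).subgroupOf N) :=
        haveI := h.func.2 a (mem_subgroupOf.mp ha) (hne a ha ha1)
        Group.isSolvable_of_isSolvable_injective
          (f := (subgroupOfEquivOfLe (hN a (mem_subgroupOf.mp ha) (hne a ha ha1))).toMonoidHom)
          (MulEquiv.injective _)
      exact Coprime.isSolvable_map φ this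
  have hlt : Nat.card (N ⧸ U₀) < Nat.card G := by
    refine lt_of_lt_of_le ?_ (card_le_card_group N)
    rw [card_eq_card_quotient_mul_card_subgroup U₀]
    refine lt_mul_of_one_lt_right Nat.card_pos ?_
    rw [Nat.card_congr (subgroupOfEquivOfLe le_normalizer).toEquiv]
    exact one_lt_card_iff_ne_bot U |>.mpr hU1
  obtain ⟨K', ⟨hK's, hK'r, hK'A, hK'θ⟩, hK'⟩ := h.group_ind (N ⧸ U₀) A' θ' hlt hA'e hcardA' hfun
  refine ⟨(K'.comap φ).map N.subtype, ⟨?_, ?_, ?_, ?_⟩, ?_⟩
  · haveI : Group.IsSolvable U₀ :=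
      haveI := hUs
      Group.isSolvable_of_isSolvable_injective
        (f := (subgroupOfEquivOfLe (le_normalizer : U ≤ N)).toMonoidHom) (MulEquiv.injective _)
    refine Coprime.isSolvable_map N.subtype ?_
    have hle : U₀ ≤ K'.comap φ := fun x hx => by
      rw [mem_comap, show φ x = 1 from (hφ1 x).mpr (mem_subgroupOf.mp hx)]
      exact one_mem _
    rw [Group.isSolvable_iff_subgroup_quotient (U₀.subgroupOf (K'.comap φ))]
    refine ⟨Group.isSolvable_of_isSolvable_injective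
      (f := (subgroupOfEquivOfLe hle).toMonoidHom) (MulEquiv.injective _), ?_⟩
    haveI := hK's
    refine Group.isSolvable_of_isSolvable_injective
      (f := QuotientGroup.lift (U₀.subgroupOf (K'.comap φ))
        ((φ.comp (K'.comap φ).subtype).codRestrict K' fun x => x.2) fun x hx =>
          Subtype.ext ((hφ1 x).mpr (mem_subgroupOf.mp (mem_subgroupOf.mp hx)))) ?_
    refine (injective_iff_map_eq_one _).mpr fun z => ?_
    obtain ⟨x, rfl⟩ := QuotientGroup.mk_surjective z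
    intro hz
    exact (QuotientGroup.eq_one_iff x).mpr (mem_subgroupOf.mpr (mem_subgroupOf.mpr
      ((hφ1 x).mp (congrArg Subtype.val hz))))
  · rw [card_subtype, Cores.card_comap_mk' U₀ K',
      Nat.card_congr (subgroupOfEquivOfLe (le_normalizer : U ≤ N)).toEquiv]
    exact fun hd => (h.prime.dvd_mul.mp hd).elim hUr hK'r
  · rintro b hb _ ⟨x, hx, rfl⟩
    refine ⟨⟨b, hAN hb⟩ * x * ⟨b, hAN hb⟩⁻¹, ?_, rfl⟩
    rw [SetLike.mem_coe, mem_comap, map_mul, map_mul, map_inv]
    exact hK'A _ (mem_map_of_mem φ (mem_subgroupOf.mpr hb)) _ hx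
  · rintro a ha ha1 _ ⟨⟨x, hx, rfl⟩, hxa⟩
    set a₀ : N := ⟨a, hAN ha⟩
    have ha₀ : a₀ ∈ A₁ := mem_subgroupOf.mpr ha
    have ha₀1 : φ a₀ ≠ 1 := fun e => ha1 (congrArg Subtype.val (hinj a₀ ha₀ e))
    have h1 : φ x ∈ θ' (φ a₀) := hK'θ _ (mem_map_of_mem φ ha₀) ha₀1 ⟨hx, by
      refine mem_centralizer_singleton_iff.mpr ?_
      rw [← map_mul, ← map_mul]
      exact congrArg φ (Subtype.ext (mem_centralizer_singleton_iff.mp hxa))⟩
    rw [hval a₀ ha₀] at h1
    obtain ⟨y, hy, hyx⟩ := h1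
    have hyθ : (y : G) ∈ θ a := mem_subgroupOf.mp hy
    have hu : ((y : G))⁻¹ * x ∈ U :=
      (hφ1 (y⁻¹ * x)).mp (by rw [map_mul, map_inv, hyx, inv_mul_cancel])
    have := (θ a).mul_mem hyθ (hUθ a ha ha1 ⟨hu, (centralizer {a}).mul_mem
      ((centralizer {a}).inv_mem (h.func.1.1 a ha ha1 hyθ)) hxa⟩)
    simpa using this
  · intro a ha ha1 x hx
    refine ⟨⟨x, hN a ha ha1 hx⟩, ?_, rfl⟩
    set a₀ : N := ⟨a, hAN ha⟩
    have ha₀ : a₀ ∈ A₁ := mem_subgroupOf.mpr ha
    have ha₀1 : φ a₀ ≠ 1 := fun e => ha1 (congrArg Subtype.val (hinj a₀ ha₀ e))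
    apply hK' _ (mem_map_of_mem φ ha₀) ha₀1
    rw [hval a₀ ha₀]
    exact mem_map_of_mem φ (mem_subgroupOf.mpr hx)

lemma exists_not_le_normalizer (h : Minimal r A θ) {U : Subgroup G}
    (hU : U ∈ Cfsg.signalizerFamily r A θ) (hU1 : U ≠ ⊥) :
    ∃ a ∈ A, a ≠ 1 ∧ ¬ θ a ≤ normalizer (U : Set G) := by
  by_contra hc
  push Not at hc
  exact h.notComplete (complete_of_le_normalizer h hU hU1 hc)

lemma thetaN_mem (h : Minimal r A θ) {U : Subgroup G} (hU : U ∈ Cfsg.signalizerFamily r A θ)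
    (hU1 : U ≠ ⊥) : thetaN A θ U ∈ Cfsg.signalizerFamily r A θ := by
  haveI := Fact.mk h.prime
  have hAN : A ≤ normalizer (U : Set G) := Signalizer.member_normalizer hU
  set θ' : G → Subgroup G := fun a => θ a ⊓ normalizer (U : Set G) with hθ'
  have hfun : Cfsg.IsSolvableSignalizerFunctor r A θ' := by
    refine ⟨⟨fun a ha ha1 => inf_le_left.trans (h.func.1.1 a ha ha1),
      fun a ha ha1 hd => h.func.1.2.1 a ha ha1 (hd.trans (card_dvd_of_le inf_le_left)),
      fun a ha ha1 => Signalizer.inv_of_le_normalizer ?_, fun a ha ha1 b hb hb1 => ?_⟩,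
      fun a ha ha1 => Coprime.isSolvable_of_le inf_le_left (h.func.2 a ha ha1)⟩
    · exact le_trans (le_inf (Signalizer.theta_normalizer h.func ha ha1)
        (hAN.trans le_normalizer)) inf_normalizer_le_normalizer_inf
    · rintro x ⟨⟨hx, hxN⟩, hxb⟩
      exact ⟨h.func.1.2.2.2 a ha ha1 b hb hb1 ⟨hx, hxb⟩, hxN⟩
  obtain ⟨a, ha, ha1, hnot⟩ := exists_not_le_normalizer h hU hU1
  obtain ⟨K, hK, hKθ⟩ := h.functor_ind θ' hfun
    (size_lt (fun _ _ _ => inf_le_left) ha ha1 fun hle => hnot (hle.trans inf_le_right))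
  have hKm : K ∈ Cfsg.signalizerFamily r A θ :=
    ⟨hK.1, hK.2.1, hK.2.2.1, fun b hb hb1 => (hK.2.2.2 b hb hb1).trans inf_le_left⟩
  have hA2 : r ^ 2 ≤ Nat.card A := h.card ▸ Nat.pow_le_pow_right h.prime.pos (by norm_num)
  have : thetaN A θ U = K := by
    refine le_antisymm (iSup_le fun b => hKθ b b.2.1 b.2.2) ?_
    exact member_le h.prime h.elem hA2 hK.2.1 (Signalizer.member_normalizer hKm) fun b hb hb1 =>
      (hK.2.2.2 b hb hb1).trans (theta_inf_le_thetaN hb hb1)
  exact this ▸ hKm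

/-- A member normalising `U` lies in `thetaN A θ U`. -/
lemma le_thetaN (h : Minimal r A θ) {U V : Subgroup G} (hV : V ∈ Cfsg.signalizerFamily r A θ)
    (hn : V ≤ normalizer (U : Set G)) : V ≤ thetaN A θ U :=
  member_le h.prime h.elem (h.card ▸ Nat.pow_le_pow_right h.prime.pos (by norm_num)) hV.2.1
    (Signalizer.member_normalizer hV) fun _ ha ha1 =>
      le_trans (le_inf (hV.2.2.2 _ ha ha1) (inf_le_left.trans hn)) (theta_inf_le_thetaN ha ha1)

end Cfsg.Agent.SolvableSignalizer
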