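import Cfsg.Agent.GenA.ShultGross.Basic
import Cfsg.Agent.GenA.ShultGross.Numeric
import Cfsg.Agent.GenA.ShultGross.Orbit

/-!
An element of order `p`, `p` odd, without fixed points on a module centralises the image of an invariant
`q`-group, `q` odd (no hypothesis on fixed points on the `q`-group).
-/

set_option autoImplicit false

namespace Cfsg.Agent.SolvableSignalizer

open Cfsg.Agent.GenA.ShultGross

open Module (End finrank)
open Cfsg.Agent.PLocal.TheoremB (Normalizes Moves Minimal stab mem_stab onSub onQuot onSub_apply onQuot_apply)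
open scoped commutatorElement

universe u v w

theorem not_moves_odd {p q : ℕ} [hp : Fact p.Prime] [hq : Fact q.Prime] (hp2 : p ≠ 2) (hpq : p ≠ q)
    (hq2ne : q ≠ 2)
    {K : Type w} [Field K] [IsAlgClosed K] (hpK : (p : K) ≠ 0) (hqK : (q : K) ≠ 0) {n : ℕ} (hn : 1 ≤ n) :
    ∀ (N d : ℕ) (G : Type u) [Group G] [Finite G] (V : Type v) [AddCommGroup V] [Module K V]
      [FiniteDimensional K V] (ρ : G →* End K V) (Q : Subgroup G) (x : G),
      Nat.card Q ≤ N → finrank K V ≤ d → IsPGroup q Q → x ^ p ^ n = 1 → Normalizes x Q →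
      (∀ v : V, ρ x v = v → v = 0) →
      ¬ Moves ρ Q (x ^ p ^ (n - 1)) := by
  intro N
  induction N using Nat.strong_induction_on with
  | _ N IHN =>
  intro d
  induction d using Nat.strong_induction_on with
  | _ d IHd =>
  intro G _ _ V _ _ _ ρ Q x hN hd hQ hxP hxQ hVfix hmove
  classical
  set y := x ^ p ^ (n - 1) with hy
  set N' := p ^ n with hN'
  have hN'0 : 0 < N' := pow_pos hp.out.pos n
  haveI hVnt : Nontrivial V := by
    by_contra h
    haveI := not_nontrivial_iff_subsingleton.mp h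
    obtain ⟨g, -, hg⟩ := hmove
    exact hg (LinearMap.ext fun v => Subsingleton.elim _ _)
  have hyp : y ^ p = 1 := by rw [hy, ← pow_mul, ← pow_succ, Nat.sub_add_cancel hn, hxP]
  have hyQ : Normalizes y Q := hxQ.pow _
  have hxy : Commute x y := (Commute.refl x).pow_right _
  -- minimality
  have hmin : Minimal ρ Q x y := by
    intro Q₁ hle hne hinv hm
    have hlt : Nat.card Q₁ < Nat.card Q := lt_of_le_of_ne (Subgroup.card_le_of_le hle)
      fun e => hne (Subgroup.eq_of_le_of_card_ge hle e.ge)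
    exact IHN _ (hlt.trans_le hN) (finrank K V) G V ρ Q₁ x le_rfl le_rfl (hQ.to_le hle) hxP hinv
      hVfix hm
  -- irreducibility
  have hirr : ∀ X : Submodule K V, (∀ g ∈ Q, ∀ w ∈ X, ρ g w ∈ X) → (∀ w ∈ X, ρ x w ∈ X) → X = ⊥ ∨ X = ⊤ := by
    intro X hXQ hXx
    by_contra hX
    push_neg at hX
    set S := stab ρ X with hS
    have hxS : x ∈ S := mem_stab hXx
    have hQS : Q ≤ S := fun g hg => mem_stab (hXQ g hg)
    set Q' := Q.subgroupOf S
    have hcardQ' : Nat.card Q' = Nat.card Q := Nat.card_congr (Subgroup.subgroupOfEquivOfLe hQS).toEquiv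
    have hQ' : IsPGroup q Q' := hQ.comap_subtype
    have hx' : (⟨x, hxS⟩ : S) ^ p ^ n = 1 := Subtype.ext (by simpa using hxP)
    have hnorm' : Normalizes (⟨x, hxS⟩ : S) Q' := fun g hg => hxQ _ hg
    have hV1 : ∀ w : X, onSub ρ X ⟨x, hxS⟩ w = w → w = 0 := fun w e =>
      Subtype.ext (hVfix w (congrArg Subtype.val e))
    have hV2 : ∀ w : V ⧸ X, onQuot ρ X ⟨x, hxS⟩ w = w → w = 0 := by
      intro w e
      obtain ⟨v, rfl⟩ := X.mkQ_surjective w
      rw [onQuot_apply, Submodule.mkQ_apply, Submodule.mkQ_apply, Submodule.Quotient.eq] at e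
      have hinj : Function.Injective (ρ x - 1 : End K V) := (injective_iff_map_eq_zero _).mpr fun a ha =>
        hVfix a (sub_eq_zero.mp ha)
      have hmap : ∀ a ∈ X, (ρ x - 1 : End K V) a ∈ X := fun a ha => sub_mem (hXx a ha) ha
      obtain ⟨a, ha⟩ := LinearMap.surjective_of_injective (K := K) (f := (ρ x - 1 : End K V).restrict hmap)
        (fun a b h => Subtype.ext (hinj (congrArg Subtype.val h))) ⟨_, e⟩
      have : v = a := hinj (congrArg Subtype.val ha).symm
      exact (Submodule.Quotient.mk_eq_zero X).mpr (this ▸ a.2)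
    have hdX : finrank K X < d := (Submodule.finrank_lt hX.2).trans_le hd
    have hdQ : finrank K (V ⧸ X) < d := lt_of_lt_of_le (by
      have h1 := X.finrank_quotient_add_finrank
      have : 0 < finrank K X := Module.finrank_pos_iff.mpr (Submodule.nontrivial_iff_ne_bot.mpr hX.1)
      omega) hd
    have h1 := IHd _ hdX S X (onSub ρ X) Q' ⟨x, hxS⟩ (hcardQ'.trans_le hN) le_rfl hQ' hx' hnorm' hV1
    have h2 := IHd _ hdQ S (V ⧸ X) (onQuot ρ X) Q' ⟨x, hxS⟩ (hcardQ'.trans_le hN) le_rfl hQ' hx' hnorm' hV2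
    simp only [Moves, not_exists, not_and, not_not] at h1 h2
    obtain ⟨g, hg, hne⟩ := hmove
    refine hne ?_
    set h := g⁻¹ * (y * g * y⁻¹) with hh
    have hhQ : h ∈ Q := mul_mem (inv_mem hg) (hyQ g hg)
    obtain ⟨k, hk⟩ := hQ ⟨h, hhQ⟩
    have hyS : y ∈ S := pow_mem hxS _
    have eS : ((⟨g, hQS hg⟩⁻¹ * ((⟨x, hxS⟩ : S) ^ p ^ (n - 1) * ⟨g, hQS hg⟩ *
        ((⟨x, hxS⟩ : S) ^ p ^ (n - 1))⁻¹) : S) : G) = h := by simp [hh, hy]
    have htriv : ∀ {W' : Type v} [AddCommGroup W'] [Module K W'] (σ : S →* End K W'),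
        (∀ g ∈ Q', Commute (σ ((⟨x, hxS⟩ : S) ^ p ^ (n - 1))) (σ g)) →
        σ (⟨g, hQS hg⟩⁻¹ * ((⟨x, hxS⟩ : S) ^ p ^ (n - 1) * ⟨g, hQS hg⟩ *
          ((⟨x, hxS⟩ : S) ^ p ^ (n - 1))⁻¹)) = 1 := fun σ hc => by
      rw [map_mul, map_mul, map_mul, (hc ⟨g, hQS hg⟩ hg).eq, mul_assoc (σ ⟨g, hQS hg⟩),
        ← map_mul σ (_ ^ _), mul_inv_cancel, map_one, mul_one, ← map_mul, inv_mul_cancel, map_one]
    have h3 : ρ h = 1 := by
      refine eq_one_of_trivial hqK (k := k) (by simpa using congrArg Subtype.val hk) X (fun w hw => ?_)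
        fun v => ?_
      · have := congrArg Subtype.val (LinearMap.congr_fun (htriv (onSub ρ X) h1) ⟨w, hw⟩)
        rwa [onSub_apply, eS] at this
      · have := LinearMap.congr_fun (htriv (onQuot ρ X) h2) (X.mkQ v)
        rw [onQuot_apply, eS, Module.End.one_apply] at this
        exact (Submodule.Quotient.eq X).mp this
    show ρ y * ρ g = ρ g * ρ y
    rw [← map_mul, show y * g = g * h * y by rw [hh]; group, map_mul, map_mul, h3, mul_one]
  have hQne : Q ≠ ⊥ := by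
    rintro rfl
    obtain ⟨g, hg, hg'⟩ := hmove
    rw [Subgroup.mem_bot.mp hg, map_one] at hg'
    exact hg' (Commute.one_right _)
  have hgen := closure_eq hpq hQ hyp hxy hxQ hyQ hmove hmin
  -- the commutator subgroup is central in the image
  let ρ' : Q →* End K V := ρ.comp Q.subtype
  have hcomm : ∀ a b : Q, IsCentralImage ρ' ⁅a, b⁆ := by
    intro a b c
    have hle : ⁅Q, Q⁆ ≤ Q := Subgroup.commutator_le.mpr fun a ha b hb =>
      mul_mem (mul_mem (mul_mem ha hb) (inv_mem ha)) (inv_mem hb)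
    have hnormR : ∀ g : G, Normalizes g Q → Normalizes g ⁅Q, Q⁆ := fun g hg d hd => by
      have : ⁅Q, Q⁆ ≤ ⁅Q, Q⁆.comap (MulAut.conj g).toMonoidHom := Subgroup.commutator_le.mpr fun a ha b hb => by
        rw [Subgroup.mem_comap, map_commutatorElement]
        exact Subgroup.commutator_mem_commutator (hg a ha) (hg b hb)
      exact this hd
    have hne : ⁅Q, Q⁆ ≠ Q := by
      intro he
      haveI := hQ.isNilpotent
      haveI : Nontrivial Q := (Subgroup.nontrivial_iff_ne_bot Q).mpr hQne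
      refine (Group.IsSolvable.commutator_lt_top_of_nontrivial Q).ne ?_
      refine Subgroup.map_injective Q.subtype_injective ?_
      rw [Subgroup.map_subtype_commutator, ← MonoidHom.range_eq_map, Subgroup.range_subtype]
      exact he
    have hc : ∀ d ∈ ⁅Q, Q⁆, Commute (ρ y) (ρ d) := fun d hd => by
      by_contra hc
      exact hmin _ hle hne (hnormR x hxQ) ⟨d, hd, hc⟩
    exact commute_of_centralized hgen (fun g hg => hnormR g fun c hc => mul_mem (mul_mem hg hc) (inv_mem hg))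
      hc _ (Subgroup.commutator_mem_commutator a.2 b.2) _ c.2
  -- conjugation by `x`
  have hcanc : x * x ^ (N' - 1) = 1 := by rw [← pow_succ', Nat.sub_add_cancel hN'0, hxP]
  let γ : MulAut Q :=
    { toFun := fun g => ⟨x * g * x⁻¹, hxQ g g.2⟩
      invFun := fun g => ⟨x ^ (N' - 1) * g * (x ^ (N' - 1))⁻¹, hxQ.pow _ g g.2⟩
      left_inv := fun g => Subtype.ext (by
        show x ^ (N' - 1) * (x * g * x⁻¹) * (x ^ (N' - 1))⁻¹ = g
        rw [eq_inv_of_mul_eq_one_right hcanc]; group)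
      right_inv := fun g => Subtype.ext (by
        show x * (x ^ (N' - 1) * g * (x ^ (N' - 1))⁻¹) * x⁻¹ = g
        rw [eq_inv_of_mul_eq_one_right hcanc]; group)
      map_mul' := fun a b => Subtype.ext (by
        show x * ((a : G) * b) * x⁻¹ = x * a * x⁻¹ * (x * b * x⁻¹)
        group) }
  have hγ : ∀ (i : ℕ) (g : Q), (((γ ^ i) g : Q) : G) = x ^ i * g * (x ^ i)⁻¹ := by
    intro i
    induction i with
    | zero => intro g; simp
    | succ i ih =>
      intro g
      rw [pow_succ', MulAut.mul_apply]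
      show x * (((γ ^ i) g : Q) : G) * x⁻¹ = _
      rw [ih, pow_succ']; group
  have hγρ : ∀ (i : ℕ) (g : Q), ρ' ((γ ^ i) g) * ρ (x ^ i) = ρ (x ^ i) * ρ' g := fun i g => by
    show ρ _ * _ = _ * ρ _
    rw [← map_mul, ← map_mul]
    simp only [Subgroup.coe_subtype, hγ, inv_mul_cancel_right]
  have hγN : γ ^ N' = 1 := MulEquiv.ext fun g => Subtype.ext (by rw [hγ, hxP]; simp)
  -- the largest stabilizer
  let Pair : ℕ → Submodule K V → Prop := fun k W => W ≠ ⊥ ∧ (∀ g : Q, ∀ w ∈ W, ρ' g w ∈ W) ∧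
    (∀ w ∈ W, ρ (x ^ p ^ k) w ∈ W) ∧ ∀ w ∈ W, w ≠ 0 → ∑ i ∈ Finset.range (p ^ k), ρ (x ^ i) w ≠ 0
  have h00 : Pair 0 ⊤ := ⟨top_ne_bot, fun _ _ _ => Submodule.mem_top, fun _ _ => Submodule.mem_top,
    fun w _ hw => by simpa using hw⟩
  set k := Nat.findGreatest (fun k => ∃ W, Pair k W) n with hk
  have hkn : k ≤ n := Nat.findGreatest_le n
  obtain ⟨W, hWP, hWmin⟩ := (wellFounded_lt (α := Submodule K V)).has_min {W | Pair k W}
    (Nat.findGreatest_spec (P := fun k => ∃ W, Pair k W) (Nat.zero_le n) ⟨⊤, h00⟩)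
  obtain ⟨hW0, hWQ, hWb, hWsum⟩ := hWP
  haveI : Nontrivial W := Submodule.nontrivial_iff_ne_bot.mpr hW0
  set b := x ^ p ^ k with hb
  set P := p ^ (n - k) with hPdef
  have hbP : b ^ P = 1 := by rw [hb, hPdef, ← pow_mul, ← pow_add, Nat.add_sub_cancel' hkn, hxP]
  let τ : Q →* End K W :=
    { toFun := fun g => (ρ' g).restrict (hWQ g)
      map_one' := by ext w; simp [LinearMap.restrict_apply]
      map_mul' := fun a b => by ext w; simp [LinearMap.restrict_apply] }
  have hτ : ∀ g (w : W), ((τ g w : W) : V) = ρ' g w := fun g w => rfl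
  set B : End K W := (ρ b).restrict hWb with hB
  have hBk : ∀ (l : ℕ) (w : W), (((B ^ l) w : W) : V) = ρ (b ^ l) w := by
    intro l
    induction l with
    | zero => intro w; simp
    | succ l ih => intro w; rw [pow_succ', pow_succ', map_mul, Module.End.mul_apply, Module.End.mul_apply, ← ih]; rfl
  have hBP : B ^ P = 1 := LinearMap.ext fun w => Subtype.ext (by rw [hBk, hbP, map_one]; rfl)
  set β := γ ^ p ^ k with hβdef
  have hβτ : ∀ g, B * τ g = τ (β g) * B := fun g => LinearMap.ext fun w => Subtype.ext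
    (LinearMap.congr_fun (hγρ (p ^ k) g).symm (w : V))
  have hβP : β ^ P = 1 := by rw [hβdef, hPdef, ← pow_mul, ← pow_add, Nat.add_sub_cancel' hkn, hγN]
  -- central images are scalar on `W`
  have hcent : ∀ g : Q, IsCentralImage τ g → g ∈ scalarSub τ := by
    intro g hg
    obtain ⟨j, hj, W', hW'0, hW'Q, hW'b, hW's, hW'sum⟩ :=
      exists_eigen_stab τ β B hβτ hp.out (n - k) hBP
    have hpair : Pair (k + j) (W'.map W.subtype) := by
      refine ⟨fun h => hW'0 (Submodule.map_injective_of_injective W.injective_subtype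
          (h.trans (Submodule.map_bot _).symm)), ?_, ?_, ?_⟩
      · rintro g _ ⟨w, hw, rfl⟩
        exact ⟨τ g w, hW'Q g w hw, rfl⟩
      · rintro _ ⟨w, hw, rfl⟩
        refine ⟨(B ^ p ^ j) w, hW'b w hw, ?_⟩
        rw [pow_add, pow_mul, ← hb]
        exact hBk _ w
      · rintro _ ⟨w, hw, rfl⟩ hw0
        set u := ∑ l ∈ Finset.range (p ^ j), (B ^ l) w with hu
        have hu0 : u ≠ 0 := hW'sum w hw fun h => hw0 (by rw [h]; rfl)
        have := hWsum _ u.2 fun h => hu0 (Subtype.ext h)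
        rw [pow_add, sum_range_mul']
        convert this using 1
        rw [Finset.sum_comm, hu, Submodule.coe_sum]
        refine Finset.sum_congr rfl fun i _ => ?_
        rw [map_sum]
        refine Finset.sum_congr rfl fun l _ => ?_
        rw [hBk, ← Module.End.mul_apply, ← map_mul, hb, ← pow_mul, ← pow_add, Nat.add_comm]
        rfl
    have hj0 : j = 0 := by
      by_contra h
      exact Nat.findGreatest_is_greatest (P := fun k => ∃ W, Pair k W)
        (show k < k + j by omega) (by omega) ⟨_, hpair⟩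
    subst hj0
    rw [Nat.add_zero] at hpair
    have hWW : W'.map W.subtype = W := eq_of_le_of_not_lt (Submodule.map_subtype_le W W') (hWmin _ hpair)
    obtain ⟨c, hc⟩ := hW's g hg
    refine ⟨c, LinearMap.ext fun w => ?_⟩
    obtain ⟨w', hw', he⟩ := (hWW.ge w.2 : (w : V) ∈ W'.map W.subtype)
    rw [← show w' = w from Subtype.ext he]
    exact hc w' hw'
  -- the translates span
  set X := ⨆ i : ℕ, W.map (ρ (x ^ i)) with hX
  have hXtop : X = ⊤ := by
    refine (hirr X (fun g hg v hv => ?_) (fun v hv => ?_)).resolve_left fun h => hW0 ?_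
    · suffices hle : X ≤ X.comap (ρ g) from hle hv
      refine iSup_le fun i => ?_
      rintro _ ⟨w, hw, rfl⟩
      obtain ⟨g', hg'⟩ := (γ ^ i).surjective ⟨g, hg⟩
      refine Submodule.mem_iSup_of_mem i ⟨ρ' g' w, hWQ g' w hw, ?_⟩
      rw [← Module.End.mul_apply, ← hγρ, hg']
      rfl
    · suffices hle : X ≤ X.comap (ρ x) from hle hv
      refine iSup_le fun i => ?_
      rintro _ ⟨w, hw, rfl⟩
      exact Submodule.mem_iSup_of_mem (i + 1) ⟨w, hw, by rw [pow_succ', map_mul]; rfl⟩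
    · rw [eq_bot_iff] at h ⊢
      intro w hw
      exact h (Submodule.mem_iSup_of_mem 0 ⟨w, hw, by simp⟩)
  have hext : ∀ f g : End K V, (∀ (i : ℕ), ∀ w ∈ W, f (ρ (x ^ i) w) = g (ρ (x ^ i) w)) → f = g := by
    intro f g h
    refine LinearMap.ext fun v => ?_
    have : X ≤ LinearMap.eqLocus f g := iSup_le fun i => by
      rintro _ ⟨w, hw, rfl⟩; exact h i w hw
    exact this (hXtop ▸ Submodule.mem_top (x := v))
  have hglob : ∀ g : Q, (∀ (i : ℕ) (g' : Q), (γ ^ i) g' = g → g' ∈ scalarSub τ) → IsCentralImage ρ' g := by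
    intro g hg c
    refine hext _ _ fun i w hw => ?_
    obtain ⟨g', rfl⟩ := (γ ^ i).surjective g
    obtain ⟨c', rfl⟩ := (γ ^ i).surjective c
    obtain ⟨a, ha⟩ := hg i g' rfl
    have h1 : ∀ u ∈ W, ρ' ((γ ^ i) g') (ρ (x ^ i) u) = a • ρ (x ^ i) u := fun u hu => by
      rw [← Module.End.mul_apply, hγρ, Module.End.mul_apply, ← map_smul]
      congr 1
      exact congrArg Subtype.val (LinearMap.congr_fun ha ⟨u, hu⟩)
    have h2 : ρ' ((γ ^ i) c') (ρ (x ^ i) w) = ρ (x ^ i) (ρ' c' w) := by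
      rw [← Module.End.mul_apply, hγρ]; rfl
    rw [Module.End.mul_apply, Module.End.mul_apply, h2, h1 _ (hWQ c' w hw), h1 w hw, map_smul, h2]
  rcases eq_or_lt_of_le hkn with hkeq | hklt
  · -- a fixed vector
    obtain ⟨w, hw, hw0⟩ := W.ne_bot_iff.mp hW0
    refine hWsum w hw hw0 (hVfix _ ?_)
    rw [hkeq, map_sum]
    have h1 := Finset.sum_range_succ (fun i => ρ (x ^ i) w) N'
    rw [Finset.sum_range_succ' (fun i => ρ (x ^ i) w) N'] at h1
    rw [pow_zero, hxP] at h1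
    rw [← add_right_cancel h1]
    refine Finset.sum_congr rfl fun i _ => ?_
    rw [← Module.End.mul_apply, ← map_mul, ← pow_succ']
  have hPy : b ^ p ^ (n - 1 - k) = y := by
    rw [hb, hy, ← pow_mul, ← pow_add]; congr 2; omega
  have hβy : β ^ p ^ (n - 1 - k) = γ ^ p ^ (n - 1) := by
    rw [hβdef, ← pow_mul, ← pow_add]; congr 2; omega
  by_cases hnonab : scalarSub τ = ⊤
  · -- all scalars: `y` centralizes
    obtain ⟨g₀, hg₀, hne⟩ := hmove
    refine hne (hext _ _ fun i w hw => ?_)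
    obtain ⟨g, hg⟩ := (γ ^ i).surjective ⟨g₀, hg₀⟩
    obtain ⟨c, hc⟩ : g ∈ scalarSub τ := hnonab ▸ Subgroup.mem_top g
    have hyW : ∀ u ∈ W, ρ y u ∈ W := fun u hu => by
      rw [← hPy, ← hBk _ ⟨u, hu⟩]; exact Subtype.prop _
    have hcu : ∀ u ∈ W, ρ g₀ (ρ (x ^ i) u) = c • ρ (x ^ i) u := fun u hu => by
      rw [show ρ g₀ = ρ' ((γ ^ i) g) by rw [hg]; rfl, ← Module.End.mul_apply, hγρ, Module.End.mul_apply,
        ← map_smul]
      congr 1
      exact congrArg Subtype.val (LinearMap.congr_fun hc ⟨u, hu⟩)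
    have hyi : ∀ u : V, ρ y (ρ (x ^ i) u) = ρ (x ^ i) (ρ y u) := fun u => by
      rw [← Module.End.mul_apply, ← map_mul, (hxy.pow_left i).eq.symm, map_mul, Module.End.mul_apply]
    rw [Module.End.mul_apply, Module.End.mul_apply, hcu w hw, map_smul, hyi, hcu _ (hyW w hw)]
  -- the center of the image
  let C : Subgroup Q :=
    { carrier := {g | IsCentralImage ρ' g}
      one_mem' := fun c => by rw [map_one]; exact Commute.one_left _
      mul_mem' := fun {a b} ha hb c => by rw [map_mul]; exact (ha c).mul_left (hb c)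
      inv_mem' := fun {a} ha c => Commute.units_inv_left
        (u := ⟨ρ' a, ρ' a⁻¹, by rw [← map_mul]; simp, by rw [← map_mul]; simp⟩) (ha c) }
  haveI hCn : C.Normal := ⟨fun a ha g c => by
    have e : ρ' (g * a * g⁻¹) = ρ' a := by
      rw [map_mul, map_mul, (ha g).symm.eq, mul_assoc, ← map_mul, mul_inv_cancel, map_one, mul_one]
    rw [e]; exact ha c⟩
  have hCγ : C.map (γ : Q →* Q) = C := by
    refine Subgroup.eq_of_le_of_card_ge ?_ (Subgroup.card_map_of_injective γ.injective).ge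
    rintro _ ⟨a, ha, rfl⟩ c
    obtain ⟨c', rfl⟩ := γ.surjective c
    have hconj : ∀ z : Q, ρ' (γ z) = ρ x * ρ' z * ρ x⁻¹ := fun z => by
      show ρ (x * z * x⁻¹) = _
      rw [map_mul, map_mul]; rfl
    have hxi : ρ x⁻¹ * ρ x = 1 := by rw [← map_mul, inv_mul_cancel, map_one]
    show ρ' (γ a) * ρ' (γ c') = ρ' (γ c') * ρ' (γ a)
    rw [hconj, hconj]
    calc ρ x * ρ' a * ρ x⁻¹ * (ρ x * ρ' c' * ρ x⁻¹) = ρ x * (ρ' a * ρ' c') * ρ x⁻¹ := by
          simp only [mul_assoc]; rw [← mul_assoc (ρ x⁻¹) (ρ x), hxi, one_mul]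
      _ = _ := by
          rw [(ha c').eq]; simp only [mul_assoc]; rw [← mul_assoc (ρ x⁻¹) (ρ x), hxi, one_mul]
  have hCS : C ≤ scalarSub τ := fun g hg => hcent g fun c => LinearMap.ext fun w => Subtype.ext
    (LinearMap.congr_fun (hg c).eq (w : V))
  let γq : MulAut (Q ⧸ C) := QuotientGroup.congr C C γ hCγ
  have hγq : ∀ (l : ℕ) (g : Q), (γq ^ l) (QuotientGroup.mk g) = QuotientGroup.mk ((γ ^ l) g) := by
    intro l
    induction l with
    | zero => intro g; simp
    | succ l ih => intro g; rw [pow_succ', MulAut.mul_apply, ih, pow_succ' γ, MulAut.mul_apply]; rfl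
  -- `y` moves everything outside the center
  have hyfree : ∀ u : Q ⧸ C, (γq ^ p ^ (n - 1)) u = u → u = 1 := by
    let T : Subgroup G := ((((γq ^ p ^ (n - 1) : MulAut (Q ⧸ C)) : (Q ⧸ C) →* Q ⧸ C).eqLocus
      (MonoidHom.id _)).comap (QuotientGroup.mk' C)).map Q.subtype
    have hTmem : ∀ g : Q, (g : G) ∈ T ↔ (γq ^ p ^ (n - 1)) (QuotientGroup.mk g) = QuotientGroup.mk g := fun g => by
      constructor
      · rintro ⟨g', hg', e⟩
        rw [← Subtype.ext e]
        exact hg'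
      · exact fun h => ⟨g, h, rfl⟩
    have hTQ : T ≤ Q := Subgroup.map_subtype_le _
    have hTne : T ≠ Q := by
      intro hT
      refine hnonab (top_le_iff.mp fun g _ => hCS ?_)
      suffices hle : Q ≤ C.map Q.subtype by
        obtain ⟨g', hg', e⟩ := hle g.2
        rwa [← Subtype.ext e]
      refine hgen.ge.trans ((Subgroup.closure_le _).mpr ?_)
      rintro _ ⟨a, ha, rfl⟩
      have h1 := (hTmem ⟨a, ha⟩).mp (hT.ge ha)
      rw [hγq] at h1
      refine ⟨(⟨a, ha⟩ : Q)⁻¹ * (γ ^ p ^ (n - 1)) ⟨a, ha⟩, QuotientGroup.eq.mp h1.symm, ?_⟩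
      show ((((⟨a, ha⟩ : Q)⁻¹ * (γ ^ p ^ (n - 1)) ⟨a, ha⟩ : Q)) : G) = a⁻¹ * (y * a * y⁻¹)
      rw [Subgroup.coe_mul, Subgroup.coe_inv, hγ]
    have hTx : Normalizes x T := by
      intro g hg
      have h1 := (hTmem ⟨g, hTQ hg⟩).mp hg
      refine (hTmem ⟨x * g * x⁻¹, hxQ g (hTQ hg)⟩).mpr ?_
      have e : (QuotientGroup.mk (⟨x * g * x⁻¹, hxQ g (hTQ hg)⟩ : Q) : Q ⧸ C) =
          γq (QuotientGroup.mk ⟨g, hTQ hg⟩) := rfl
      rw [e, ← MulAut.mul_apply, ← pow_succ, pow_succ', MulAut.mul_apply, h1]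
    have hTn : ∀ c ∈ Q, ∀ t ∈ T, c * t * c⁻¹ ∈ T := by
      intro c hc t ht
      have h1 := (hTmem ⟨t, hTQ ht⟩).mp ht
      refine (hTmem (⟨c, hc⟩ * ⟨t, hTQ ht⟩ * ⟨c, hc⟩⁻¹)).mpr ?_
      have e : (QuotientGroup.mk ((⟨c, hc⟩ : Q) * ⟨t, hTQ ht⟩ * ⟨c, hc⟩⁻¹) : Q ⧸ C) =
          QuotientGroup.mk (⟨t, hTQ ht⟩ : Q) := by
        refine QuotientGroup.eq.mpr ?_
        rw [show ((⟨c, hc⟩ : Q) * ⟨t, hTQ ht⟩ * ⟨c, hc⟩⁻¹)⁻¹ * ⟨t, hTQ ht⟩ =
          ⁅(⟨c, hc⟩ : Q), (⟨t, hTQ ht⟩ : Q)⁻¹⁆ by rw [commutatorElement_def]; group]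
        exact hcomm _ _
      rw [e, h1]
    have hTy : ∀ t ∈ T, Commute (ρ y) (ρ t) := fun t ht => by
      by_contra hc
      exact hmin T hTQ hTne hTx ⟨t, ht, hc⟩
    intro u hu
    obtain ⟨g, rfl⟩ := QuotientGroup.mk'_surjective C u
    exact (QuotientGroup.eq_one_iff g).mpr fun c =>
      commute_of_centralized hgen hTn hTy g ((hTmem g).mpr hu) c c.2
  -- elements fixed by a nontrivial power of `b` modulo the scalars
  have hSβ : ∀ (l : ℕ) (h : Q), h ∈ scalarSub τ → (β ^ l) h ∈ scalarSub τ := by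
    intro l
    induction l with
    | zero => intro h hh; simpa using hh
    | succ l ih =>
      intro h hh
      rw [pow_succ, MulAut.mul_apply]
      refine ih _ ?_
      obtain ⟨c, hc⟩ := hh
      have hBB : B * B ^ (P - 1) = 1 := by
        rw [← pow_succ', Nat.sub_add_cancel (Nat.pow_pos hp.out.pos), hBP]
      refine ⟨c, ?_⟩
      calc τ (β h) = τ (β h) * B * B ^ (P - 1) := by rw [mul_assoc, hBB, mul_one]
        _ = _ := by rw [← hβτ, hc, mul_smul_comm, mul_one, smul_mul_assoc, hBB]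
  have hP2 : 2 ≤ P := le_trans hp.out.two_le (Nat.le_self_pow (by omega) p)
  have hfree : ∀ (l : ℕ) (h : Q), h⁻¹ * (β ^ l) h ∈ scalarSub τ → P ∣ l ∨ h ∈ scalarSub τ := by
    intro l h hh
    refine or_iff_not_imp_left.mpr fun hl => ?_
    obtain ⟨v, hv, hve⟩ := (Nat.dvd_prime_pow hp.out).mp (Nat.gcd_dvd_right l P)
    have hvlt : v < n - k := by
      rcases lt_or_eq_of_le hv with h | h
      · exact h
      · exact absurd (by rw [h, ← hPdef] at hve; have := Nat.gcd_dvd_left l P; rwa [hve] at this) hl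
    obtain ⟨t, ht⟩ : ∃ t : ℕ, (β ^ l) ^ t = β ^ p ^ (n - 1 - k) := by
      have h1 : β ^ p ^ v ∈ Subgroup.zpowers (β ^ l) := by
        refine ⟨Nat.gcdA l P, ?_⟩
        show (β ^ l) ^ Nat.gcdA l P = β ^ p ^ v
        rw [← zpow_natCast β (p ^ v), ← hve, Nat.gcd_eq_gcd_ab l P, zpow_add, zpow_mul, zpow_mul, zpow_natCast,
          zpow_natCast, hβP, one_zpow, mul_one]
      have h2 : β ^ p ^ (n - 1 - k) ∈ Subgroup.zpowers (β ^ l) := by
        rw [show p ^ (n - 1 - k) = p ^ v * p ^ (n - 1 - k - v) by rw [← pow_add]; congr 1; omega, pow_mul]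
        exact pow_mem h1 _
      exact mem_powers_iff_mem_zpowers.mpr h2
    have hall : ∀ t : ℕ, h⁻¹ * ((β ^ l) ^ t) h ∈ scalarSub τ := by
      intro t
      induction t with
      | zero => simp
      | succ t ih =>
        rw [pow_succ', MulAut.mul_apply, show h⁻¹ * (β ^ l) (((β ^ l) ^ t) h) =
          (h⁻¹ * (β ^ l) h) * (β ^ l) (h⁻¹ * ((β ^ l) ^ t) h) by rw [map_mul, map_inv]; group]
        exact mul_mem hh (hSβ l _ ih)
    have hy' := hall t
    rw [ht] at hy'
    set a := β ^ p ^ (n - 1 - k) with hadef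
    let φ : Q ⧸ C → Q ⧸ C := fun u => u⁻¹ * (γq ^ p ^ (n - 1)) u
    have hφinj : Function.Injective φ := fun u v e => by
      refine (mul_inv_eq_one.mp (hyfree _ ?_)).symm
      have e' : u⁻¹ * (γq ^ p ^ (n - 1)) u = v⁻¹ * (γq ^ p ^ (n - 1)) v := e
      rw [map_mul, map_inv]
      calc (γq ^ p ^ (n - 1)) v * ((γq ^ p ^ (n - 1)) u)⁻¹
          = v * (v⁻¹ * (γq ^ p ^ (n - 1)) v) * (u⁻¹ * (γq ^ p ^ (n - 1)) u)⁻¹ * u⁻¹ := by group
        _ = _ := by rw [e', mul_inv_cancel_right]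
    set S' := (scalarSub τ).map (QuotientGroup.mk' C) with hS'
    have hφS : ∀ u ∈ S', φ u ∈ S' := by
      rintro _ ⟨s, hs, rfl⟩
      refine ⟨s⁻¹ * a s, mul_mem (inv_mem hs) (hSβ _ s hs), ?_⟩
      show _ = (QuotientGroup.mk s)⁻¹ * (γq ^ p ^ (n - 1)) (QuotientGroup.mk s)
      rw [hγq, hβy]
      rfl
    obtain ⟨⟨s, hs⟩, hse⟩ := Finite.surjective_of_injective
      (f := fun u : S' => (⟨φ u, hφS u u.2⟩ : S')) (fun u v e => Subtype.ext (hφinj (congrArg Subtype.val e)))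
      ⟨φ (QuotientGroup.mk h), ⟨_, hy', by
        show _ = (QuotientGroup.mk h)⁻¹ * (γq ^ p ^ (n - 1)) (QuotientGroup.mk h)
        rw [hγq, hβy]; rfl⟩⟩
    obtain ⟨s', hs', e⟩ : (QuotientGroup.mk h : Q ⧸ C) ∈ S' := hφinj (congrArg Subtype.val hse) ▸ hs
    have := mul_mem hs' (hCS (QuotientGroup.eq.mp e))
    rwa [mul_inv_cancel_left] at this
  have hscal : ∀ g h : Q, ∃ c : K, τ ⁅g, h⁆ = c • 1 := fun g h => hCS (hcomm g h)
  obtain ⟨e, he⟩ := hQ.exists_card_eq
  rcases fixed_or_exceptional τ (by rw [he, Nat.cast_pow]; exact pow_ne_zero _ hqK) β B hβτ hP2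
      (by rw [hPdef, Nat.cast_pow]; exact pow_ne_zero _ hpK) hBP hscal hcent hnonab hfree with
    ⟨w, hw0, hwB⟩ | ⟨dd, hdd, hdP⟩
  · -- a fixed vector
    refine hWsum w w.2 (fun h => hw0 (Subtype.ext h)) (hVfix _ ?_)
    have hbw : ρ (x ^ p ^ k) w = w := congrArg Subtype.val hwB
    rw [map_sum]
    have h1 := Finset.sum_range_succ (fun i => ρ (x ^ i) (w : V)) (p ^ k)
    rw [Finset.sum_range_succ' (fun i => ρ (x ^ i) (w : V)) (p ^ k), hbw, pow_zero, map_one,
      Module.End.one_apply] at h1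
    rw [← add_right_cancel h1]
    refine Finset.sum_congr rfl fun i _ => ?_
    rw [← Module.End.mul_apply, ← map_mul, ← pow_succ']
  -- the exceptional case: `q = 2` and `P = 2 ^ r + 1`
  obtain ⟨ee, hee⟩ := hQ.index (scalarSub τ)
  obtain ⟨r, -, hr⟩ := (Nat.dvd_prime_pow hq.out).mp (hee ▸ Dvd.intro dd hdd : dd ∣ q ^ ee)
  have hr1 : 1 ≤ r := by
    rcases Nat.eq_zero_or_pos r with rfl | h
    · exfalso
      have hpo : Odd P := (hp.out.odd_of_ne_two hp2).pow
      rw [← hdP, hr] at hpo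
      norm_num at hpo
    · exact h
  have hq2 : q = 2 := by
    have hpo : Odd P := (hp.out.odd_of_ne_two hp2).pow
    rw [← hdP, hr, Nat.odd_add_one, Nat.not_odd_iff_even] at hpo
    exact ((Nat.prime_dvd_prime_iff_eq Nat.prime_two hq.out).mp
      (Nat.prime_two.dvd_of_dvd_pow hpo.two_dvd)).symm
  exact hq2ne hq2

end Cfsg.Agent.SolvableSignalizer
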