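import Cfsg.Agent.Lib.SolvableSignalizer.Nodes
import Cfsg.Agent.Lib.Cores.Nilpotent

/-!
Small tools used in the analysis of colours.
-/

set_option autoImplicit false
set_option linter.style.haveILetI false
set_option linter.unusedSectionVars false

namespace Cfsg.Agent.SolvableSignalizer

open Subgroup
open Cfsg.Agent.Components
open scoped Pointwise

universe u

variable {G : Type u} [Group G] {r : ℕ} {A : Subgroup G} {θ : G → Subgroup G}

/-- Three subgroups: if `Q` is centralised by `S` and normalised by `R`, `⁅R, S⁆` centralises it. -/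
lemma commutator_le_centralizer_of_normalizes {R S Q : Subgroup G}
    (hR : R ≤ normalizer (Q : Set G)) (hS : S ≤ centralizer (Q : Set G)) :
    ⁅R, S⁆ ≤ centralizer (Q : Set G) := by
  rw [← commutator_eq_bot_iff_le_centralizer]
  have h1 : ⁅⁅Q, R⁆, S⁆ = ⊥ := le_bot_iff.mp
    ((commutator_mono (Coprime.commutator_le_of_le_normalizer hR) le_rfl).trans
      (Coprime.commutator_eq_bot_iff_le_centralizer'.mpr hS).le)
  have h2 : ⁅⁅S, Q⁆, R⁆ = ⊥ := by
    rw [commutator_eq_bot_iff_le_centralizer.mpr hS, commutator_bot_left]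
  exact commutator_commutator_eq_bot_of_rotate h2 h1

variable [Finite G]

/-- A `p`-group has nontrivial fixed points on a nontrivial `p`-group it normalises. -/
lemma inf_centralizer_ne_bot {p : ℕ} [Fact p.Prime] {U Y : Subgroup G} (hU : IsPGroup p U)
    (hY : IsPGroup p Y) (hn : Y ≤ normalizer (U : Set G)) (hU1 : U ≠ ⊥) :
    U ⊓ centralizer (Y : Set G) ≠ ⊥ := by
  set T := U ⊔ Y
  haveI := (hU.to_sup_of_normal_left' hY hn).isNilpotent
  haveI : (U.subgroupOf T).Normal :=
    normal_subgroupOf_of_le_normalizer (sup_le le_normalizer hn)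
  have hne : U.subgroupOf T ≠ ⊥ := fun e => hU1 (by
    have h1 := congrArg (Subgroup.map T.subtype) e
    rwa [subgroupOf_map_subtype, inf_eq_left.mpr le_sup_left, Subgroup.map_bot] at h1)
  obtain ⟨z, hz, hz1⟩ := (ne_bot_iff_exists_ne_one (H := U.subgroupOf T ⊓ center T)).mp
    (Cores.inf_center_ne_bot hne) |> fun ⟨z, hz⟩ => (⟨z.1, z.2, fun e => hz (Subtype.ext e)⟩ :
      ∃ z : T, z ∈ U.subgroupOf T ⊓ center T ∧ z ≠ 1)
  refine fun e => hz1 (Subtype.ext (mem_bot.mp (e.le (mem_inf.mpr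
    ⟨mem_subgroupOf.mp hz.1, mem_centralizer_iff.mpr fun y hy => ?_⟩))))
  exact congrArg Subtype.val (mem_center_iff.mp hz.2 ⟨y, mem_sup_right hy⟩)

/-- Pieces of different cores that lie in each other's subgroups commute. -/
lemma le_centralizer_of_mutual {s t : ℕ} (hs : s.Prime) (ht : t.Prime) (hne : s ≠ t)
    {S T X Y : Subgroup G} (hS : S ≤ Cfsg.pCoreOf s X) (hT : T ≤ Cfsg.pCoreOf t Y) (hSY : S ≤ Y)
    (hTX : T ≤ X) : S ≤ centralizer (T : Set G) := by
  rw [← commutator_eq_bot_iff_le_centralizer, ← le_bot_iff,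
    ← inf_eq_bot_of_pgroup hs ht hne (pCoreOf_isPGroup s X) (pCoreOf_isPGroup t Y)]
  refine le_inf ((commutator_mono hS hTX).trans
    (Coprime.commutator_le_of_le_normalizer (le_normalizer_pCoreOf s X))) ?_
  rw [commutator_comm]
  exact (commutator_mono hT hSY).trans
    (Coprime.commutator_le_of_le_normalizer (le_normalizer_pCoreOf t Y))

/-- If `F(K)` and `O_q(M) ≤ K` lie in `M`, then `O_q(M) ∩ O_q(K) ≠ 1`. -/
lemma pCore_inf_pCore_ne_bot {q : ℕ} {M K : Subgroup G} (hq : InFit q M)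
    (hK : Group.IsSolvable K) (hFK : fitOf K ≤ M) (hle : Cfsg.pCoreOf q M ≤ K) :
    Cfsg.pCoreOf q M ⊓ Cfsg.pCoreOf q K ≠ ⊥ := by
  haveI := Fact.mk hq.1
  intro hbot
  set P := Cfsg.pCoreOf q M
  have hcomm : ∀ u : ℕ, u.Prime → P ≤ centralizer ((Cfsg.pCoreOf u K : Subgroup G) : Set G) := by
    intro u hu
    rw [← commutator_eq_bot_iff_le_centralizer, ← le_bot_iff]
    have h1 : ⁅P, Cfsg.pCoreOf u K⁆ ≤ P := Coprime.commutator_le_of_le_normalizer
      ((pCoreOf_le_of_fitOf_le hFK hu).trans (le_normalizer_pCoreOf q M))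
    have h2 : ⁅P, Cfsg.pCoreOf u K⁆ ≤ Cfsg.pCoreOf u K := by
      rw [commutator_comm]
      exact Coprime.commutator_le_of_le_normalizer (hle.trans (le_normalizer_pCoreOf u K))
    by_cases huq : u = q
    · subst huq
      exact (le_inf h1 h2).trans hbot.le
    · exact (le_inf h1 h2).trans (inf_eq_bot_of_pgroup hq.1 hu (Ne.symm huq)
        (pCoreOf_isPGroup q M) (pCoreOf_isPGroup u K)).le
  have hPF : P ≤ fitOf K := fun x hx => inf_centralizer_fitOf_le hK
    ⟨hle hx, centralizer_fitOf_of_forall fun u hu => hcomm u hu hx⟩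
  rw [inf_eq_left.mpr (pgroup_fitOf_le hPF (pCoreOf_isPGroup q M))] at hbot
  exact hq.2 hbot

namespace Minimal

variable (h : Minimal r A θ)
include h

lemma inFit_ne {M : Subgroup G} (hM : M ∈ Cfsg.signalizerFamily r A θ) {q : ℕ}
    (hq : InFit q M) : r ≠ q := by
  rintro rfl
  haveI := Fact.mk hq.1
  obtain ⟨k, hk⟩ := (pCoreOf_isPGroup r M).exists_card_eq
  have hk0 : k ≠ 0 := fun e => hq.2 (card_eq_one.mp (by rw [hk, e, pow_zero]))
  exact hM.2.1 ((hk ▸ dvd_pow_self r hk0).trans (card_dvd_of_le (pCoreOf_le r M)))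

lemma plane_ne_one {E : Subgroup G} (hE : IsPlane r A E) : ∃ e ∈ E, e ≠ 1 := by
  by_contra hc
  push Not at hc
  have := hE.card
  rw [(eq_bot_iff_forall E).mpr hc, card_bot] at this
  exact absurd (Nat.one_lt_pow (n := 2) (by norm_num) h.prime.one_lt) (by omega)

lemma exists_off_line {E : Subgroup G} (hE : IsPlane r A E) (f : G) (hf : f ∈ E) :
    ∃ e ∈ E, e ∉ zpowers f := by
  by_contra hc
  push Not at hc
  have h1 := card_le_of_le (hc : E ≤ zpowers f)
  rw [hE.card, Nat.card_zpowers] at h1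
  have h2 := Nat.le_of_dvd h.prime.pos (orderOf_dvd_of_pow_eq_one (h.elem.2 f (hE.le hf)))
  nlinarith [h.prime.one_lt]

lemma zpowers_eq {E : Subgroup G} (hE : E ≤ A) {a b : G} (hb : b ∈ E) (hb1 : b ≠ 1)
    (hba : b ∈ zpowers a) (ha : a ∈ E) (ha1 : a ≠ 1) : zpowers b = zpowers a := by
  haveI := h.fact
  refine eq_of_le_of_card_ge (zpowers_le.mpr hba) ?_
  rw [Nat.card_zpowers, Nat.card_zpowers, Hyperplane.orderOf_eq h.elem (hE ha) ha1,
    Hyperplane.orderOf_eq h.elem (hE hb) hb1]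

lemma centralizer_plane_le {E : Subgroup G} (hE : IsPlane r A E) :
    Cfsg.signalizerInf E θ ≤ centralizer (E : Set G) :=
  Signalizer.inf_le_centralizer h.func hE.le

lemma plane_inf_mem {E : Subgroup G} (hE : IsPlane r A E) :
    Cfsg.signalizerInf E θ ∈ Cfsg.signalizerFamily r A θ := by
  refine Signalizer.inf_mem h.func hE.le fun e => ?_
  obtain ⟨x, hx, hx1⟩ := h.plane_ne_one hE
  rw [e, mem_bot] at hx
  exact hx1 hx

lemma op_le_normalizer_zpowers {a : G} (ha : a ∈ A) :
    op A θ ≤ normalizer ((zpowers a : Subgroup G) : Set G) := by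
  refine le_trans ?_ (centralizer_le_normalizer _)
  refine sup_le (fun b hb => mem_centralizer_iff.mpr fun z hz => ?_)
    (h.core_le_centralizer.trans (centralizer_le (zpowers_le.mpr ha)))
  exact Hyperplane.mem_comm h.elem ((zpowers_le.mpr ha) hz) hb

lemma plane_inf_le_normalizer_zpowers {E : Subgroup G} (hE : IsPlane r A E) {a : G} (ha : a ∈ E) :
    Cfsg.signalizerInf E θ ≤ normalizer ((zpowers a : Subgroup G) : Set G) :=
  (h.centralizer_plane_le hE).trans
    ((centralizer_le (zpowers_le.mpr ha)).trans (centralizer_le_normalizer _))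

/-- A member meeting `C(a)` trivially for all `a` of a plane is trivial. -/
lemma exists_fixed_of_plane {E U : Subgroup G} (hE : IsPlane r A E)
    (hU : U ∈ Cfsg.signalizerFamily r A θ) (hU1 : U ≠ ⊥) :
    ∃ a ∈ E, a ≠ 1 ∧ U ⊓ centralizer {a} ≠ ⊥ := by
  by_contra hc
  push Not at hc
  exact hU1 (le_bot_iff.mp (h.le_of_plane hE hU fun a ha ha1 => (hc a ha ha1).le))

end Minimal

end Cfsg.Agent.SolvableSignalizer
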