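import Cfsg.Agent.Lib.SolvableSignalizer.Basic
import Cfsg.Agent.GenA.InvariantHall

/-!
The largest invariant `u`-member, and the largest invariant member of order prime to `v`.
-/

set_option autoImplicit false
set_option linter.style.haveILetI false
set_option linter.unusedSectionVars false

namespace Cfsg.Agent.SolvableSignalizer

open Subgroup
open Cfsg.Agent.Components
open scoped Pointwise

universe u

variable {G : Type u} [Group G] [Finite G] {r : ℕ} {A : Subgroup G} {θ : G → Subgroup G}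

/-- The intersection of the maximal `u`-members. -/
def wCore (r : ℕ) (q : ℕ) (A : Subgroup G) (θ : G → Subgroup G) : Subgroup G :=
  ⨅ Q : {Q : Subgroup G // Signalizer.IsMaxQ r q A θ Q}, (Q : Subgroup G)

namespace Minimal

variable (h : Minimal r A θ)
include h

lemma bot_mem : (⊥ : Subgroup G) ∈ Cfsg.signalizerFamily r A θ :=
  Signalizer.member_of_le h.core_mem bot_le (fun _ _ => mem_normalizer_iff.mpr fun x => by simp)

lemma exists_maxQ (q : ℕ) : ∃ Q, Signalizer.IsMaxQ r q A θ Q := by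
  obtain ⟨Q, -, hQ⟩ := Signalizer.exists_isMaxQ_ge (q := q) h.bot_mem IsPGroup.of_bot
  exact ⟨Q, hQ⟩

lemma wCore_isPGroup (q : ℕ) : IsPGroup q (wCore r q A θ) := by
  obtain ⟨Q, hQ⟩ := h.exists_maxQ q
  exact hQ.2.1.to_le (iInf_le_of_le ⟨Q, hQ⟩ le_rfl)

lemma wCore_isXA (q : ℕ) : IsXA r A θ (wCore r q A θ) := by
  obtain ⟨Q, hQ⟩ := h.exists_maxQ q
  have hA : A ≤ normalizer ((wCore r q A θ : Subgroup G) : Set G) := by
    refine Signalizer.le_normalizer_of_inv fun b hb x hx => ?_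
    rw [wCore, mem_iInf] at hx ⊢
    exact fun R => R.2.1.2.2.1 b hb x (hx R)
  refine ⟨Signalizer.member_of_le hQ.1 (iInf_le_of_le ⟨Q, hQ⟩ le_rfl) hA,
    op_le_normalizer hA fun c hc => mem_normalizer_iff.mpr fun x => ?_⟩
  have key : ∀ c ∈ Cfsg.signalizerInf A θ, ∀ x ∈ wCore r q A θ, c * x * c⁻¹ ∈ wCore r q A θ := by
    intro c hc x hx
    rw [wCore, mem_iInf] at hx ⊢
    intro R
    have h1 := hx ⟨_, Signalizer.isMaxQ_conj h.func R.2 ((Cfsg.signalizerInf A θ).inv_mem hc)⟩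
    rw [Coprime.mem_conj_smul, inv_inv] at h1
    exact h1
  exact ⟨key c hc x, fun hx => by
    simpa [mul_assoc] using key c⁻¹ ((Cfsg.signalizerInf A θ).inv_mem hc) _ hx⟩

lemma le_wCore {q : ℕ} [Fact q.Prime] {V : Subgroup G} (hV : IsXA r A θ V) (hVq : IsPGroup q V) :
    V ≤ wCore r q A θ := by
  haveI := h.fact
  obtain ⟨Q₀, hVQ, hQ₀⟩ := Signalizer.exists_isMaxQ_ge hV.mem hVq
  refine le_iInf fun Q => ?_
  obtain ⟨c, hc, e⟩ := Signalizer.exists_conj_eq h.elem h.cube_le h.func hQ₀ Q.2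
  rw [← e, ← Coprime.conj_smul_eq_self_iff.mpr (hV.le_normalizer_op hc)]
  exact pointwise_smul_le_pointwise_smul_iff.mpr hVQ

lemma pCoreOf_le_wCore {q : ℕ} [Fact q.Prime] {M : Subgroup G} (hM : IsXA r A θ M) :
    Cfsg.pCoreOf q M ≤ wCore r q A θ :=
  h.le_wCore (hM.pCoreOf q) (pCoreOf_isPGroup q M)

/-- A prime dividing a member divides some `θ a`. -/
lemma exists_theta_dvd {v : ℕ} [hv : Fact v.Prime] {M : Subgroup G}
    (hM : M ∈ Cfsg.signalizerFamily r A θ) (hd : v ∣ Nat.card M) :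
    ∃ a ∈ A, a ≠ 1 ∧ v ∣ Nat.card (θ a) := by
  haveI := h.fact
  obtain ⟨S, hS⟩ := Coprime.exists_invariant_sylow v (Signalizer.member_normalizer hM)
    (Signalizer.coprime_member h.elem hM.2.1) (Or.inr hM.1)
  have hSm := Signalizer.member_of_le hM (map_subtype_le (S : Subgroup M)) hS
  by_contra hc
  push Not at hc
  have hbot : (S : Subgroup M).map M.subtype ≤ ⊥ := h.le_of_forall hSm fun a ha ha1 => by
    rintro x ⟨hx, hxa⟩
    have hxθ := hSm.2.2.2 a ha ha1 ⟨hx, hxa⟩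
    by_contra hx1
    refine hc a ha ha1 ?_
    obtain ⟨k, hk⟩ := (S.isPGroup'.map M.subtype) ⟨x, hx⟩
    have hk' : x ^ v ^ k = 1 := congrArg Subtype.val hk
    obtain ⟨j, -, hj⟩ := (Nat.dvd_prime_pow hv.out).mp (orderOf_dvd_of_pow_eq_one hk')
    have hj0 : j ≠ 0 := fun e => hx1 (by
      rw [e, pow_zero, orderOf_eq_one_iff] at hj; exact hj ▸ rfl)
    exact (dvd_pow_self v hj0).trans (hj ▸ Subgroup.orderOf_dvd_natCard _ hxθ)
  have h1 := S.dvd_card_of_dvd_card hd
  rw [← card_subtype M (S : Subgroup M), le_bot_iff.mp hbot, card_bot] at h1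
  exact hv.out.not_dvd_one h1

/-- The largest invariant subgroup of `θ a` of order prime to `v`. -/
def psi (_h : Minimal r A θ) (v : ℕ) (a : G) : Subgroup G :=
  sSup {V | V ≤ θ a ∧ op A θ ≤ normalizer (V : Set G) ∧ ¬ v ∣ Nat.card V}

omit h in
lemma _root_.Cfsg.Agent.SolvableSignalizer.isPiHallOf_compl_dvd {v : ℕ} (hv : v.Prime)
    {H K : Subgroup G} (hH : Cfsg.IsPiHallOf {q | q ≠ v} H K) : ¬ v ∣ Nat.card H :=
  fun hd => hH.2.1 v hv hd rfl

lemma psi_spec {v : ℕ} (hv : v.Prime) {a : G} (ha : a ∈ A) (ha1 : a ≠ 1) :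
    h.psi v a ≤ θ a ∧ op A θ ≤ normalizer ((h.psi v a : Subgroup G) : Set G) ∧
      ¬ v ∣ Nat.card (h.psi v a) := by
  haveI := h.fact
  refine ⟨sSup_le fun V hV => hV.1, ?_, ?_⟩
  · intro g hg
    rw [← Coprime.conj_smul_eq_self_iff]
    have key : ∀ g ∈ op A θ, MulAut.conj g • h.psi v a ≤ h.psi v a := by
      intro g hg
      rw [psi, sSup_eq_iSup', Coprime.conj_smul_eq_map, Subgroup.map_iSup]
      refine iSup_le fun V => ?_
      rw [← Coprime.conj_smul_eq_map, Coprime.conj_smul_eq_self_iff.mpr (V.2.2.1 hg)]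
      exact le_iSup (fun V : {V : Subgroup G // V ≤ θ a ∧ op A θ ≤ normalizer (V : Set G) ∧
        ¬ v ∣ Nat.card V} => (V : Subgroup G)) V
    refine le_antisymm (key g hg) ?_
    conv_lhs => rw [← Coprime.conj_smul_one (h.psi v a), ← mul_inv_cancel g, Coprime.conj_smul_mul]
    exact pointwise_smul_le_pointwise_smul_iff.mpr (key g⁻¹ (inv_mem hg))
  · have hm := Signalizer.theta_mem h.func ha ha1
    have hcop := Signalizer.coprime_member h.elem hm.2.1
    obtain ⟨H, hH, hAH⟩ := GenA.InvariantHall.exists_invariant (π := {q | q ≠ v}) A (θ a)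
      (Signalizer.member_normalizer hm) hcop hm.1
    have hle : h.psi v a ≤ H := sSup_le fun V ⟨hVθ, hVn, hVd⟩ => by
      obtain ⟨H', hH', hAH', hVH'⟩ := GenA.InvariantHall.exists_ge (π := {q | q ≠ v}) A _ (θ a) V
        le_rfl (Signalizer.member_normalizer hm) hcop hm.1 hVθ (le_op_left.trans hVn)
        (fun q _ hd e => hVd (e ▸ hd))
      obtain ⟨c, hc, e⟩ := GenA.InvariantHall.exists_conj A (θ a) (Signalizer.member_normalizer hm)
        hcop hm.1 hH' hAH' hH hAH
      rw [← e, ← Coprime.conj_smul_eq_self_iff.mpr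
        ((core_le_op.trans hVn) (Signalizer.member_inf_centralizer_le hm le_rfl hc))]
      exact pointwise_smul_le_pointwise_smul_iff.mpr hVH'
    exact fun hd => isPiHallOf_compl_dvd hv hH (hd.trans (card_dvd_of_le hle))

lemma le_psi {v : ℕ} {a : G} {V : Subgroup G} (hle : V ≤ θ a)
    (hn : op A θ ≤ normalizer (V : Set G)) (hd : ¬ v ∣ Nat.card V) : V ≤ h.psi v a :=
  le_sSup ⟨hle, hn, hd⟩

lemma op_le_normalizer_centralizer {b : G} (hb : b ∈ A) :
    op A θ ≤ normalizer ((centralizer ({b} : Set G) : Subgroup G) : Set G) := by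
  refine le_trans (sup_le ?_ ?_) le_normalizer
  · exact fun a ha => mem_centralizer_singleton_iff.mpr (Hyperplane.mem_comm h.elem ha hb)
  · exact h.core_le_centralizer.trans (centralizer_le (Set.singleton_subset_iff.mpr hb))

/-- The largest invariant member of order prime to `v`, for `v` dividing some member. -/
lemma exists_coprime_closure {v : ℕ} [hv : Fact v.Prime] {M : Subgroup G}
    (hM : M ∈ Cfsg.signalizerFamily r A θ) (hd : v ∣ Nat.card M) :
    ∃ K, IsXA r A θ K ∧ ¬ v ∣ Nat.card K ∧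
      ∀ V, IsXA r A θ V → ¬ v ∣ Nat.card V → V ≤ K := by
  haveI := h.fact
  have hspec := fun a (ha : a ∈ A) (ha1 : a ≠ 1) => h.psi_spec hv.out ha ha1
  have hfun : Cfsg.IsSolvableSignalizerFunctor r A (h.psi v) := by
    refine ⟨⟨fun a ha ha1 => (hspec a ha ha1).1.trans (h.func.1.1 a ha ha1),
      fun a ha ha1 hd => h.func.1.2.1 a ha ha1 (hd.trans (card_dvd_of_le (hspec a ha ha1).1)),
      fun a ha ha1 => Signalizer.inv_of_le_normalizer (le_op_left.trans (hspec a ha ha1).2.1),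
      fun a ha ha1 b hb hb1 => h.le_psi ?_ ?_ ?_⟩,
      fun a ha ha1 => Coprime.isSolvable_of_le (hspec a ha ha1).1 (h.func.2 a ha ha1)⟩
    · exact (inf_le_inf_right _ (hspec a ha ha1).1).trans (h.func.1.2.2.2 a ha ha1 b hb hb1)
    · exact le_normalizer_inf (hspec a ha ha1).2.1 (h.op_le_normalizer_centralizer hb)
    · exact fun hd => (hspec a ha ha1).2.2 (hd.trans (card_dvd_of_le inf_le_left))
  obtain ⟨a, ha, ha1, hva⟩ := h.exists_theta_dvd hM hd
  obtain ⟨K, hK, hKθ⟩ := h.functor_ind (h.psi v) hfun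
    (size_lt (fun b hb hb1 => (hspec b hb hb1).1) ha ha1
      fun hle => (hspec a ha ha1).2.2 (hva.trans (card_dvd_of_le hle)))
  have hKm : K ∈ Cfsg.signalizerFamily r A θ :=
    ⟨hK.1, hK.2.1, hK.2.2.1, fun b hb hb1 => (hK.2.2.2 b hb hb1).trans (hspec b hb hb1).1⟩
  have hKeq : K = ⨆ b : {b : G // b ∈ A ∧ b ≠ 1}, h.psi v b := by
    refine le_antisymm (h.le_of_forall hKm fun b hb hb1 => (hK.2.2.2 b hb hb1).trans
      (le_iSup (fun b : {b : G // b ∈ A ∧ b ≠ 1} => h.psi v b) ⟨b, hb, hb1⟩)) ?_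
    exact iSup_le fun b => hKθ b b.2.1 b.2.2
  refine ⟨K, ⟨hKm, ?_⟩, ?_, fun V hV hVd => ?_⟩
  · rw [hKeq]
    intro g hg
    rw [← Coprime.conj_smul_eq_self_iff, Coprime.conj_smul_eq_map, Subgroup.map_iSup]
    refine iSup_congr fun b => ?_
    rw [← Coprime.conj_smul_eq_map]
    exact Coprime.conj_smul_eq_self_iff.mpr ((hspec b b.2.1 b.2.2).2.1 hg)
  · intro hdK
    obtain ⟨S, hS⟩ := Coprime.exists_invariant_sylow v (Signalizer.member_normalizer hKm)
      (Signalizer.coprime_member h.elem hKm.2.1) (Or.inr hKm.1)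
    have hSm := Signalizer.member_of_le hKm (map_subtype_le (S : Subgroup K)) hS
    have hbot : (S : Subgroup K).map K.subtype ≤ ⊥ := h.le_of_forall hSm fun b hb hb1 => by
      rintro x ⟨hx, hxb⟩
      by_contra hx1
      refine (hspec b hb hb1).2.2 ?_
      have hxψ : x ∈ h.psi v b := hK.2.2.2 b hb hb1 ⟨map_subtype_le _ hx, hxb⟩
      obtain ⟨k, hk⟩ := (S.isPGroup'.map K.subtype) ⟨x, hx⟩
      have hk' : x ^ v ^ k = 1 := congrArg Subtype.val hk
      obtain ⟨j, -, hj⟩ := (Nat.dvd_prime_pow hv.out).mp (orderOf_dvd_of_pow_eq_one hk')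
      have hj0 : j ≠ 0 := fun e => hx1 (by
        rw [e, pow_zero, orderOf_eq_one_iff] at hj; exact hj ▸ rfl)
      exact (dvd_pow_self v hj0).trans (hj ▸ Subgroup.orderOf_dvd_natCard _ hxψ)
    have h1 := S.dvd_card_of_dvd_card hdK
    rw [← card_subtype K (S : Subgroup K), le_bot_iff.mp hbot, card_bot] at h1
    exact hv.out.not_dvd_one h1
  · refine h.le_of_forall hV.mem fun b hb hb1 => le_trans (h.le_psi (v := v) ?_ ?_ ?_) (hKθ b hb hb1)
    · exact hV.mem.2.2.2 b hb hb1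
    · exact le_normalizer_inf hV.norm (h.op_le_normalizer_centralizer hb)
    · exact fun hd => hVd (hd.trans (card_dvd_of_le inf_le_left))

end Minimal

end Cfsg.Agent.SolvableSignalizer
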